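import Groth.Prelude.Def_EndRing
import Groth.Prelude.Def_SGA7IX
import Groth.Agent.Sga3C.SubGrp
import Groth.Agent.Sga7.H734.NerHom
import Mathlib.LinearAlgebra.Dimension.Constructions
import Mathlib.LinearAlgebra.FreeModule.StrongRankCondition
import Mathlib.FieldTheory.Tower
import Mathlib.RingTheory.TensorProduct.Finite

/-!
# Endomorphism rings of commutative group schemes: base change, conjugation, Néron models, and an
algebraic lemma on fields of large degree acting on lattices.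
-/

set_option autoImplicit false
universe u
open CategoryTheory MonoidalCategory CartesianMonoidalCategory MonObj GrpObj AlgebraicGeometry
open scoped TensorProduct

namespace Groth.Agent.SGA7.K566.EndBc

section alg

/-- A field of degree `d` acting on a rational vector space of positive dimension `r` has `d ≤ r`. -/
theorem le_of_action (L V : Type*) [Field L] [Algebra ℚ L] [AddCommGroup V] [Module ℚ V]
    [Module.Finite ℚ L] [Module.Finite ℚ V] (ψ : L →ₐ[ℚ] Module.End ℚ V) (h : Module.finrank ℚ V ≠ 0) :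
    Module.finrank ℚ L ≤ Module.finrank ℚ V := by
  let _ : Module L V := Module.compHom V ψ.toRingHom
  have hst : IsScalarTower ℚ L V := by
    refine ⟨fun a b v => ?_⟩
    change ψ (a • b) v = a • ψ b v
    rw [map_smul]
    rfl
  have h1 := Module.finrank_mul_finrank ℚ L V
  rw [← h1] at h ⊢
  exact Nat.le_mul_of_pos_right _ (Nat.pos_of_ne_zero (right_ne_zero_of_mul h))

/-- The action of `ℚ ⊗ E` on `ℚ ⊗ Λ`. -/
noncomputable def act {E Λ : Type*} [Ring E] [AddCommGroup Λ] (ρ : E →+* AddMonoid.End Λ) :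
    (ℚ ⊗[ℤ] E) →ₐ[ℚ] Module.End ℚ (ℚ ⊗[ℤ] Λ) :=
  Algebra.TensorProduct.lift (Algebra.ofId ℚ _)
    (((Module.End.baseChangeHom ℤ ℚ Λ).comp
      (addMonoidEndRingEquivInt Λ).toRingHom.toIntAlgHom).comp ρ.toIntAlgHom)
    (fun x _ => Algebra.commutes x _)

/-- A field of degree `2g` in `ℚ ⊗ E`, with `E` acting on a lattice of rank `r ≤ g`, forces `r = 0`. -/
theorem rank_eq_zero {E Λ : Type*} [Ring E] [AddCommGroup Λ] (ρ : E →+* AddMonoid.End Λ) (r g : ℕ)
    (e : Λ ≃+ (Fin r → ℤ)) (L : Subalgebra ℚ (ℚ ⊗[ℤ] E)) (hL : IsField ↥L) (hLfin : Module.Finite ℚ ↥L)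
    (hdeg : Module.finrank ℚ ↥L = 2 * g) (hr : r ≤ g) : r = 0 := by
  have e' : Λ ≃ₗ[ℤ] (Fin r → ℤ) := e.toIntLinearEquiv
  have hfree : Module.Free ℤ Λ := Module.Free.of_equiv e'.symm
  have hfin : Module.Finite ℤ Λ := Module.Finite.equiv e'.symm
  have hrank : Module.finrank ℚ (ℚ ⊗[ℤ] Λ) = r := by
    rw [Module.finrank_baseChange, e'.finrank_eq, Module.finrank_fin_fun]
  by_contra h0
  let _ : Field ↥L := hL.toField
  have h1 := le_of_action ↥L (ℚ ⊗[ℤ] Λ) ((act ρ).comp L.val) (by rw [hrank]; exact h0)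
  rw [hrank] at h1
  have h2 : Module.finrank ℚ ↥L = 2 * g := hdeg
  omega

end alg

section ring

variable {S S' : Scheme.{u}} (f : S' ⟶ S)

/-- Base change on endomorphism rings. -/
noncomputable def bcEnd (A : Over S) [GrpObj A] [IsCommMonObj A] :
    EndAV.End A →+* EndAV.End (Red.bc f A) where
  toFun φ := EndAV.End.of ((Over.pullback f).map φ.toHom)
  map_one' := EndAV.End.ext ((Over.pullback f).map_id A)
  map_mul' φ ψ := EndAV.End.ext ((Over.pullback f).map_comp ψ.toHom φ.toHom)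
  map_zero' := EndAV.End.ext (Functor.map_one (Over.pullback f))
  map_add' φ ψ := EndAV.End.ext (Functor.map_mul (Over.pullback f) φ.toHom ψ.toHom)

/-- Conjugation by an isomorphism. -/
noncomputable def conjEnd {A B : Over S} [GrpObj A] [IsCommMonObj A] [GrpObj B] [IsCommMonObj B] (e : B ≅ A)
    [IsMonHom e.hom] : EndAV.End A →+* EndAV.End B where
  toFun φ := EndAV.End.of (e.hom ≫ φ.toHom ≫ e.inv)
  map_one' := EndAV.End.ext (by
    change e.hom ≫ 𝟙 A ≫ e.inv = 𝟙 B
    rw [Category.id_comp, e.hom_inv_id])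
  map_mul' φ ψ := EndAV.End.ext (by
    change e.hom ≫ (ψ.toHom ≫ φ.toHom) ≫ e.inv = (e.hom ≫ ψ.toHom ≫ e.inv) ≫ (e.hom ≫ φ.toHom ≫ e.inv)
    simp only [Category.assoc, e.inv_hom_id_assoc])
  map_zero' := EndAV.End.ext (by
    change e.hom ≫ (1 : A ⟶ A) ≫ e.inv = 1
    rw [MonObj.one_comp, MonObj.comp_one])
  map_add' φ ψ := EndAV.End.ext (by
    change e.hom ≫ (φ.toHom * ψ.toHom) ≫ e.inv = (e.hom ≫ φ.toHom ≫ e.inv) * (e.hom ≫ ψ.toHom ≫ e.inv)
    rw [MonObj.mul_comp, MonObj.comp_mul])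

/-- Endomorphisms of `H` act on `Hom(G, H)`. -/
noncomputable def actEnd (G H : Over S) [GrpObj G] [IsCommMonObj G] [GrpObj H] [IsCommMonObj H] :
    EndAV.End H →+* AddMonoid.End (EndAV.Hom G H) where
  toFun φ :=
    { toFun := fun l => l ≫ φ
      map_zero' := Limits.zero_comp
      map_add' := fun a b => Preadditive.add_comp _ _ _ a b φ }
  map_one' := AddMonoidHom.ext fun l => Category.comp_id l
  map_mul' φ ψ := AddMonoidHom.ext fun l => (Category.assoc l ψ φ).symm
  map_zero' := AddMonoidHom.ext fun l => by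
    change l ≫ (0 : CommGrp.mk H ⟶ CommGrp.mk H) = 0
    exact Limits.comp_zero
  map_add' φ ψ := AddMonoidHom.ext fun l => Preadditive.comp_add _ _ _ l φ ψ

/-- Endomorphisms of a Néron model. -/
theorem bijective_bcEnd {R K : Type u} [CommRing R] [Field K] [Algebra R K]
    (N : Over (Spec (CommRingCat.of R))) [GrpObj N] [IsCommMonObj N] (hN : SGA7.IsNeron R K N) :
    Function.Bijective (bcEnd (Spec.map (CommRingCat.ofHom (algebraMap R K))) N) := by
  refine ⟨fun φ ψ h => ?_, fun w => ?_⟩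
  · apply EndAV.End.ext
    exact (hN.2.2.2 N hN.1).1 (congrArg EndAV.End.toHom h)
  · obtain ⟨v, hv, hm⟩ := Sga7.H734.NerHom.exists_hom N N hN.1 hN w.toHom
    exact ⟨EndAV.End.of v, EndAV.End.ext hv⟩

end ring

end Groth.Agent.SGA7.K566.EndBc
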