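import Groth.Agent.Sga7.H109.Dense
import Groth.Agent.Sga7.H729.Closure

/-!
Topological density of the `ℓ`-power torsion points of a smooth connected commutative algebraic
group without closed additive subgroup over an algebraically closed field.
-/

set_option autoImplicit false
universe u
open CategoryTheory MonoidalCategory CartesianMonoidalCategory MonObj GrpObj AlgebraicGeometry Limits

namespace Groth.Agent.SGA7.K566.TorsDense

open Books.AlgPts Books.AlgPtsGrp Sga7.H109.Basic

variable {k : Type u} [Field k] [IsAlgClosed k] {G : Over (Spec (CommRingCat.of k))} [GrpObj G]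
  [IsCommMonObj G]

/-- The subgroup of `ℓ`-power torsion points. -/
def tors (G : Over (Spec (CommRingCat.of k))) [GrpObj G] [IsCommMonObj G] (l : ℕ) :
    Subgroup (𝟙_ (Over (Spec (CommRingCat.of k))) ⟶ G) where
  carrier := {x | ∃ n : ℕ, x ^ (l ^ n) = 1}
  mul_mem' := by
    rintro a b ⟨m, hm⟩ ⟨n, hn⟩
    refine ⟨m + n, ?_⟩
    rw [_root_.mul_pow, pow_add, pow_mul, hm, one_pow, _root_.mul_comm (l ^ m), pow_mul, hn, one_pow,
      _root_.mul_one]
  one_mem' := ⟨0, one_pow _⟩
  inv_mem' := by
    rintro a ⟨m, hm⟩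
    exact ⟨m, by rw [inv_pow, hm, inv_one]⟩

theorem dense_tors [Smooth G.hom] [QuasiCompact G.hom] [ConnectedSpace G.left] (hG : NoGa G) (l : ℕ)
    (hl : l.Prime) (hlK : (l : k) ≠ 0) :
    closure (pt '' (tors G l : Set (𝟙_ (Over (Spec (CommRingCat.of k))) ⟶ G))) = Set.univ := by
  obtain ⟨Y, _, i, _, hi, -, hr, hlift, -⟩ := Sga7.H729.Closure.exists_closure G (tors G l)
  have h1 : IsIso i := Sga7.H109.Dense.isIso_of_torsion hG i l hl hlK fun n x hx => hlift x ⟨n, hx⟩
  have h2 : IsIso i.left := inferInstanceAs (IsIso ((Over.forget _).map i))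
  rw [← hr]
  exact i.left.surjective.range_eq

end Groth.Agent.SGA7.K566.TorsDense
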