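import Groth.Agent.SGA7.K566.FlatDense
import Groth.Agent.SGA7.K566.TorsDense
import Groth.Agent.Sga3.H826.LiftTors
import Groth.Agent.Sga3.H826.DvrExt
import Groth.Agent.Sga7.H301.NoGa
import Groth.Agent.Sga7.H738.S4057Comm
import Groth.Agent.Sga7.H758.Descend
import Groth.Agent.S0346

/-!
A homomorphism from a smooth commutative group scheme with connected fibres and special fibre of
unipotent rank zero over a strictly henselian discrete valuation ring to a separated smooth group
scheme is trivial if it is trivial on the special fibre.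
-/

set_option autoImplicit false
universe u
open CategoryTheory MonoidalCategory CartesianMonoidalCategory MonObj GrpObj AlgebraicGeometry Limits
open IsLocalRing

namespace Groth.Agent.SGA7.K566.NeronHom

open Sga3.H826.LiftTors Sga3.H826.ImmCrit Sga3.H797.HomFin Sga3B.BcPts Books.AlgPts Sga7.H109.Basic

lemma exists_prime (k : Type*) [Field k] : ∃ l : ℕ, l.Prime ∧ (l : k) ≠ 0 := by
  by_cases h2 : ((2 : ℕ) : k) = 0
  · refine ⟨3, Nat.prime_three, fun h3 => ?_⟩
    have h4 : (1 : k) = ((3 : ℕ) : k) - ((2 : ℕ) : k) := by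
      push_cast
      ring
    rw [h2, h3, sub_zero] at h4
    exact one_ne_zero h4
  · exact ⟨2, Nat.prime_two, h2⟩

lemma inv_of_residue {R : Type u} [CommRing R] [IsLocalRing R] {l : ℕ} (h : (l : ResidueField R) ≠ 0) :
    Inv l (Spec (CommRingCat.of R)) := by
  have h1 : IsUnit (l : R) := by
    by_contra h2
    apply h
    have h3 : (l : R) ∈ maximalIdeal R := (mem_maximalIdeal _).2 h2
    have h4 := (residue_eq_zero_iff _).2 h3
    rwa [map_natCast] at h4
  have h2 := IsUnit.map (Scheme.ΓSpecIso (CommRingCat.of R)).inv.hom h1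
  rwa [map_natCast] at h2

section bc

variable {S S' : Scheme.{u}} (f : S' ⟶ S)

lemma bcEquiv_symm_left {T : Over S'} {G : Over S} (x : T ⟶ Red.bc f G) :
    ((bcEquiv f T G).symm x).left = x.left ≫ pullback.fst G.hom f := by
  simp [bcEquiv, Adjunction.homEquiv_counit]

end bc

variable {R : Type u} [CommRing R] [IsDomain R] [IsDiscreteValuationRing R] [HenselianLocalRing R]
  [IsAlgClosed (ResidueField R)]

omit [IsDomain R] [IsDiscreteValuationRing R] [IsAlgClosed (ResidueField R)] in
theorem clo_closedPoint (z : Spec (CommRingCat.of (ResidueField R))) : (clo R) z = closedPoint R := by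
  have : z = closedPoint (ResidueField R) := Subsingleton.elim _ _
  rw [this]
  exact IsLocalRing.comap_closedPoint (residue R)

theorem core {G H : Over (Spec (CommRingCat.of R))} [GrpObj G] [GrpObj H] [IsCommMonObj G]
    [Smooth G.hom] [IsSeparated G.hom] [QuasiCompact G.hom] [GeometricallyIrreducible G.hom]
    [Smooth H.hom] [IsSeparated H.hom] (hG : NoGa (Red.bc (clo R) G)) (u : G ⟶ H) [IsMonHom u]
    (hu : ∀ d : clPt R ⟶ G, d ≫ u = 1) : u = 1 := by
  obtain ⟨l, hl, hl0⟩ := exists_prime (ResidueField R)
  have hcomm : IsCommMonObj (Red.bc (clo R) G) := inferInstanceAs (IsCommMonObj ((Over.pullback (clo R)).obj G))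
  have hirr : IrreducibleSpace ↥(pullback G.hom (clo R)) :=
    GeometricallyIrreducible.geometrically_irreducibleSpace (f := G.hom) (clo R) _ _ (IsPullback.of_hasPullback _ _)
  have hconn : ConnectedSpace (Red.bc (clo R) G).left := inferInstanceAs (ConnectedSpace ↥(pullback G.hom (clo R)))
  have hsm : Smooth (Red.bc (clo R) G).hom := inferInstanceAs (Smooth (pullback.snd G.hom (clo R)))
  have hqc : QuasiCompact (Red.bc (clo R) G).hom := inferInstanceAs (QuasiCompact (pullback.snd G.hom (clo R)))
  have hdense := TorsDense.dense_tors (G := Red.bc (clo R) G) hG l hl hl0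
  let D : Set G.left := {x | ∃ a : 𝟙_ (Over (Spec (CommRingCat.of R))) ⟶ G, a.left (closedPoint R) = x ∧ a ≫ u = 1}
  have hD : (pullback.fst G.hom (clo R)) '' (pt '' (TorsDense.tors (Red.bc (clo R) G) l :
      Set (𝟙_ (Over (Spec (CommRingCat.of (ResidueField R)))) ⟶ Red.bc (clo R) G))) ⊆ D := by
    rintro _ ⟨_, ⟨x, ⟨n, hx⟩, rfl⟩, rfl⟩
    let e : clPt R ⟶ (Over.map (clo R)).obj (𝟙_ (Over (Spec (CommRingCat.of (ResidueField R))))) :=
      Over.homMk (𝟙 _) (by simp)
    let d : clPt R ⟶ G := e ≫ (bcMulEquiv (clo R) _ G).symm x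
    have hd : d ^ (l ^ n) = 1 := by
      rw [← MonObj.comp_pow, ← map_pow, hx, map_one, MonObj.comp_one]
    have hdl : d.left = x.left ≫ pullback.fst G.hom (clo R) := by
      change (𝟙 _) ≫ ((bcEquiv (clo R) _ G).symm x).left = _
      rw [bcEquiv_symm_left, Category.id_comp]
    have hinv : Inv (l ^ n) (Spec (CommRingCat.of R)) := by
      apply inv_of_residue
      rw [Nat.cast_pow]
      exact pow_ne_zero _ hl0
    obtain ⟨a, ha, had⟩ := exists_lift_torsion (pow_ne_zero n hl.ne_zero) hinv d hd
    refine ⟨a, ?_, ?_⟩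
    · have h1 := congrArg (fun f => f.left (closedPoint (ResidueField R))) had
      have h2 : (red a).left (closedPoint (ResidueField R)) = a.left (closedPoint R) :=
        (Scheme.Hom.comp_apply _ _ _).trans (congrArg a.left (clo_closedPoint (R := R) _))
      have h3 : d.left (closedPoint (ResidueField R)) = (pullback.fst G.hom (clo R)) (pt x) :=
        (congrArg (fun f => f (closedPoint (ResidueField R))) hdl).trans (Scheme.Hom.comp_apply _ _ _)
      exact h2.symm.trans (h1.trans h3)
    · refine eq_one_of_pow (pow_ne_zero n hl.ne_zero) hinv _ ?_ ?_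
      · rw [← MonObj.pow_comp, ha, MonObj.one_comp]
      · change toUnit (clPt R) ≫ a ≫ u = 1
        rw [← Category.assoc]
        exact (congrArg (· ≫ u) had).trans (hu d)
  have hcl : ∀ x : G.left, G.hom x = closedPoint R → x ∈ closure D := by
    intro x hx
    obtain ⟨z, hz, -⟩ := Scheme.Pullback.exists_preimage_pullback (f := G.hom) (g := clo R) x
      (closedPoint (ResidueField R)) (hx.trans (clo_closedPoint (R := R) _).symm)
    have h1 : z ∈ closure (pt '' (TorsDense.tors (Red.bc (clo R) G) l :
      Set (𝟙_ (Over (Spec (CommRingCat.of (ResidueField R)))) ⟶ Red.bc (clo R) G))) := by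
      rw [hdense]; trivial
    have h2 := image_closure_subset_closure_image (pullback.fst G.hom (clo R)).continuous ⟨z, h1, rfl⟩
    rw [hz] at h2
    exact closure_mono hD h2
  have hx₀ : G.hom (η[G].left (closedPoint R)) = closedPoint R := by
    have h1 : (η[G] : 𝟙_ (Over (Spec (CommRingCat.of R))) ⟶ G).left ≫ G.hom = 𝟙 _ := Over.w _
    exact (Scheme.Hom.comp_apply _ _ _).symm.trans (congrArg (fun f => f (closedPoint R)) h1)
  obtain ⟨U, hU, hUe⟩ := FlatDense.exists_open_eq G.hom H.hom u.left (1 : G ⟶ H).left (Over.w _) (Over.w _) D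
    (by
      rintro x ⟨a, hax, hau⟩
      refine ⟨a.left, Over.w a, hax, ?_⟩
      have h1 : a ≫ u = a ≫ 1 := by rw [hau, MonObj.comp_one]
      exact congrArg (fun f => f.left) h1) hcl _ hx₀
  have hGi : IrreducibleSpace G.left := GeometricallyIrreducible.irreducibleSpace G.hom G.hom.isOpenMap
  have hGr : IsReduced G.left := Etcore.SmoothRed.isReduced_of_smooth G.hom
  have hdom : IsDominant U.ι := by
    refine ⟨?_⟩
    rw [DenseRange, Scheme.Opens.range_ι]
    exact U.2.dense ⟨_, hU⟩
  ext1
  exact ext_of_isDominant_of_isSeparated H.hom (by rw [Over.w, Over.w]) U.ι hUe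

/-- Unipotent rank zero of the base change to an algebraically closed field. -/
theorem noGa_bc {S : Scheme.{u}} {F : Type u} [Field F] [IsAlgClosed F] (t : Spec (CommRingCat.of F) ⟶ S)
    (G : Over S) [GrpObj G] [LocallyOfFiniteType G.hom] (s : S) (hs : t (closedPoint F) = s)
    (h : SGA7.FibreUnipotentRankZero s G) : NoGa (Red.bc t G) := by
  subst hs
  have h1 := Sga7.H738.RankZeroBc.fibreUnipotentRankZero_bc Sga7.H738.S4057Comm.l2 t G (closedPoint F) h
  exact Sga7.H301.PGrp.NoGa.of_bc (Red.geomPt (S := Spec (CommRingCat.of F)) (closedPoint F)) h1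

section sp

variable {R : Type u} [CommRing R] [IsLocalRing R]

/-- A morphism which maps to the unit point is trivial. -/
theorem comp_eq_one {G H T : Over (Spec (CommRingCat.of R))} [GrpObj H] [IsSeparated H.hom] (u : G ⟶ H)
    (hu : ∀ z : G.left, G.hom z = closedPoint R → u.left z = η[H].left (closedPoint R))
    [IsReduced T.left] (hT : ∀ t : T.left, T.hom t = closedPoint R) (d : T ⟶ G) : d ≫ u = 1 := by
  have hη : IsClosedImmersion η[H].left := (S0346.result _ H).1.1 inferInstance
  obtain ⟨l, hl⟩ := FlatDense.exists_lift_of_range η[H].left (d ≫ u).left (by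
    rintro _ ⟨t, rfl⟩
    refine ⟨closedPoint R, ?_⟩
    have h1 : G.hom (d.left t) = closedPoint R := by
      rw [← hT t, ← Over.w d]
      rfl
    exact (hu _ h1).symm.trans (Scheme.Hom.comp_apply _ _ _).symm)
  have h2 : l = T.hom := by
    have h3 : η[H].left ≫ H.hom = 𝟙 _ := Over.w η[H]
    have h4 : (d ≫ u).left ≫ H.hom = T.hom := Over.w (d ≫ u)
    rw [← h4, ← hl, Category.assoc, h3]
    exact (Category.comp_id l).symm
  ext1
  rw [← hl, h2]
  rfl

end sp

theorem main {R : Type u} [CommRing R] [IsDomain R] [IsDiscreteValuationRing R]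
    {G H : Over (Spec (CommRingCat.of R))} [GrpObj G] [GrpObj H] [IsCommMonObj G]
    [Smooth G.hom] [IsSeparated G.hom] [QuasiCompact G.hom] [GeometricallyIrreducible G.hom]
    [Smooth H.hom] [IsSeparated H.hom] (hG : SGA7.FibreUnipotentRankZero (closedPoint R) G)
    (u : G ⟶ H) [IsMonHom u]
    (hu : ∀ z : G.left, G.hom z = closedPoint R → u.left z = η[H].left (closedPoint R)) : u = 1 := by
  obtain ⟨B, _, _, _, _, _, _, _, _⟩ := Sga3.H826.DvrExt.exists_complete R
  have hhens : HenselianLocalRing B := Sga3.H826.SmSection.henselianLocalRing_of_isAdicComplete B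
  let f : Spec (CommRingCat.of B) ⟶ Spec (CommRingCat.of R) := Spec.map (CommRingCat.ofHom (algebraMap R B))
  have hff : Module.FaithfullyFlat R B := Module.FaithfullyFlat.of_flat_of_isLocalHom
  have hflat : Flat f := by
    rw [Flat.SpecMap_iff, CommRingCat.hom_ofHom, RingHom.flat_algebraMap_iff]
    infer_instance
  have hsurj : Surjective f := ⟨PrimeSpectrum.comap_surjective_of_faithfullyFlat⟩
  have hfc : f (closedPoint B) = closedPoint R := IsLocalRing.comap_closedPoint (algebraMap R B)
  have hcomm : IsCommMonObj (Red.bc f G) := inferInstanceAs (IsCommMonObj ((Over.pullback f).obj G))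
  have hsm : Smooth (Red.bc f G).hom := inferInstanceAs (Smooth (pullback.snd G.hom f))
  have hqc : QuasiCompact (Red.bc f G).hom := inferInstanceAs (QuasiCompact (pullback.snd G.hom f))
  have hsep : IsSeparated (Red.bc f G).hom := inferInstanceAs (IsSeparated (pullback.snd G.hom f))
  have hgi : GeometricallyIrreducible (Red.bc f G).hom :=
    inferInstanceAs (GeometricallyIrreducible (pullback.snd G.hom f))
  have hsm' : Smooth (Red.bc f H).hom := inferInstanceAs (Smooth (pullback.snd H.hom f))
  have hsep' : IsSeparated (Red.bc f H).hom := inferInstanceAs (IsSeparated (pullback.snd H.hom f))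
  have hG' : SGA7.FibreUnipotentRankZero (closedPoint B) (Red.bc f G) :=
    Sga7.H738.RankZeroBc.fibreUnipotentRankZero_bc Sga7.H738.S4057Comm.l2 f G (closedPoint B) (hfc ▸ hG)
  have hG'' : NoGa (Red.bc (clo B) (Red.bc f G)) :=
    noGa_bc (clo B) (Red.bc f G) (closedPoint B) (clo_closedPoint _) hG'
  have huB : IsMonHom ((Over.pullback f).map u : Red.bc f G ⟶ Red.bc f H) := inferInstance
  have h1 : ((Over.pullback f).map u : Red.bc f G ⟶ Red.bc f H) = 1 := by
    refine core hG'' _ fun d => ?_
    have h2 : (bcMulEquiv f (clPt B) G).symm d ≫ u = 1 := by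
      have hred : IsReduced ((Over.map f).obj (clPt B)).left :=
        inferInstanceAs (IsReduced (Spec (CommRingCat.of (ResidueField B))))
      refine comp_eq_one u hu (fun t => ?_) _
      exact (Scheme.Hom.comp_apply _ _ _).trans ((congrArg f (clo_closedPoint (R := B) t)).trans hfc)
    have h3 := bcEquiv_comp f ((bcMulEquiv f (clPt B) G).symm d) u
    have h4 : bcEquiv f (clPt B) G ((bcMulEquiv f (clPt B) G).symm d) = d :=
      (bcMulEquiv f (clPt B) G).apply_symm_apply d
    rw [h4, h2] at h3
    rw [← h3]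
    exact bcEquiv_one f
  refine Sga7.H758.Descend.map_injective f u 1 ?_
  rw [h1]
  exact (Functor.map_one _).symm

end Groth.Agent.SGA7.K566.NeronHom
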