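import Groth.Agent.SGA7.K566.Cochar
import Groth.Agent.SGA7.K566.EndBc
import Groth.Agent.SGA7.K566.NeronHom
import Groth.Agent.Sga7.H331.CoverAll
import Groth.Agent.Sga7.H750.NeronMain
import Groth.Agent.Sga7.H620.NOS
import Groth.Agent.Sga7.H516.N7Asm
import Groth.Agent.Sga7.H301.NoGa
import Groth.Agent.Sga7.H738.S4057Comm
import Groth.Agent.S4077
import Groth.Agent.S0537
import Groth.Agent.Sga4h.ChartDVR

/-!
# Good reduction of semistable abelian varieties with complex multiplication by a field
-/

set_option autoImplicit false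
universe u
open CategoryTheory MonoidalCategory CartesianMonoidalCategory MonObj GrpObj AlgebraicGeometry Limits

namespace Groth.Agent.SGA7.K566.CM

open Sga7.H620.Neutral Sga7.H620.NOS Sga3.H778.NeutralOpen EndBc Cochar Sga7.H109.Basic

section fld

variable {k : Type u} [Field k] [IsAlgClosed k]

/-- The cocharacters of a group with an open connected subgroup. -/
theorem exists_rank_of_open {G H : Over (Spec (CommRingCat.of k))} [GrpObj G] [IsCommMonObj G] [GrpObj H]
    [IsCommMonObj H] [LocallyOfFiniteType H.hom] (j : G ⟶ H) [IsMonHom j] [IsOpenImmersion j.left]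
    [Smooth G.hom] [QuasiCompact G.hom] [ConnectedSpace G.left] (h : NoGa H) :
    ∃ r : ℕ, Nonempty (EndAV.Hom (Red.Gm (Spec (CommRingCat.of k))) H ≃+ (Fin r → ℤ)) ∧
      (r : WithBot ℕ∞) ≤ topologicalKrullDim G.left ∧ (r = 0 → IsProper G.hom) := by
  have hsep : IsSeparated H.hom := isSeparated_hom H
  have hjl : Mono j.left := inferInstance
  have hjm : Mono j := Over.mono_of_mono_left j
  have hjq : QuasiCompact j.left := by
    have : QuasiCompact (j.left ≫ H.hom) := by rw [Over.w]; infer_instance
    exact QuasiCompact.of_comp j.left H.hom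
  have hjc : IsClosedImmersion j.left := S3036.result k G H j
  have hG : NoGa G := h.of_closedImmersion j
  obtain ⟨r, ⟨e⟩, h1, h2⟩ := exists_rank G hG
  have hb := bijective_postcomp j (fun l hl => by
    have hclopen : IsClopen (Set.range j.left) :=
      ⟨j.left.isClosedEmbedding.isClosed_range, j.left.isOpenEmbedding.isOpen_range⟩
    have h3 : IsClopen (l.left ⁻¹' Set.range j.left) := hclopen.preimage l.left.continuous
    have h4 : (l.left ⁻¹' Set.range j.left) = Set.univ := by
      refine h3.eq_univ ⟨(η[Red.Gm (Spec (CommRingCat.of k))] : 𝟙_ (Over (Spec (CommRingCat.of k))) ⟶ _).left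
        (IsLocalRing.closedPoint k), ?_⟩
      refine ⟨(η[G] : 𝟙_ (Over (Spec (CommRingCat.of k))) ⟶ _).left (IsLocalRing.closedPoint k), ?_⟩
      have h5 : η[Red.Gm (Spec (CommRingCat.of k))] ≫ l = η[G] ≫ j := by
        rw [IsMonHom.one_hom, IsMonHom.one_hom]
      have h6 := congrArg (fun f => f.left (IsLocalRing.closedPoint k)) h5
      exact ((Scheme.Hom.comp_apply _ _ _).symm.trans (h6.symm.trans (Scheme.Hom.comp_apply _ _ _)))
    have h5 : Set.range l.left ⊆ Set.range j.left := by
      rintro _ ⟨x, rfl⟩
      have : x ∈ (l.left ⁻¹' Set.range j.left) := by rw [h4]; trivial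
      exact this
    refine ⟨Over.homMk (IsOpenImmersion.lift j.left l.left h5) ?_, ?_⟩
    · rw [← Over.w j, ← Category.assoc, IsOpenImmersion.lift_fac, Over.w]
    · ext1
      exact IsOpenImmersion.lift_fac _ _ _)
  exact ⟨r, ⟨(AddEquiv.ofBijective _ hb).symm.trans e⟩, h1, h2⟩

end fld

section neron

open scoped TensorProduct

variable (R K : Type u) [CommRing R] [IsDomain R] [IsDiscreteValuationRing R] [Field K] [Algebra R K]
  [IsFractionRing R K] (N : Over (Spec (CommRingCat.of R))) [GrpObj N] (hN : SGA7.IsNeron R K N)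
  [IsProper ((SGA7.genFib R K).obj N).hom] [GeometricallyIntegral ((SGA7.genFib R K).obj N).hom]

include hN in
/-- If the geometric special fibre of the identity component is proper then the Néron model is proper. -/
theorem isProper_of_geo (h0 : IsOpen (SGA3x.neutralSet N)) [GrpObj (opn N (neutral N h0))]
    [IsMonHom (opnι N (neutral N h0))]
    (p1 : IsProper (Red.bc (geoPt R) (opn N (neutral N h0))).hom) : IsProper N.hom := by
  have hsm : Smooth N.hom := hN.1
  have hsep : IsSeparated N.hom := hN.2.1
  have hsm0 := smooth_neutral' N h0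
  have hqc0 := quasiCompact_neutral N h0
  have hsep0 : IsSeparated (opn N (neutral N h0)).hom := by
    rw [← Over.w (opnι N (neutral N h0))]
    infer_instance
  have p2 := isProper_special_of_geoPt R (opn N (neutral N h0)) p1
  set fK := Spec.map (CommRingCat.ofHom (algebraMap R K)) with hfK
  have i1 : GeometricallyIntegral (Red.bc fK N).hom := inferInstanceAs (GeometricallyIntegral ((SGA7.genFib R K).obj N).hom)
  have i1' : IsProper (Red.bc fK N).hom := inferInstanceAs (IsProper ((SGA7.genFib R K).obj N).hom)
  have i2 : IsIntegral (Red.bc fK N).left := GeometricallyIntegral.isIntegral_of_subsingleton (Red.bc fK N).hom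
  have i3 : ConnectedSpace (Red.bc fK N).left := inferInstance
  have i4 := isIso_bc_neutral N h0 fK
  have i5 : IsIso ((Over.pullback fK).map (opnι N (neutral N h0))).left :=
    inferInstanceAs (IsIso ((Over.forget _).map ((Over.pullback fK).map (opnι N (neutral N h0)))))
  have i6 : ((Over.pullback fK).map (opnι N (neutral N h0))).left ≫ (Red.bc fK N).hom =
      (Red.bc fK (opn N (neutral N h0))).hom := Over.w _
  have hK : IsProper (Red.bc fK (opn N (neutral N h0))).hom := by
    rw [← i6]
    infer_instance
  have hKi : GeometricallyIntegral (Red.bc fK (opn N (neutral N h0))).hom := by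
    rw [← i6]
    have j1 : MorphismProperty.IsStableUnderBaseChange @GeometricallyIntegral.{u} := inferInstance
    have j2 : MorphismProperty.RespectsIso @GeometricallyIntegral.{u} :=
      MorphismProperty.IsStableUnderBaseChange.respectsIso
    exact (MorphismProperty.cancel_left_of_respectsIso (P := @GeometricallyIntegral) _ _).mpr i1
  have hne : ConnectedSpace ↥(pullback (opn N (neutral N h0)).hom
      (Spec.map (CommRingCat.ofHom (IsLocalRing.residue R)))) :=
    connectedSpace_bc_neutral N h0 (Spec.map (CommRingCat.ofHom (IsLocalRing.residue R)))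
  have h1 : IsProper (opn N (neutral N h0)).hom :=
    Sga7.H739.ProperOfFibres.isProper_of_fibres (K := K) (opn N (neutral N h0)).hom hK hKi p2 inferInstance
  have h2 := isIso_opnι R K N hN h0
  have h3 : IsIso (opnι N (neutral N h0)).left := inferInstanceAs (IsIso ((Over.forget _).map (opnι N (neutral N h0))))
  have h4 : (inv (opnι N (neutral N h0)).left) ≫ (opn N (neutral N h0)).hom = N.hom := by
    rw [IsIso.inv_comp_eq]
    exact (Over.w _).symm
  rw [← h4]
  infer_instance

theorem topologicalKrullDim_eq_of_iso {X Y : Scheme.{u}} (e : X ⟶ Y) [IsIso e] :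
    topologicalKrullDim X = topologicalKrullDim Y :=
  IsHomeomorph.topologicalKrullDim_eq _ (Scheme.homeoOfIso (asIso e)).isHomeomorph

include hN in
theorem isProper_of_cm (hss : SGA7.FibreUnipotentRankZero (IsLocalRing.closedPoint R) N) (g : ℕ)
    (hg : topologicalKrullDim ((SGA7.genFib R K).obj N).left = g) [IsCommMonObj N] {E : Type u} [Ring E]
    (α : E →+* EndAV.End N) (L : Subalgebra ℚ (ℚ ⊗[ℤ] E)) (hL : IsField ↥L) (hLfin : Module.Finite ℚ ↥L)
    (hdeg : Module.finrank ℚ ↥L = 2 * g) : IsProper N.hom := by
  have hsm : Smooth N.hom := hN.1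
  have hsep : IsSeparated N.hom := hN.2.1
  have h0 := isOpen_neutral N
  obtain ⟨g0, m0⟩ := exists_grpObj N h0
  have c0 : IsCommMonObj (opn N (neutral N h0)) :=
    Sga7.H620.TorsCount.isCommMonObj_of_mono (opnι N (neutral N h0))
  have hsm0 := smooth_neutral' N h0
  have hqc0 := quasiCompact_neutral N h0
  have s1 : Smooth (Red.bc (geoPt R) (opn N (neutral N h0))).hom :=
    inferInstanceAs (Smooth (pullback.snd (opn N (neutral N h0)).hom (geoPt R)))
  have s2 : QuasiCompact (Red.bc (geoPt R) (opn N (neutral N h0))).hom :=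
    inferInstanceAs (QuasiCompact (pullback.snd (opn N (neutral N h0)).hom (geoPt R)))
  have s3 := connectedSpace_bc_neutral N h0 (geoPt R)
  have s4 : LocallyOfFiniteType (Red.bc (geoPt R) N).hom :=
    inferInstanceAs (LocallyOfFiniteType (pullback.snd N.hom (geoPt R)))
  let j : Red.bc (geoPt R) (opn N (neutral N h0)) ⟶ Red.bc (geoPt R) N :=
    (Over.pullback (geoPt R)).map (opnι N (neutral N h0))
  have s5 : IsOpenImmersion j.left :=
    MorphismProperty.of_isPullback (P := @IsOpenImmersion)
      (isPullback_map_left (geoPt R) (opnι N (neutral N h0))).flip inferInstance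
  have s6 : IsMonHom j := inferInstanceAs (IsMonHom ((Over.pullback (geoPt R)).map (opnι N (neutral N h0))))
  have s7 : IsCommMonObj (Red.bc (geoPt R) (opn N (neutral N h0))) := isCommMonObj_bc _ _
  have s8 : IsCommMonObj (Red.bc (geoPt R) N) := isCommMonObj_bc _ _
  have hNoGa : NoGa (Red.bc (geoPt R) N) :=
    NeronHom.noGa_bc (geoPt R) N (IsLocalRing.closedPoint R) (geoPt_closedPoint R) hss
  obtain ⟨r, ⟨e⟩, hr, hp⟩ := exists_rank_of_open j hNoGa
  obtain ⟨n, hn⟩ := Sga7.H620.DimSmooth.exists_dim (opn N (neutral N h0))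
  have hng : n = g := by
    have i2 : IsIntegral ((SGA7.genFib R K).obj N).left :=
      GeometricallyIntegral.isIntegral_of_subsingleton ((SGA7.genFib R K).obj N).hom
    have i3 : ConnectedSpace (Red.bc (Spec.map (CommRingCat.ofHom (algebraMap R K))) N).left :=
      inferInstanceAs (ConnectedSpace ((SGA7.genFib R K).obj N).left)
    have i4 := isIso_bc_neutral N h0 (Spec.map (CommRingCat.ofHom (algebraMap R K)))
    have i5 : IsIso ((Over.pullback (Spec.map (CommRingCat.ofHom (algebraMap R K)))).map
        (opnι N (neutral N h0))).left :=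
      inferInstanceAs (IsIso ((Over.forget _).map ((Over.pullback _).map (opnι N (neutral N h0)))))
    have h1 := topologicalKrullDim_eq_of_iso ((Over.pullback (Spec.map (CommRingCat.ofHom (algebraMap R K)))).map
        (opnι N (neutral N h0))).left
    have h2 := hn K (Spec.map (CommRingCat.ofHom (algebraMap R K)))
    have h3 : ((n : ℕ) : WithBot ℕ∞) = (g : ℕ) := by
      rw [← h2, ← hg]
      exact h1
    exact_mod_cast h3
  have hr' : r ≤ g := by
    rw [hn _ (geoPt R), hng] at hr
    exact_mod_cast hr
  have hr0 : r = 0 := rank_eq_zero ((actEnd _ _).comp ((bcEnd (geoPt R) N).comp α)) r g e L hL hLfin hdeg hr'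
  exact isProper_of_geo R K N hN h0 (hp hr0)

end neron

end Groth.Agent.SGA7.K566.CM
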