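import Groth.Agent.SGA7.K565.SmallTangent

/-!
# Lifting versal elements through small extensions
-/

set_option autoImplicit false

universe u v

open CategoryTheory ArtFun ArtFun.Art K565.ArtTools

namespace K566.VersalLift

variable {Λ k : Type u} [CommRing Λ] [Field k] [Algebra Λ k]

theorem dual_eq (x : DualNumber k) (hx : x.fst = 0) :
    x = (TrivSqZeroExt.inl x.snd : DualNumber k) * (TrivSqZeroExt.inr 1 : DualNumber k) := by
  refine TrivSqZeroExt.ext ?_ ?_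
  · rw [hx, TrivSqZeroExt.fst_mul, TrivSqZeroExt.fst_inr, mul_zero]
  · rw [TrivSqZeroExt.snd_mul]
    simp

theorem dual_mul_eq_zero (x : DualNumber k) (hx : x.fst = 0) :
    x * (TrivSqZeroExt.inr 1 : DualNumber k) = 0 := by
  refine TrivSqZeroExt.ext ?_ ?_
  · rw [TrivSqZeroExt.fst_mul, TrivSqZeroExt.fst_inr, mul_zero, TrivSqZeroExt.fst_zero]
  · rw [TrivSqZeroExt.snd_mul, hx]
    simp

/-- `k[ε] → k` is a small extension. -/
theorem isSmallExt_dual : IsSmallExt (toBase (dual Λ k)) := by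
  refine isSmallExt_of _ ?_ (TrivSqZeroExt.inr (1 : k) : DualNumber k) ?_ ?_ ?_ ?_
  · intro a
    exact ⟨(TrivSqZeroExt.inl a : DualNumber k), rfl⟩
  · intro h
    have h1 := congrArg TrivSqZeroExt.snd h
    exact one_ne_zero (α := k) h1
  · rfl
  · intro x hx
    exact ⟨(TrivSqZeroExt.inl (TrivSqZeroExt.snd (R := k) (M := k) x) : DualNumber k), dual_eq x hx⟩
  · intro a ha
    exact dual_mul_eq_zero a ha

/-- The key step: if `a` maps onto every tangent vector, then any map lifting the ring can be corrected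
to a map lifting the element. -/
theorem exists_corrected (hk : Function.Surjective (algebraMap Λ k)) (F : Art Λ k ⥤ Type v)
    (hS1 : S1 F) (hHeps : Heps F) {R R₁ R' : Art Λ k} (π₁ : R₁ ⟶ R) (hπ : IsSmallExt π₁)
    (g : R' ⟶ R) (a : F.obj R) (a₁ : F.obj R₁) (a' : F.obj R') (h₁ : F.map π₁ a₁ = a) (h' : F.map g a' = a)
    (hvers : ∀ b : F.obj (dual Λ k), ∃ φ : R ⟶ dual Λ k, F.map φ a = b)
    (f₀ : R' ⟶ R₁) (hf₀ : f₀ ≫ π₁ = g) : ∃ f : R' ⟶ R₁, f ≫ π₁ = g ∧ F.map f a' = a₁ := by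
  obtain ⟨C, p₁, p₂, hC⟩ := exists_isFibreProd hk π₁ π₁ hπ.1
  obtain ⟨q, hq⟩ := K565.SmallTangent.exists_isFibreProd_dual hπ hC
  have hb : F.map π₁ (F.map f₀ a') = F.map π₁ a₁ := by
    rw [← Functor.map_comp_apply, hf₀, h', h₁]
  obtain ⟨z, hz⟩ := hS1 p₁ p₂ π₁ π₁ hC hπ.1 ⟨(F.map f₀ a', a₁), hb⟩
  have hz₁ : F.map p₁ z = F.map f₀ a' := congrArg (fun x => x.1.1) hz
  have hz₂ : F.map p₂ z = a₁ := congrArg (fun x => x.1.2) hz
  obtain ⟨φ, hφ⟩ := hvers (F.map q z)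
  obtain ⟨h, hh₁, hh₂⟩ := exists_lift hq f₀ (g ≫ φ) (by
    rw [eq_toBase (f₀ ≫ toBase R₁)]
    exact (eq_toBase _).symm)
  have hz' : F.map h a' = z := by
    apply (hHeps p₁ q hq).1
    apply FibProd.ext
    · change F.map p₁ (F.map h a') = F.map p₁ z
      rw [← Functor.map_comp_apply, hh₁, hz₁]
    · change F.map q (F.map h a') = F.map q z
      rw [← Functor.map_comp_apply, hh₂, Functor.map_comp_apply, h', hφ]
  refine ⟨h ≫ p₂, ?_, ?_⟩
  · rw [Category.assoc, ← hC.w, ← Category.assoc, hh₁, hf₀]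
  · rw [Functor.map_comp_apply, hz', hz₂]

end K566.VersalLift
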