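import Groth.Prelude.Def_AbDual
import Mathlib.Tactic

/-!
# Elementary facts on the Tate module of points
-/

set_option autoImplicit false
universe u
open CategoryTheory CategoryTheory.Limits AlgebraicGeometry MonObj

namespace K566.TateFacts

open AbDual

variable {S : Scheme.{u}} {A : Over S} [GrpObj A] [IsCommMonObj A] {l : ℕ} {T : Over S}

/-- `ℓ^a x_{n+a} = x_n` -/
lemma pow_smul_comp (x : TateMod A l T) (n a : ℕ) :
    (l ^ a) • (x : ℕ → Additive (T ⟶ A)) (n + a) = (x : ℕ → Additive (T ⟶ A)) n := by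
  induction a with
  | zero => simp
  | succ a ih =>
    rw [pow_succ, mul_nsmul', ← add_assoc, x.compat (n + a), ih]

lemma smul_nat_comp (x : TateMod A l T) (m n : ℕ) :
    ((m • x : TateMod A l T) : ℕ → Additive (T ⟶ A)) n = m • (x : ℕ → Additive (T ⟶ A)) n := rfl

/-- The Tate module is torsion-free. -/
theorem eq_zero_of_nsmul (hl : l.Prime) {m : ℕ} (hm : 0 < m) (x : TateMod A l T) (h : m • x = 0) : x = 0 := by
  obtain ⟨a, c, hc, hmc⟩ := Nat.exists_eq_pow_mul_and_not_dvd hm.ne' l hl.ne_one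
  have hcop : Nat.Coprime l c := (Nat.Prime.coprime_iff_not_dvd hl).2 hc
  apply TateMod.ext
  intro n
  have h1 : m • (x : ℕ → Additive (T ⟶ A)) (n + a) = 0 := by
    rw [← smul_nat_comp, h]; rfl
  rw [hmc, mul_comm, mul_nsmul', pow_smul_comp] at h1
  have h2 := x.torsion n
  have h3 : addOrderOf ((x : ℕ → Additive (T ⟶ A)) n) ∣ c := addOrderOf_dvd_of_nsmul_eq_zero h1
  have h4 : addOrderOf ((x : ℕ → Additive (T ⟶ A)) n) ∣ l ^ n := addOrderOf_dvd_of_nsmul_eq_zero h2
  have h5 : addOrderOf ((x : ℕ → Additive (T ⟶ A)) n) ∣ 1 := by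
    have := Nat.dvd_gcd h4 h3
    rwa [(Nat.Coprime.pow_left n hcop).gcd_eq_one] at this
  have h6 : addOrderOf ((x : ℕ → Additive (T ⟶ A)) n) = 1 := Nat.dvd_one.1 h5
  rw [AddMonoid.addOrderOf_eq_one_iff] at h6
  rw [h6]; rfl

/-- the natural maps `T_ℓ → A[ℓ^ν]` are surjective if the points are `ℓ`-divisible. -/
theorem exists_component_eq (hdiv : ∀ x : T ⟶ A, ∃ y : T ⟶ A, y ^ l = x) (ν : ℕ) (x : T ⟶ A)
    (hx : x ^ (l ^ ν) = 1) : ∃ z : TateMod A l T, (TateMod.component A l T ν z).toMul = x := by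
  choose d hd using hdiv
  -- going up
  let up : ℕ → (T ⟶ A) := fun n => Nat.rec x (fun _ y => d y) n
  have hup : ∀ n, (up (n + 1)) ^ l = up n := fun n => hd _
  have hupl : ∀ n, (up n) ^ (l ^ n) = x := by
    intro n
    induction n with
    | zero => simp [up]
    | succ n ih => rw [pow_succ', pow_mul, hup, ih]
  let s : ℕ → (T ⟶ A) := fun n => if n ≤ ν then x ^ (l ^ (ν - n)) else up (n - ν)
  have hs1 : ∀ n, (s n) ^ (l ^ n) = 1 := by
    intro n
    by_cases hn : n ≤ ν
    · simp only [s, if_pos hn]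
      rw [← pow_mul, ← pow_add, Nat.sub_add_cancel hn, hx]
    · simp only [s, if_neg hn]
      push Not at hn
      obtain ⟨k, rfl⟩ : ∃ k, n = k + ν := ⟨n - ν, by omega⟩
      rw [Nat.add_sub_cancel, pow_add, pow_mul, hupl, hx]
  have hs2 : ∀ n, (s (n + 1)) ^ l = s n := by
    intro n
    by_cases hn : n + 1 ≤ ν
    · simp only [s, if_pos hn, if_pos (show n ≤ ν by omega)]
      rw [← pow_mul, ← pow_succ]
      have : ν - (n + 1) + 1 = ν - n := by omega
      rw [this]
    · by_cases hn' : n = ν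
      · subst hn'
        simp only [s, if_neg hn, if_pos le_rfl, Nat.sub_self, pow_zero, pow_one]
        have : n + 1 - n = 0 + 1 := by omega
        rw [this, hup]
        rfl
      · simp only [s, if_neg hn, if_neg (show ¬ n ≤ ν by omega)]
        have : n + 1 - ν = (n - ν) + 1 := by omega
        rw [this, hup]
  refine ⟨⟨fun n => Additive.ofMul (s n), fun n => ?_, fun n => ?_⟩, ?_⟩
  · exact congrArg Additive.ofMul (hs1 n)
  · exact congrArg Additive.ofMul (hs2 n)
  · change s ν = x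
    simp [s]

end K566.TateFacts
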