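import Groth.Prelude.Def_SGA7IX
import Groth.Agent.SGA7.K566.TateFacts

/-!
# Level two inertia with a complement to the fixed part is trivial
-/

set_option autoImplicit false
universe u
open CategoryTheory CategoryTheory.Limits AlgebraicGeometry MonObj

namespace K566.FixedCompl

open SGA7 AbDual K566.TateFacts

variable {K Ω : Type u} [Field K] [Field Ω] [Algebra K Ω]

/-- If inertia is of level two on the `ℓ`-power torsion and the fixed part of the Tate module has an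
inertia-stable complement up to isogeny, then inertia acts trivially. -/
theorem inertiaTrivialOn (W : ValuationSubring Ω)
    (A : Over (Spec (CommRingCat.of K))) [GrpObj A] [IsCommMonObj A]
    (l : ℕ) [Fact l.Prime]
    (hdiv : ∀ x : SGA7.pt Ω ⟶ A, ∃ y : SGA7.pt Ω ⟶ A, y ^ l = x)
    (hlev : InertiaLevelTwoOn W A l)
    (ρ : (Ω ≃ₐ[K] Ω) → Module.End ℤ_[l] (AbDual.TateMod A l (SGA7.pt Ω)))
    (hρ : ∀ (τ : Ω ≃ₐ[K] Ω) (z : AbDual.TateMod A l (SGA7.pt Ω)) (m : ℕ),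
      (AbDual.TateMod.component A l (SGA7.pt Ω) m (ρ τ z)).toMul =
        SGA7.galAct τ (AbDual.TateMod.component A l (SGA7.pt Ω) m z).toMul)
    (N : Submodule ℤ_[l] (AbDual.TateMod A l (SGA7.pt Ω)))
    (hN : ∀ σ : Ω ≃ₐ[K] Ω, SGA7.IsInertia W σ → ∀ z ∈ N, ρ σ z ∈ N)
    (hcap : ∀ z ∈ N, (∀ σ : Ω ≃ₐ[K] Ω, SGA7.IsInertia W σ → ρ σ z = z) → z = 0)
    (hsum : ∃ m : ℕ, 0 < m ∧ ∀ y : AbDual.TateMod A l (SGA7.pt Ω), ∃ z ∈ N, ∃ w : AbDual.TateMod A l (SGA7.pt Ω),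
      (∀ σ : Ω ≃ₐ[K] Ω, SGA7.IsInertia W σ → ρ σ w = w) ∧ m • y = z + w) (ν : ℕ) :
    InertiaTrivialOn W A (l ^ ν) := by
  have hl : l.Prime := Fact.out
  -- `(ρ τ - 1)(ρ σ - 1) = 0`
  have key : ∀ σ τ : Ω ≃ₐ[K] Ω, IsInertia W σ → IsInertia W τ → ∀ z,
      ρ τ (ρ σ z - z) = ρ σ z - z := by
    intro σ τ hσ hτ z
    apply TateMod.ext
    intro n
    have h1 := hlev n τ σ hτ hσ (TateMod.component A l (SGA7.pt Ω) n z).toMul
      (TateMod.component_mem z n)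
    have h2 : (TateMod.component A l (SGA7.pt Ω) n (ρ σ z - z)).toMul =
        dev σ (TateMod.component A l (SGA7.pt Ω) n z).toMul := by
      rw [map_sub, toMul_sub, hρ, div_eq_mul_inv]
      rfl
    have h3 : (TateMod.component A l (SGA7.pt Ω) n (ρ τ (ρ σ z - z))).toMul =
        (TateMod.component A l (SGA7.pt Ω) n (ρ σ z - z)).toMul := by
      rw [hρ, h2]
      rw [dev, mul_inv_eq_one] at h1
      exact h1
    exact Additive.toMul.injective h3
  -- elements of `N` vanish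
  have hN0 : ∀ z ∈ N, z = 0 := by
    intro z hz
    refine hcap z hz fun σ hσ => ?_
    have h1 : ρ σ z - z = 0 :=
      hcap _ (N.sub_mem (hN σ hσ z hz) hz) fun τ hτ => key σ τ hσ hτ z
    exact sub_eq_zero.1 h1
  obtain ⟨m, hm, hsum⟩ := hsum
  have hfix : ∀ σ : Ω ≃ₐ[K] Ω, IsInertia W σ → ∀ y, ρ σ y = y := by
    intro σ hσ y
    obtain ⟨z, hz, w, hw, hy⟩ := hsum y
    rw [hN0 z hz, zero_add] at hy
    rw [← sub_eq_zero]
    refine eq_zero_of_nsmul hl hm _ ?_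
    rw [smul_sub, ← map_nsmul, hy, hw σ hσ, sub_self]
  intro σ hσ x hx
  obtain ⟨z, hz⟩ := exists_component_eq hdiv ν x hx
  have h1 := hρ σ z ν
  rw [hfix σ hσ z, hz] at h1
  exact h1.symm

end K566.FixedCompl
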