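import Groth.Prelude.Def_SGA7IX
import Mathlib.RingTheory.LocalRing.ResidueField.Basic

/-!
# Small facts on primes invertible in the residue field
-/

set_option autoImplicit false
universe u

namespace K566.PrimeAux

theorem exists_prime (k : Type u) [Field k] : ∃ l : ℕ, l.Prime ∧ (l : k) ≠ 0 := by
  by_cases h : ((2 : ℕ) : k) = 0
  · refine ⟨3, Nat.prime_three, fun h3 => one_ne_zero (α := k) ?_⟩
    have : ((3 : ℕ) : k) = ((2 : ℕ) : k) + 1 := by push_cast; norm_num
    rw [this, h, zero_add] at h3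
    exact h3
  · exact ⟨2, Nat.prime_two, h⟩

theorem ne_zero_of_residue (R K : Type u) [CommRing R] [IsLocalRing R] [Field K] [Algebra R K]
    (hinj : Function.Injective (algebraMap R K)) {l : ℕ} (h : (l : IsLocalRing.ResidueField R) ≠ 0) :
    (l : K) ≠ 0 := by
  intro h0
  apply h
  have h1 : algebraMap R K (l : R) = 0 := by rw [map_natCast, h0]
  have h2 : (l : R) = 0 := hinj (by rw [h1, map_zero])
  rw [← map_natCast (IsLocalRing.residue R), h2, map_zero]

theorem ne_zero_of_dvd {k : Type u} [Field k] {l n : ℕ} (hln : l ∣ n) (h : (n : k) ≠ 0) : (l : k) ≠ 0 := by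
  intro h0
  apply h
  obtain ⟨d, rfl⟩ := hln
  rw [Nat.cast_mul, h0, zero_mul]

end K566.PrimeAux
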