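import Groth.Agent.SGA7.K566.GoodTheta
import Groth.Agent.SGA7.K852.Sch
import Groth.Agent.SGA7.K543.Full

/-!
# Tate's theorem on the generic fibres of Barsotti–Tate groups, in the form used for potentially good reduction
-/

set_option autoImplicit false
set_option linter.style.haveILetI false

universe u

open CategoryTheory CategoryTheory.Limits MonoidalCategory CartesianMonoidalCategory AlgebraicGeometry MonObj

namespace Groth.Agent.SGA7.K566.GoodTF

open Groth.Agent.Sga7.H753.NerTwist Groth.Agent.Sga7.H753.NerHom Groth.Agent.SGA7.K566.GoodTheta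

theorem tfq (R K : Type u) [CommRing R] [IsDomain R] [IsDiscreteValuationRing R] [CharZero R]
    [Field K] [Algebra R K] [IsFractionRing R K] (p h : ℕ) [Fact p.Prime]
    (hp : (p : R) ∈ IsLocalRing.maximalIdeal R) : TFq (ιg R K) p h := by
  intro G H u hu hincl hproj
  obtain ⟨F, F', h1, h2, h3, h4⟩ := K852.Sch.exists_iso
    (K852.Sch.full_of_NFull K543.TateFull.nFull R K p hp) G H u hu
    (fun n => (hincl n).symm) (fun n => (hproj n).symm)
  exact ⟨fun n => ⟨F.app n, F'.app n, h3 n, h4 n⟩, fun n => F.hom_app n, fun n => h1 n⟩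

end Groth.Agent.SGA7.K566.GoodTF
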