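import Groth.Agent.SGA7.K566.GoodGeo
import Groth.Agent.SGA7.K566.GoodTF
import Groth.Agent.Sga7.H753.Core
import Groth.Agent.S4054

/-!
# Potentially good reduction and Barsotti–Tate groups: potentially good implies good

Let `R` be a discrete valuation ring of characteristic `0` with residue characteristic `p`, `A` an abelian variety over its fraction field `K`
whose `p`-divisible group extends to a Barsotti–Tate group over `R`. If `A` has good reduction over a finite
normal extension of `K`, then `A` has good reduction over `R`.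
-/

set_option autoImplicit false
set_option linter.unusedSectionVars false
set_option linter.style.haveILetI false

universe u

open CategoryTheory CategoryTheory.Limits MonoidalCategory CartesianMonoidalCategory AlgebraicGeometry MonObj

namespace Groth.Agent.SGA7.K566.GoodMain

open Groth.Agent.Sga7.H753.BaseExt Groth.Agent.Sga7.H753.NerHom Groth.Agent.SGA7.K566.GoodTw
open Groth.Agent.SGA7.K566.GoodTheta Groth.Agent.Sga7.H481 Groth.Agent.Sga7.H753

section field

variable {K Ω : Type u} [Field K] [Field Ω] [Algebra K Ω] {W : ValuationSubring Ω} (E : IntermediateField K Ω) [Normal K E]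

/-- the restriction of `σ` to `E`. -/
noncomputable def tE (σ : Ω ≃ₐ[K] Ω) : E ≃ₐ[K] E := AlgEquiv.restrictNormal σ E

theorem coe_tE (σ : Ω ≃ₐ[K] Ω) (x : E) : ((tE E σ x : E) : Ω) = σ (x : Ω) := AlgEquiv.restrictNormal_commutes σ E x

theorem mem_tE {σ : Ω ≃ₐ[K] Ω} (hσ : SGA7.IsInertia W σ) {x : E} (hx : x ∈ Core.tr W E) : tE E σ x ∈ Core.tr W E := by
  change ((tE E σ x : E) : Ω) ∈ W
  rw [coe_tE]
  exact (hσ _ hx).1

/-- the restriction of `σ` to the valuation ring of `E`. -/
noncomputable def sE {σ : Ω ≃ₐ[K] Ω} (hσ : SGA7.IsInertia W σ) : Core.tr W E ≃+* Core.tr W E :=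
  { toFun := fun x => ⟨tE E σ (x : E), mem_tE E hσ x.2⟩
    invFun := fun x => ⟨tE E σ⁻¹ (x : E), mem_tE E (InertiaField.isInertia_inv hσ) x.2⟩
    left_inv := fun x => by
      apply Subtype.ext
      apply Subtype.ext
      dsimp only
      rw [coe_tE, coe_tE]
      exact σ.symm_apply_apply _
    right_inv := fun x => by
      apply Subtype.ext
      apply Subtype.ext
      dsimp only
      rw [coe_tE, coe_tE]
      exact σ.apply_symm_apply _
    map_mul' := fun x y => Subtype.ext (map_mul (tE E σ) (x : E) (y : E))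
    map_add' := fun x y => Subtype.ext (map_add (tE E σ) (x : E) (y : E)) }

end field

theorem good (R K Ω : Type u) [CommRing R] [IsDomain R] [IsDiscreteValuationRing R] [CharZero R]
    [Field K] [Algebra R K] [IsFractionRing R K] [Field Ω] [Algebra K Ω] [IsSepClosure K Ω]
    (W : ValuationSubring Ω) (hW : SGA7.LiesOver K R W)
    (l : ℕ) [Fact l.Prime] (hl : (l : R) ∈ IsLocalRing.maximalIdeal R)
    (A : Over (Spec (CommRingCat.of K))) [GrpObj A] [IsCommMonObj A] [IsProper A.hom] [GeometricallyIntegral A.hom]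
    (E : IntermediateField K Ω) [FiniteDimensional K E] [Normal K E]
    (hgood : SGA7.HasGoodReduction (Core.tr W E) E (Red.bc (fKL K E) A))
    (P : ℕ → Over (Spec (CommRingCat.of K))) [∀ ν, GrpObj (P ν)] (i : ∀ ν, P ν ⟶ A) (t : ∀ ν, P (ν + 1) ⟶ P ν)
    (hP : BTGrp.IsTatePro A l P i t)
    (h : ℕ) (G : BTGrp.ProBT l (Spec (CommRingCat.of R)) h)
    (e : ∀ ν, Red.bc (Spec.map (CommRingCat.ofHom (algebraMap R K))) (G.G ν) ≅ P ν)
    (he : ∀ ν, IsMonHom (e ν).hom)
    (het : ∀ ν, (Over.pullback (Spec.map (CommRingCat.ofHom (algebraMap R K)))).map (G.proj ν) ≫ (e ν).hom =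
      (e (ν + 1)).hom ≫ t ν)
    (hei : ∀ ν, (Over.pullback (Spec.map (CommRingCat.ofHom (algebraMap R K)))).map (G.incl ν) ≫
      (e (ν + 1)).hom ≫ i (ν + 1) = (e ν).hom ≫ i ν) :
    SGA7.HasGoodReduction R K A := by
  obtain ⟨N, iN, e₁, he₁, hprop, hsm, hconn⟩ := hgood
  -- an auxiliary prime
  obtain ⟨ℓ, hℓl, hℓ⟩ := Nat.exists_infinite_primes (l + 1)
  have hlr : (l : IsLocalRing.ResidueField R) = 0 := by
    rw [← map_natCast (IsLocalRing.residue R), IsLocalRing.residue_eq_zero_iff]
    exact hl
  have hℓr : (ℓ : IsLocalRing.ResidueField R) ≠ 0 := by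
    intro h0
    have hcop : Nat.Coprime l ℓ := (Nat.coprime_primes Fact.out hℓ).2 (by omega)
    have h1 := Nat.isCoprime_iff_coprime.2 hcop
    obtain ⟨a, b, hab⟩ := h1
    have h2 := congrArg (Int.cast : ℤ → IsLocalRing.ResidueField R) hab
    rw [Int.cast_add, Int.cast_mul, Int.cast_mul, Int.cast_natCast, Int.cast_natCast, hlr, h0, mul_zero, mul_zero,
      add_zero, Int.cast_one] at h2
    exact zero_ne_one h2
  refine Groth.Agent.S4054.result R K Ω W hW ℓ hℓ hℓr A ?_
  intro ν σ hσ x hx
  have hdvr : IsDiscreteValuationRing (Core.tr W E) := Core.isDVR_tr (R := R) W E hW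
  have hLO : SGA7.LiesOver E (Core.tr W E) W := Core.liesOver_tr W E
  have hcK : CharZero K := by
    have : FaithfulSMul R K := inferInstance
    exact charZero_of_injective_algebraMap (IsFractionRing.injective R K)
  have hcE : CharZero E := charZero_of_injective_algebraMap (algebraMap K E).injective
  have hcT : CharZero (Core.tr W E) := ⟨fun a b hab => by
    have h1 := congrArg (Subtype.val : Core.tr W E → E) hab
    have h2 : ∀ n : ℕ, ((n : Core.tr W E) : E) = (n : E) := fun n => map_natCast (Core.tr W E).subtype n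
    rw [h2, h2] at h1
    exact Nat.cast_injective h1⟩
  let φ : R →+* Core.tr W E := RingHom.codRestrict ((algebraMap K E).comp (algebraMap R K)) (Core.tr W E).toSubring
    (fun r => hW.1 r)
  let _ : Algebra R (Core.tr W E) := φ.toAlgebra
  have hlE : (l : Core.tr W E) ∈ IsLocalRing.maximalIdeal (Core.tr W E) := by
    have h1 : W.valuation (algebraMap K Ω (algebraMap R K (l : R))) < 1 := hW.2 _ ((IsLocalRing.mem_maximalIdeal _).1 hl)
    rw [ValuationSubring.valuation_lt_one_iff, Core.tr_val_lt_one_iff]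
    have h2 : (((l : Core.tr W E) : E) : Ω) = algebraMap K Ω (algebraMap R K (l : R)) := by
      rw [map_natCast, map_natCast]
      have h3 : ((l : Core.tr W E) : E) = (l : E) := map_natCast (Core.tr W E).subtype l
      rw [h3]
      exact map_natCast (algebraMap E Ω) l
    rw [h2]
    exact h1
  have htow : IsScalarTower K E Ω := IsScalarTower.of_algebraMap_eq (fun _ => rfl)
  have hℓu : IsUnit ((ℓ ^ ν : ℕ) : Core.tr W E) := by
    rw [Nat.cast_pow]
    refine IsUnit.pow _ ?_
    have h1 : IsUnit (ℓ : R) := by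
      by_contra hn
      apply hℓr
      rw [← map_natCast (IsLocalRing.residue R), IsLocalRing.residue_eq_zero_iff]
      exact hn
    have h2 := h1.map φ
    rwa [map_natCast] at h2
  exact GoodGeo.geo'' (Core.tr W E) E K Ω R (fun _ => rfl) W hLO A l hlE P i t hP h
    (GoodTF.tfq (Core.tr W E) E l h hlE) G e he het hei N hconn e₁ he₁ σ hσ (sE E (InertiaField.isInertia_inv hσ))
    (tE E σ⁻¹) (fun _ => rfl) (fun r => Subtype.ext ((tE E σ⁻¹).commutes (algebraMap R K r)))
    (fun y => by
      change σ ((tE E σ⁻¹ y : E) : Ω) = (y : Ω)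
      rw [coe_tE]
      exact σ.apply_symm_apply _) (ℓ ^ ν) hℓu x hx

end Groth.Agent.SGA7.K566.GoodMain
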