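import Groth.Agent.SGA7.K566.SemismallAlg

/-!
# Semismall versal lifts
-/

set_option autoImplicit false

universe u v

open CategoryTheory ArtFun ArtFun.Art K565.ArtTools IsLocalRing

namespace K566.Semismall

variable {Λ k : Type u} [CommRing Λ] [Field k] [Algebra Λ k]

/-- Minimal quotient of a semismall extension to which an element lifts. -/
theorem exists_minimal (F : Art Λ k ⥤ Type v) {E R : Art Λ k} (p : E ⟶ R) (hp : Function.Surjective p)
    (a : F.obj R) : ∃ (I : Ideal E) (hI : I ≤ RingHom.ker p.toAlgHom)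
      (y : F.obj (quot E I (hI.trans (ker_le_maximalIdeal p)))),
      F.map (quotFactor (hI.trans (ker_le_maximalIdeal p)) p hI) y = a ∧
      ∀ (L : Ideal E) (hL : L ≤ RingHom.ker p.toAlgHom), L ≤ I →
        (∃ z : F.obj (quot E L (hL.trans (ker_le_maximalIdeal p))),
          F.map (quotFactor (hL.trans (ker_le_maximalIdeal p)) p hL) z = a) → L = I := by
  let S : Set (Ideal E) := {I | ∃ (hI : I ≤ RingHom.ker p.toAlgHom)
      (y : F.obj (quot E I (hI.trans (ker_le_maximalIdeal p)))),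
      F.map (quotFactor (hI.trans (ker_le_maximalIdeal p)) p hI) y = a}
  have hne : S.Nonempty := by
    refine ⟨RingHom.ker p.toAlgHom, le_rfl, ?_⟩
    have hiso := isIso_of_bijective _ (quotFactor_bijective (le_refl (RingHom.ker p.toAlgHom) |>.trans
      (ker_le_maximalIdeal p)) p le_rfl le_rfl hp)
    refine ⟨F.map (inv (quotFactor (le_refl (RingHom.ker p.toAlgHom) |>.trans
      (ker_le_maximalIdeal p)) p le_rfl)) a, ?_⟩
    rw [← Functor.map_comp_apply, IsIso.inv_hom_id, F.map_id]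
    rfl
  obtain ⟨I, ⟨hI, y, hy⟩, hmin⟩ := WellFounded.has_min (wellFounded_lt (α := Ideal E)) S hne
  refine ⟨I, hI, y, hy, fun L hL hLI hz => ?_⟩
  by_contra hne'
  exact hmin L ⟨hL, hz⟩ (lt_of_le_of_ne hLI hne')

/-- The minimal quotient maps to every small extension to which the element lifts. -/
theorem exists_map (hk : Function.Surjective (algebraMap Λ k)) (F : Art Λ k ⥤ Type v) (hS1 : S1 F)
    {E R : Art Λ k} (p : E ⟶ R) (hp : Function.Surjective p) (a : F.obj R)
    (I : Ideal E) (hI : I ≤ RingHom.ker p.toAlgHom)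
    (y : F.obj (quot E I (hI.trans (ker_le_maximalIdeal p))))
    (hy : F.map (quotFactor (hI.trans (ker_le_maximalIdeal p)) p hI) y = a)
    (hmin : ∀ (L : Ideal E) (hL : L ≤ RingHom.ker p.toAlgHom), L ≤ I →
        (∃ z : F.obj (quot E L (hL.trans (ker_le_maximalIdeal p))),
          F.map (quotFactor (hL.trans (ker_le_maximalIdeal p)) p hL) z = a) → L = I)
    {R₁ : Art Λ k} (π₁ : R₁ ⟶ R) (hπ : IsSmallExt π₁) (φ : E ⟶ R₁) (hφ : φ ≫ π₁ = p)
    (a₁ : F.obj R₁) (h₁ : F.map π₁ a₁ = a) :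
    ∃ f : quot E I (hI.trans (ker_le_maximalIdeal p)) ⟶ R₁,
      f ≫ π₁ = quotFactor (hI.trans (ker_le_maximalIdeal p)) p hI := by
  have hφ' : ∀ e : E, π₁ (φ e) = p e := fun e => by
    change (φ ≫ π₁) e = p e
    rw [hφ]
  by_cases hIK : I ≤ RingHom.ker φ.toAlgHom
  · refine ⟨quotFactor (hI.trans (ker_le_maximalIdeal p)) φ hIK, ?_⟩
    apply Art.hom_ext
    apply AlgHom.ext
    intro x
    obtain ⟨x, rfl⟩ := quotMk_surjective E I (hI.trans (ker_le_maximalIdeal p)) x
    exact hφ' x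
  exfalso
  obtain ⟨i, hi, hi'⟩ := SetLike.not_le_iff_exists.1 hIK
  obtain ⟨t, ht0, hpt, hker, hm⟩ := IsSmallExt.exists_gen hπ
  have hφi : φ i ≠ 0 := hi'
  have hφi' : π₁ (φ i) = 0 := by
    rw [hφ']
    exact hI hi
  -- every element of `ker π₁` is a multiple of `φ i` by an element of `Λ`
  have hgen : ∀ r : R₁, π₁ r = 0 → ∃ l : Λ, r = φ (algebraMap Λ E l * i) := by
    intro r hr
    obtain ⟨c, hc⟩ := hker _ hφi'
    obtain ⟨d, hd⟩ := hker _ hr
    have hcu : R₁.res c ≠ 0 := by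
      intro h0
      exact hφi (by rw [hc, hm c h0])
    obtain ⟨l, hl⟩ := hk (R₁.res d * (R₁.res c)⁻¹)
    refine ⟨l, ?_⟩
    have e1 : φ (algebraMap Λ E l * i) = algebraMap Λ R₁ l * (c * t) := by
      rw [← hc]
      refine (map_mul φ.toAlgHom _ _).trans ?_
      rw [φ.toAlgHom.commutes]
    have e2 : (d - algebraMap Λ R₁ l * c) * t = 0 := by
      apply hm
      rw [map_sub, map_mul, AlgHom.commutes, hl, mul_assoc, inv_mul_cancel₀ hcu, mul_one, sub_self]
    rw [e1, hd]
    rw [sub_mul] at e2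
    rw [← mul_assoc]
    exact sub_eq_zero.1 e2
  -- the fibre product
  let L : Ideal E := I ⊓ RingHom.ker φ.toAlgHom
  have hLI : L ≤ I := inf_le_left
  have hL : L ≤ RingHom.ker p.toAlgHom := hLI.trans hI
  have hLm := hL.trans (ker_le_maximalIdeal p)
  have hIm := hI.trans (ker_le_maximalIdeal p)
  have hLI' : L ≤ RingHom.ker (quotMk E I hIm).toAlgHom := fun x hx =>
    (quotMk_eq_zero_iff E I hIm x).2 (hLI hx)
  let q₁ : quot E L hLm ⟶ quot E I hIm := quotFactor hLm (quotMk E I hIm) hLI'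
  let q₂ : quot E L hLm ⟶ R₁ := quotFactor hLm φ inf_le_right
  have hfib : IsFibreProd q₁ q₂ (quotFactor hIm p hI) π₁ := by
    refine ⟨?_, ?_, ?_⟩
    · apply Art.hom_ext
      apply AlgHom.ext
      intro x
      obtain ⟨x, rfl⟩ := quotMk_surjective E L hLm x
      exact (hφ' x).symm
    · intro x x' h h'
      obtain ⟨x, rfl⟩ := quotMk_surjective E L hLm x
      obtain ⟨x', rfl⟩ := quotMk_surjective E L hLm x'
      refine Ideal.Quotient.eq.2 ⟨?_, ?_⟩
      · exact Ideal.Quotient.eq.1 h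
      · have h2 : φ.toAlgHom x = φ.toAlgHom x' := h'
        change φ.toAlgHom (x - x') = 0
        rw [map_sub, h2, sub_self]
    · intro x r hxr
      obtain ⟨x, rfl⟩ := quotMk_surjective E I hIm x
      have hxr' : p x = π₁ r := hxr
      obtain ⟨l, hl⟩ := hgen (φ x - r) (by
        refine (map_sub π₁.toAlgHom _ _).trans ?_
        have : π₁.toAlgHom (φ x) = π₁.toAlgHom r := (hφ' x).trans hxr'
        rw [this, sub_self])
      refine ⟨quotMk E L hLm (x - algebraMap Λ E l * i), ?_, ?_⟩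
      · refine Ideal.Quotient.eq.2 ?_
        have e : x - algebraMap Λ E l * i - x = -(algebraMap Λ E l * i) := by ring
        rw [e]
        exact I.neg_mem (I.mul_mem_left _ hi)
      · change φ.toAlgHom (x - algebraMap Λ E l * i) = r
        rw [map_sub]
        have e : φ.toAlgHom (algebraMap Λ E l * i) = φ.toAlgHom x - r := hl.symm
        rw [e]; ring
  obtain ⟨z, hz⟩ := hS1 q₁ q₂ _ π₁ hfib hπ.1 ⟨(y, a₁), by rw [hy, h₁]⟩
  have hz₁ : F.map q₁ z = y := congrArg (fun x => x.1.1) hz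
  have hq : q₁ ≫ quotFactor hIm p hI = quotFactor hLm p hL := by
    apply Art.hom_ext
    apply AlgHom.ext
    intro x
    obtain ⟨x, rfl⟩ := quotMk_surjective E L hLm x
    rfl
  have hLeq : L = I := hmin L hL hLI ⟨z, by rw [← hq, Functor.map_comp_apply, hz₁, hy]⟩
  have hiL : i ∈ L := by rw [hLeq]; exact hi
  exact hi' hiL.2

theorem isLocalRing_of_pow {A : Type u} [CommRing A] (m : Ideal A) (hm : m.IsMaximal) (n : ℕ) (h : m ^ n = ⊥) :
    IsLocalRing A := by
  refine IsLocalRing.of_unique_max_ideal ⟨m, hm, fun m' hm' => ?_⟩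
  have h1 : m ^ n ≤ m' := by rw [h]; exact bot_le
  have h2 : m ≤ m' := hm'.isPrime.le_of_pow_le h1
  exact (hm.eq_of_le hm'.ne_top h2).symm

variable [IsLocalRing Λ] [IsNoetherianRing Λ]

/-- The universal semismall extension. -/
theorem exists_univ (hk : Function.Surjective (algebraMap Λ k)) (R : Art Λ k) :
    ∃ (E : Art Λ k) (p : E ⟶ R), IsSemismallExt p ∧
      (∀ x : E, p x ∈ NN Λ R (maximalIdeal R) → x ∈ NN Λ E (maximalIdeal E)) ∧
      ∀ {R₁ : Art Λ k} (π₁ : R₁ ⟶ R), IsSmallExt π₁ → ∃ φ : E ⟶ R₁, φ ≫ π₁ = p := by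
  classical
  obtain ⟨σ, _, π, hπ, hker⟩ := exists_presentation hk R
  let ρ : MvPolynomial σ Λ →ₐ[Λ] k := R.res.comp π
  have hρ : Function.Surjective ρ := R.res_surjective.comp hπ
  obtain ⟨M, hM⟩ : ∃ M : Ideal (MvPolynomial σ Λ), M = RingHom.ker ρ := ⟨_, rfl⟩
  have hMmax : M.IsMaximal := by rw [hM]; exact RingHom.ker_isMaximal_of_surjective ρ hρ
  obtain ⟨J, hJ⟩ : ∃ J : Ideal (MvPolynomial σ Λ), J = RingHom.ker π := ⟨_, rfl⟩
  have hJM : J ≤ M := by
    intro x hx
    rw [hJ, RingHom.mem_ker] at hx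
    rw [hM, RingHom.mem_ker]
    change R.res (π x) = 0
    rw [hx, map_zero]
  have hMm : M.map π ≤ maximalIdeal R := Ideal.map_le_iff_le_comap.2 fun w hw => by
    rw [Ideal.mem_comap, Art.mem_maximalIdeal_iff]
    rw [hM] at hw
    exact hw
  obtain ⟨n, hn⟩ := isNilpotent_maximalIdeal R
  have hMn : M ^ n ≤ J := by
    intro x hx
    have h1 : π x ∈ maximalIdeal R ^ n := by
      have h2 : (M ^ n).map π ≤ maximalIdeal R ^ n := by
        rw [Ideal.map_pow]
        exact Ideal.pow_right_mono hMm n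
      exact h2 (Ideal.mem_map_of_mem _ hx)
    rw [hn] at h1
    rw [hJ]
    exact h1
  obtain ⟨Q, hQ⟩ : ∃ Q : Ideal (MvPolynomial σ Λ), Q = M * J := ⟨_, rfl⟩
  have hQJ : Q ≤ J := by rw [hQ]; exact Ideal.mul_le_right
  have hQM : Q ≤ M := hQJ.trans hJM
  have hQn : M ^ (n + 1) ≤ Q := by
    rw [hQ, pow_succ']
    exact Ideal.mul_mono_right hMn
  have hmaxQ : (M.map (Ideal.Quotient.mk Q)).IsMaximal :=
    Ideal.IsMaximal.map_of_surjective_of_ker_le Ideal.Quotient.mk_surjective (by rw [Ideal.mk_ker]; exact hQM)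
  have hnil : (M.map (Ideal.Quotient.mk Q)) ^ (n + 1) = ⊥ := by
    rw [← Ideal.map_pow, ← le_bot_iff, ← Ideal.map_quotient_self Q]
    exact Ideal.map_mono hQn
  have hloc : IsLocalRing (MvPolynomial σ Λ ⧸ Q) := isLocalRing_of_pow _ hmaxQ _ hnil
  have hmx : maximalIdeal (MvPolynomial σ Λ ⧸ Q) = M.map (Ideal.Quotient.mk Q) :=
    (IsLocalRing.eq_maximalIdeal hmaxQ).symm
  have hnoeth : IsNoetherianRing (MvPolynomial σ Λ) := MvPolynomial.isNoetherianRing
  have hnoeth' : IsNoetherianRing (MvPolynomial σ Λ ⧸ Q) :=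
    isNoetherianRing_of_surjective _ _ (Ideal.Quotient.mk Q) Ideal.Quotient.mk_surjective
  have hart : IsArtinianRing (MvPolynomial σ Λ ⧸ Q) := by
    rw [isArtinianRing_iff_isNilpotent_maximalIdeal]
    exact ⟨n + 1, by rw [hmx, hnil]; rfl⟩
  let E : Art Λ k :=
    { carrier := MvPolynomial σ Λ ⧸ Q
      res := Ideal.Quotient.liftₐ Q ρ (fun a ha => by
        have := hQM ha
        rw [hM] at this
        exact this)
      res_surjective := fun c => by
        obtain ⟨a, ha⟩ := hρ c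
        exact ⟨Ideal.Quotient.mk _ a, ha⟩ }
  let p : E ⟶ R := ⟨Ideal.Quotient.liftₐ Q π (fun a ha => by
        have := hQJ ha
        rw [hJ] at this
        exact this), by
      apply AlgHom.ext
      intro x
      obtain ⟨a, rfl⟩ := Ideal.Quotient.mk_surjective x
      rfl⟩
  have hpmk : ∀ x : MvPolynomial σ Λ, p (Ideal.Quotient.mk Q x) = π x := fun x => rfl
  have hpsurj : Function.Surjective p := fun r => by
    obtain ⟨a, ha⟩ := hπ r
    exact ⟨Ideal.Quotient.mk Q a, ha⟩
  refine ⟨E, p, ⟨hpsurj, ?_⟩, ?_, ?_⟩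
  · rw [eq_bot_iff, Ideal.mul_le]
    intro x hx y hy
    obtain ⟨x, rfl⟩ := Ideal.Quotient.mk_surjective x
    obtain ⟨y, rfl⟩ := Ideal.Quotient.mk_surjective y
    have hx' : x ∈ M := by
      rw [hM]
      exact (Art.mem_maximalIdeal_iff E _).1 hx
    have hy' : y ∈ J := by
      rw [hJ]
      exact hy
    change Ideal.Quotient.mk Q x * Ideal.Quotient.mk Q y ∈ (⊥ : Ideal (MvPolynomial σ Λ ⧸ Q))
    rw [← map_mul, Ideal.mem_bot, Ideal.Quotient.eq_zero_iff_mem, hQ]
    exact Ideal.mul_mem_mul hx' hy'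
  · intro x hx
    obtain ⟨x, rfl⟩ := Ideal.Quotient.mk_surjective x
    have hx1 : π x ∈ NN Λ R (maximalIdeal R) := hx
    -- `NN R` is the image of `NN P`
    have himg : NN Λ R (maximalIdeal R) ≤ (NN Λ (MvPolynomial σ Λ) M).map π := by
      refine sup_le ?_ ?_
      · have h1 : maximalIdeal R ≤ M.map π := by
          intro r hr
          obtain ⟨a, rfl⟩ := hπ r
          refine Ideal.mem_map_of_mem _ ?_
          rw [hM]
          exact (Art.mem_maximalIdeal_iff R _).1 hr
        refine (Ideal.pow_right_mono h1 2).trans ?_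
        rw [← Ideal.map_pow]
        exact Ideal.map_mono le_sup_left
      · rw [Ideal.map_le_iff_le_comap]
        intro l hl
        rw [Ideal.mem_comap, ← π.commutes l]
        exact Ideal.mem_map_of_mem _ (Ideal.mem_sup_right (Ideal.mem_map_of_mem _ hl))
    obtain ⟨z, hz, hzx⟩ := (Ideal.mem_map_iff_of_surjective (π : MvPolynomial σ Λ →+* R) hπ).1 (himg hx1)
    have hxz : x - z ∈ NN Λ (MvPolynomial σ Λ) M := by
      rw [hM]
      apply hker
      rw [RingHom.mem_ker, map_sub]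
      exact sub_eq_zero.2 hzx.symm
    have hxN : x ∈ NN Λ (MvPolynomial σ Λ) M := by
      have := Ideal.add_mem _ hxz hz
      rwa [sub_add_cancel] at this
    have hle : (NN Λ (MvPolynomial σ Λ) M).map (Ideal.Quotient.mk Q) ≤ NN Λ (MvPolynomial σ Λ ⧸ Q)
        (maximalIdeal (MvPolynomial σ Λ ⧸ Q)) := by
      rw [NN, Ideal.map_sup]
      refine sup_le_sup ?_ ?_
      · rw [Ideal.map_pow, hmx]
      · rw [Ideal.map_map]
        exact le_of_eq rfl
    exact hle (Ideal.mem_map_of_mem _ hxN)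
  · intro R₁ π₁ hπ₁
    choose x hx using fun i : σ => hπ₁.1 (π (MvPolynomial.X i))
    let φ₀ : MvPolynomial σ Λ →ₐ[Λ] R₁ := MvPolynomial.aeval x
    have hφ₀ : π₁.toAlgHom.comp φ₀ = π := by
      apply MvPolynomial.algHom_ext
      intro i
      change π₁.toAlgHom (MvPolynomial.aeval x (MvPolynomial.X i)) = π (MvPolynomial.X i)
      rw [MvPolynomial.aeval_X]
      exact hx i
    have hres : R₁.res.comp φ₀ = ρ := by
      apply AlgHom.ext
      intro y
      change R₁.res (φ₀ y) = R.res (π y)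
      rw [← hφ₀]
      exact (Art.res_app π₁ (φ₀ y)).symm
    have hkill : ∀ y ∈ Q, φ₀ y = 0 := by
      intro y hy
      rw [hQ] at hy
      induction hy using Submodule.mul_induction_on' with
      | mem_mul_mem m hm j hj =>
        have h1 : φ₀ m * φ₀ j ∈ maximalIdeal R₁ * RingHom.ker π₁.toAlgHom := by
          refine Ideal.mul_mem_mul ?_ ?_
          · rw [Art.mem_maximalIdeal_iff]
            rw [hM, ← hres] at hm
            exact hm
          · rw [hJ, ← hφ₀] at hj
            exact hj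
        rw [hπ₁.2.2.2] at h1
        rw [map_mul]
        exact h1
      | add a _ b _ ha hb => rw [map_add, ha, hb, add_zero]
    refine ⟨⟨Ideal.Quotient.liftₐ Q φ₀ hkill, ?_⟩, ?_⟩
    · apply AlgHom.ext
      intro y
      obtain ⟨y, rfl⟩ := Ideal.Quotient.mk_surjective y
      exact congrArg (fun f => f y) hres
    · apply Art.hom_ext
      apply AlgHom.ext
      intro y
      obtain ⟨y, rfl⟩ := Ideal.Quotient.mk_surjective y
      exact congrArg (fun f => f y) hφ₀

end K566.Semismall
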