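import Groth.Prelude.Def_SGA7IX

/-!
# Unipotence of a single Galois element on the `ℓ`-power torsion points: definitions and formal properties
-/

set_option autoImplicit false
universe u
open CategoryTheory MonoidalCategory CartesianMonoidalCategory MonObj GrpObj AlgebraicGeometry Limits

namespace K566.UnipDef

open SGA7

variable {K Ω : Type u} [Field K] [Field Ω] [Algebra K Ω]

/-- The unipotence predicate on a single element. -/
def UnipAt (A : Over (Spec (CommRingCat.of K))) [GrpObj A] (l : ℕ) (σ : Ω ≃ₐ[K] Ω) : Prop :=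
  ∃ m : ℕ, ∀ (ν : ℕ) (x : Pts Ω A), x ^ (l ^ ν) = 1 → (dev σ)^[m] x = 1

/-- Quasi-unipotence: some positive power is unipotent. -/
def QUnipAt (A : Over (Spec (CommRingCat.of K))) [GrpObj A] (l : ℕ) (σ : Ω ≃ₐ[K] Ω) : Prop :=
  ∃ N : ℕ, 0 < N ∧ UnipAt A l (σ ^ N)

section Hom

variable {A B : Over (Spec (CommRingCat.of K))} [GrpObj A] [GrpObj B]

lemma galAct_comp (f : A ⟶ B) (σ : Ω ≃ₐ[K] Ω) (x : Pts Ω A) :
    galAct σ (x ≫ f : Pts Ω B) = galAct σ x ≫ f := by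
  simp only [galAct, Category.assoc]

lemma dev_comp (f : A ⟶ B) [IsMonHom f] (σ : Ω ≃ₐ[K] Ω) (x : Pts Ω A) :
    dev σ (x ≫ f : Pts Ω B) = dev σ x ≫ f := by
  rw [dev, dev, galAct_comp, MonObj.mul_comp, GrpObj.inv_comp]

lemma dev_iter_comp (f : A ⟶ B) [IsMonHom f] (σ : Ω ≃ₐ[K] Ω) (m : ℕ) (x : Pts Ω A) :
    (dev σ)^[m] (x ≫ f : Pts Ω B) = (dev σ)^[m] x ≫ f := by
  induction m generalizing x with
  | zero => rfl
  | succ m ih => rw [Function.iterate_succ_apply, Function.iterate_succ_apply, dev_comp, ih]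

lemma pow_comp' (f : A ⟶ B) [IsMonHom f] (n : ℕ) (x : Pts Ω A) :
    (x ≫ f : Pts Ω B) ^ n = (x ^ n : Pts Ω A) ≫ f := by
  induction n with
  | zero => simp [MonObj.one_comp f]
  | succ n ih => rw [pow_succ, pow_succ, ih, MonObj.mul_comp]

lemma galAct_mul (σ : Ω ≃ₐ[K] Ω) (x y : Pts Ω A) : galAct σ (x * y) = galAct σ x * galAct σ y :=
  MonObj.comp_mul _ _ _

lemma galAct_one (σ : Ω ≃ₐ[K] Ω) : galAct σ (1 : Pts Ω A) = 1 := MonObj.comp_one _

lemma galAct_pow (σ : Ω ≃ₐ[K] Ω) (x : Pts Ω A) (n : ℕ) : galAct σ (x ^ n) = galAct σ x ^ n := by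
  induction n with
  | zero => rw [pow_zero, pow_zero, galAct_one]
  | succ n ih => rw [pow_succ, pow_succ, galAct_mul, ih]

lemma dev_one (σ : Ω ≃ₐ[K] Ω) : dev σ (1 : Pts Ω A) = 1 := by
  rw [dev, galAct_one, inv_one, _root_.mul_one]

lemma dev_iter_one (σ : Ω ≃ₐ[K] Ω) (m : ℕ) : (dev σ)^[m] (1 : Pts Ω A) = 1 := by
  induction m with
  | zero => rfl
  | succ m ih => rw [Function.iterate_succ_apply, dev_one, ih]

variable [IsCommMonObj A]

lemma dev_mul (σ : Ω ≃ₐ[K] Ω) (x y : Pts Ω A) : dev σ (x * y) = dev σ x * dev σ y := by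
  letI : CommGroup (Pts Ω A) := Hom.commGroup
  rw [dev, dev, dev, galAct_mul]
  exact mul_div_mul_comm _ _ _ _ |> fun h => by
    simpa [div_eq_mul_inv] using h

lemma dev_pow (σ : Ω ≃ₐ[K] Ω) (x : Pts Ω A) (n : ℕ) : dev σ (x ^ n) = dev σ x ^ n := by
  induction n with
  | zero => rw [pow_zero, pow_zero, dev_one]
  | succ n ih => rw [pow_succ, pow_succ, dev_mul, ih]

lemma dev_iter_pow (σ : Ω ≃ₐ[K] Ω) (m : ℕ) (x : Pts Ω A) (n : ℕ) :
    (dev σ)^[m] (x ^ n) = ((dev σ)^[m] x) ^ n := by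
  induction m generalizing x with
  | zero => rfl
  | succ m ih => rw [Function.iterate_succ_apply, Function.iterate_succ_apply, dev_pow, ih]

end Hom

end K566.UnipDef
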