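import Groth.Prelude.Def_SGA7IX
import Groth.Agent.Sga3.H821.ExtAffine
import Groth.Agent.Picfga.RatPts
import Groth.Agent.SGA7.K566.UnipDef
import Mathlib.AlgebraicGeometry.Group.Abelian
import Mathlib.AlgebraicGeometry.Group.Smooth

/-!
# Points of exact sequences over a separably closed field, and unipotence of a Galois element
-/

set_option autoImplicit false
universe u
open CategoryTheory MonoidalCategory CartesianMonoidalCategory MonObj GrpObj AlgebraicGeometry Limits

namespace K566.PtsExact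

open SGA7 Groth.Agent Groth.Agent.Sga3B K566.UnipDef

variable {K Ω : Type u} [Field K] [Field Ω] [Algebra K Ω]

theorem smooth_abVar (A : Over (Spec (CommRingCat.of K))) [GrpObj A] [IsProper A.hom]
    [GeometricallyIntegral A.hom] : Smooth A.hom := by
  have : GrpObj (Over.mk A.hom) := inferInstanceAs (GrpObj A)
  exact smooth_of_grpObj A.hom

/-- A flat surjective homomorphism with smooth kernel is smooth. -/
theorem smooth_of_kernel {N G Q : Over (Spec (CommRingCat.of K))} [GrpObj G] [GrpObj Q]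
    [QuasiCompact G.hom] [QuasiSeparated Q.hom] (i : N ⟶ G) (q : G ⟶ Q) [IsMonHom q]
    [Flat q.left] [Surjective q.left] (hK : AlgGrp.IsKernel i q) [Smooth N.hom] : Smooth q.left := by
  have hqc : QuasiCompact q.left := by
    have : QuasiCompact (q.left ≫ Q.hom) := by rw [Over.w]; infer_instance
    exact QuasiCompact.of_comp q.left Q.hom
  have hK' : Smooth (KerGrp.kerObj q).hom := by
    let e := Sga3.H821.ExtAffine.kerIso q i hK
    have hI : IsIso e.inv.left := inferInstanceAs (IsIso ((Over.forget _).mapIso e).inv)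
    rw [← Over.w e.inv]
    infer_instance
  obtain ⟨d, hd⟩ := Sga3C.KerSquare.isPullback_fst_ker q
  have h1 : Smooth (pullback.fst q.left q.left) :=
    MorphismProperty.of_isPullback (P := @Smooth) hd.flip hK'
  have h2 : Smooth (pullback.snd q.left q.left) := by
    rw [← pullbackSymmetry_hom_comp_fst]
    infer_instance
  exact MorphismProperty.of_pullback_snd_of_descendsAlong
    (Q := @Surjective ⊓ @Flat ⊓ @QuasiCompact) (g := q.left)
    ⟨⟨inferInstance, inferInstance⟩, inferInstance⟩ h2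

/-- Points with values in a separably closed field lift along smooth surjective morphisms. -/
theorem exists_lift [IsSepClosed Ω] {G Q : Over (Spec (CommRingCat.of K))} (q : G ⟶ Q)
    [Smooth q.left] [Surjective q.left] (y : Pts Ω Q) : ∃ x : Pts Ω G, x ≫ q = y := by
  obtain ⟨a, ha⟩ := (‹Surjective q.left›).surj (y.left (default : ↥(Spec (CommRingCat.of Ω))))
  obtain ⟨z, -⟩ := Scheme.Pullback.exists_preimage_pullback (f := q.left) (g := y.left) a
    (default : ↥(Spec (CommRingCat.of Ω))) ha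
  obtain ⟨s, hs⟩ := Picfga.RatPts.exists_section_of_smooth (pullback.snd q.left y.left) z
  have h1 : (s ≫ pullback.fst q.left y.left) ≫ q.left = y.left := by
    rw [Category.assoc, pullback.condition, reassoc_of% hs]
  refine ⟨Over.homMk (s ≫ pullback.fst q.left y.left) ?_, ?_⟩
  · rw [← Over.w q, ← Category.assoc, h1]
    exact Over.w y
  · apply Over.OverMorphism.ext
    exact h1

/-- points of the kernel -/
theorem exists_of_comp_eq_one {N G Q T : Over (Spec (CommRingCat.of K))} [GrpObj Q] (i : N ⟶ G)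
    (q : G ⟶ Q) (hK : AlgGrp.IsKernel i q) (x : T ⟶ G) (hx : x ≫ q = 1) : ∃ z : T ⟶ N, z ≫ i = x :=
  ⟨hK.lift x (toUnit T) hx, hK.lift_fst _ _ _⟩

theorem comp_eq_one {N G Q T : Over (Spec (CommRingCat.of K))} [GrpObj Q] (i : N ⟶ G)
    (q : G ⟶ Q) (hK : AlgGrp.IsKernel i q) (z : T ⟶ N) : z ≫ i ≫ q = 1 := by
  rw [hK.w, ← Category.assoc, toUnit_unique (z ≫ toUnit N) (toUnit T)]
  rfl

section Exact

variable {A' A A'' : Over (Spec (CommRingCat.of K))} [GrpObj A'] [GrpObj A] [GrpObj A'']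
  [IsCommMonObj A]
  (i : A' ⟶ A) [IsMonHom i] [Mono i] (q : A ⟶ A'') [IsMonHom q] (hex : AlgGrp.IsKernel i q)

omit [IsCommMonObj A] in
include i in
theorem unipAt_sub {l : ℕ} {σ : Ω ≃ₐ[K] Ω} (h : UnipAt A l σ) : UnipAt A' l σ := by
  obtain ⟨m, hm⟩ := h
  refine ⟨m, fun ν x hx => ?_⟩
  have h1 := hm ν (x ≫ i) (by rw [pow_comp', hx]; exact MonObj.one_comp i)
  rw [dev_iter_comp] at h1
  rw [← cancel_mono i, h1]
  exact (MonObj.one_comp i).symm

include hex in
theorem unipAt_quot {l : ℕ} {σ : Ω ≃ₐ[K] Ω}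
    (hdiv : ∀ (n : ℕ) (x : Pts Ω A'), ∃ y : Pts Ω A', y ^ (l ^ n) = x)
    (hlift : ∀ y : Pts Ω A'', ∃ x : Pts Ω A, x ≫ q = y)
    (h : UnipAt A l σ) : UnipAt A'' l σ := by
  letI : CommGroup (Pts Ω A) := Hom.commGroup
  obtain ⟨m, hm⟩ := h
  refine ⟨m, fun ν y hy => ?_⟩
  obtain ⟨x, rfl⟩ := hlift y
  have h1 : (x ^ (l ^ ν) : Pts Ω A) ≫ q = 1 := by rw [← pow_comp', hy]
  obtain ⟨z, hz⟩ := exists_of_comp_eq_one i q hex _ h1
  obtain ⟨w, hw⟩ := hdiv ν z
  have h2 : (w ≫ i : Pts Ω A) ^ (l ^ ν) = x ^ (l ^ ν) := by rw [pow_comp', hw, hz]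
  have h3 : (x * (w ≫ i : Pts Ω A)⁻¹) ^ (l ^ ν) = 1 := by
    rw [mul_pow, inv_pow, h2, mul_inv_cancel]
  have h4 := hm ν _ h3
  have h5 : (x * (w ≫ i : Pts Ω A)⁻¹ : Pts Ω A) ≫ q = x ≫ q := by
    rw [MonObj.mul_comp, GrpObj.inv_comp, Category.assoc, comp_eq_one i q hex w, inv_one, _root_.mul_one]
  rw [← h5, dev_iter_comp, h4]
  exact MonObj.one_comp q

include hex in
theorem unipAt_mid {l : ℕ} {σ : Ω ≃ₐ[K] Ω} (h' : UnipAt A' l σ) (h'' : UnipAt A'' l σ) :
    UnipAt A l σ := by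
  obtain ⟨m', hm'⟩ := h'
  obtain ⟨m'', hm''⟩ := h''
  refine ⟨m' + m'', fun ν x hx => ?_⟩
  have h1 := hm'' ν (x ≫ q) (by rw [pow_comp', hx]; exact MonObj.one_comp q)
  rw [dev_iter_comp] at h1
  obtain ⟨z, hz⟩ := exists_of_comp_eq_one i q hex _ h1
  have h2 : z ^ (l ^ ν) = 1 := by
    rw [← cancel_mono i, ← pow_comp', hz, ← dev_iter_pow, hx, dev_iter_one]
    exact (MonObj.one_comp i).symm
  rw [Function.iterate_add_apply, ← hz, dev_iter_comp, hm' ν z h2]
  exact MonObj.one_comp i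

end Exact

end K566.PtsExact
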