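import Groth.Agent.SGA7.K566.GalRep
import Groth.Agent.SGA7.K566.InterAlg2
import Groth.Agent.SGA7.K566.PrimeAux
import Groth.Agent.Sga7.H734.GalTwo
import Groth.Agent.Sga7.H734.PtsBC
import Groth.Agent.Sga7.H734.OverInt
import Groth.Agent.Sga7.H734.Inert
import Groth.Agent.Sga7.H733.PtsBasic
import Groth.Agent.Sga4h.TameExt

/-!
# Semistable reduction over two Galois extensions and over their intersection
-/

set_option autoImplicit false
universe u
open CategoryTheory CategoryTheory.Limits AlgebraicGeometry MonObj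
open SGA7

namespace K566.InterSemi

open Groth.Agent Groth.Agent.Sga7.H734.PtsBC IntermediateField K566.GalRep K566.UnipDef
open Groth.Agent.Sga7.H733.LevelTwoGrp Groth.Agent.Sga7.H733.LevelTwoAlg Groth.Agent.Sga7.H734

/-- The statement S4048. -/
def LevelTwoCrit : Prop := ∀ (R K Ω : Type u) [CommRing R] [IsDomain R] [IsDiscreteValuationRing R] [Field K]
    [Algebra R K] [IsFractionRing R K] [Field Ω] [Algebra K Ω] [IsSepClosure K Ω]
    (W : ValuationSubring Ω) (_ : SGA7.LiesOver K R W)
    (ℓ : ℕ) (_ : ℓ.Prime) (_ : (ℓ : IsLocalRing.ResidueField R) ≠ 0)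
    (A : Over (Spec (CommRingCat.of K))) [GrpObj A] [IsProper A.hom] [GeometricallyIntegral A.hom],
    SGA7.HasSemistableReduction R K A ↔ SGA7.InertiaLevelTwoOn W A ℓ

section Gal

variable {K Ω : Type u} [Field K] [Field Ω] [Algebra K Ω] [IsGalois K Ω]

/-- `Gal(Ω/K' ∩ K'') = Gal(Ω/K') Gal(Ω/K'')`. -/
theorem fixingSubgroup_inf_le (K' K'' : IntermediateField K Ω) [FiniteDimensional K K'] :
    (K' ⊓ K'').fixingSubgroup ≤ K'.fixingSubgroup ⊔ K''.fixingSubgroup := by
  have h1 : K'.fixingSubgroup ≤ K'.fixingSubgroup ⊔ K''.fixingSubgroup := le_sup_left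
  rw [← GalTwo.fixingSubgroup_fixedField_of_le _ K' h1]
  apply IntermediateField.fixingSubgroup_antitone
  refine le_inf ?_ ?_
  · conv_rhs => rw [← InfiniteGalois.fixedField_fixingSubgroup K']
    exact fixedField_antitone le_sup_left
  · conv_rhs => rw [← InfiniteGalois.fixedField_fixingSubgroup K'']
    exact fixedField_antitone le_sup_right

end Gal

section Main

variable {R K Ω : Type u}
    [CommRing R] [IsDomain R] [IsDiscreteValuationRing R] [HenselianLocalRing R]
    [IsSepClosed (IsLocalRing.ResidueField R)]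
    [Field K] [Algebra R K] [IsFractionRing R K] [Field Ω] [Algebra K Ω] [Algebra R Ω] [IsScalarTower R K Ω]
    [IsSepClosure K Ω]
    (A : Over (Spec (CommRingCat.of K))) [GrpObj A] [IsProper A.hom] [GeometricallyIntegral A.hom]

include R in
theorem residue_ne_zero (L : Type u) [CommRing L] [Algebra R L] [Algebra.IsIntegral R L] [IsLocalRing L] {l : ℕ}
    (hl : (l : IsLocalRing.ResidueField R) ≠ 0) [FaithfulSMul R L] :
    (l : IsLocalRing.ResidueField L) ≠ 0 := by
  have hloc : IsLocalHom (algebraMap R L) :=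
    (algebraMap_isIntegral_iff.mpr inferInstance).isLocalHom (FaithfulSMul.algebraMap_injective R L)
  intro h0
  apply hl
  apply (IsLocalRing.ResidueField.map (algebraMap R L)).injective
  rw [map_natCast, map_zero]
  exact h0

/-- the criterion over the integral closure of `R` in a finite subextension, in terms of the points of `A`. -/
theorem crit (h48 : LevelTwoCrit.{u}) (W : ValuationSubring Ω) (hW : LiesOver K R W)
    {l : ℕ} (hl : l.Prime) (hlp : (l : IsLocalRing.ResidueField R) ≠ 0)
    (L : IntermediateField K Ω) [FiniteDimensional K L] :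
    SGA7.HasSemistableReduction ↥(integralClosure R ↥L) ↥L
        (Red.bc (Spec.map (CommRingCat.ofHom (algebraMap K ↥L))) A) ↔
      ∀ σ ∈ L.fixingSubgroup, ∀ τ ∈ L.fixingSubgroup, ∀ (ν : ℕ) (x : Pts Ω A), x ^ (l ^ ν) = 1 →
        dev σ (dev τ x) = 1 := by
  have hgal : IsGalois K Ω := inferInstance
  have hsc : IsSepClosed Ω := IsSepClosure.sep_closed K
  have hin : ∀ σ : Ω ≃ₐ[K] Ω, IsInertia W σ := Inert.isInertia (R := R) W hW
  have hsep : Algebra.IsSeparable K L := inferInstance
  have hR : EtCoh.IsStrictlyHenselianLocalRing R := ⟨inferInstance, inferInstance⟩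
  have hloc : IsLocalRing (integralClosure R L) := Sga4h.TameExt.isLocalRing R L hR
  have hdvr : IsDiscreteValuationRing (integralClosure R L) :=
    Sga4h.TameExt.isDiscreteValuationRing R K L hR
  have hfr : IsFractionRing (integralClosure R L) L := Sga4h.TameExt.isFractionRing R K L
  have hff : FaithfulSMul R (integralClosure R L) := Sga4h.TameExt.faithfulSMul R K L
  have hsc' : IsSepClosure L Ω := ⟨hsc, Algebra.isSeparable_tower_top_of_isSeparable K L Ω⟩
  have hW' : LiesOver L (integralClosure R L) W := OverInt.liesOver (K := K) W hW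
  have hlp' : (l : IsLocalRing.ResidueField (integralClosure R L)) ≠ 0 := residue_ne_zero (R := R) _ hlp
  have hp : IsProper (Red.bc (fKK K L) A).hom := by
    dsimp
    infer_instance
  have hgi : GeometricallyIntegral (Red.bc (fKK K L) A).hom := by
    dsimp
    infer_instance
  rw [h48 (integralClosure R L) L Ω W hW' l hl hlp' (Red.bc (fKK K L) A)]
  constructor
  · intro h σ hσ τ hτ ν x hx
    let σ' : Ω ≃ₐ[L] Ω := IntermediateField.fixingSubgroupEquiv L ⟨σ, hσ⟩
    let τ' : Ω ≃ₐ[L] Ω := IntermediateField.fixingSubgroupEquiv L ⟨τ, hτ⟩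
    have hσ' : σ'.restrictScalars K = σ := by ext; rfl
    have hτ' : τ'.restrictScalars K = τ := by ext; rfl
    obtain ⟨y, rfl⟩ := (toK K L Ω A).surjective x
    have h1 := h ν σ' τ' (hin σ) (hin τ) y (by
      apply (toK K L Ω A).injective
      rw [map_pow, hx, map_one])
    have h2 := congrArg (toK K L Ω A) h1
    rw [map_one, toK_dev, toK_dev, hσ', hτ'] at h2
    exact h2
  · intro h ν σ τ _ _ x hx
    apply (toK K L Ω A).injective
    rw [map_one, toK_dev, toK_dev]
    refine h _ (fun x => σ.commutes x) _ (fun x => τ.commutes x) ν _ ?_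
    rw [← map_pow, hx, map_one]

/-- S17458 from S4048. -/
theorem main (h48 : LevelTwoCrit.{u}) (W : ValuationSubring Ω) (hW : LiesOver K R W)
    {l : ℕ} (hl : l.Prime) (hlp : (l : IsLocalRing.ResidueField R) ≠ 0)
    (K' K'' : IntermediateField K Ω) [FiniteDimensional K ↥K'] [IsGalois K ↥K']
    [FiniteDimensional K ↥K'']
    (h' : SGA7.HasSemistableReduction ↥(integralClosure R ↥K') ↥K'
      (Red.bc (Spec.map (CommRingCat.ofHom (algebraMap K ↥K'))) A))
    (h'' : SGA7.HasSemistableReduction ↥(integralClosure R ↥K'') ↥K''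
      (Red.bc (Spec.map (CommRingCat.ofHom (algebraMap K ↥K''))) A)) :
    SGA7.HasSemistableReduction ↥(integralClosure R ↥(K' ⊓ K'')) ↥(K' ⊓ K'')
      (Red.bc (Spec.map (CommRingCat.ofHom (algebraMap K ↥(K' ⊓ K'')))) A) := by
  have hgal : IsGalois K Ω := inferInstance
  have hsc : IsSepClosed Ω := IsSepClosure.sep_closed K
  have hcomm : IsCommMonObj A := isCommMonObj_of_isProper_of_geometricallyIntegral A
  have hfd : FiniteDimensional K ↥(K' ⊓ K'') :=
    FiniteDimensional.of_injective (IntermediateField.inclusion (inf_le_left : K' ⊓ K'' ≤ K')).toLinearMap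
      (IntermediateField.inclusion (inf_le_left : K' ⊓ K'' ≤ K')).injective
  have hn : K'.fixingSubgroup.Normal := (InfiniteGalois.normal_iff_isGalois K').2 inferInstance
  have hlK : (l : K) ≠ 0 := PrimeAux.ne_zero_of_residue R K (IsFractionRing.injective R K) hlp
  rw [crit A h48 W hW hl hlp] at h' h'' ⊢
  letI : CommGroup (Pts Ω A) := Hom.commGroup
  have hT : TorsDiv (Additive (tp (Pts Ω A) l)) l :=
    torsDiv fun x _ => Groth.Agent.Sga7.H733.PtsBasic.exists_pow_eq A hlK x
  intro σ hσ τ hτ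
  rw [← levelTwo_iff]
  obtain ⟨y, hy, z, hz, rfl⟩ := Subgroup.mem_sup_of_normal_left.1 (fixingSubgroup_inf_le K' K'' hσ)
  obtain ⟨y', hy', z', hz', rfl⟩ := Subgroup.mem_sup_of_normal_left.1 (fixingSubgroup_inf_le K' K'' hτ)
  have hopen : IsOpen (K'.fixingSubgroup : Set (Ω ≃ₐ[K] Ω)) := K'.fixingSubgroup_isOpen
  obtain ⟨N, hN0, hN⟩ := Groth.Agent.Sga7.H733.PtsBasic.exists_pow_mem ⟨K'.fixingSubgroup, hopen⟩ z
  obtain ⟨N', hN0', hN'⟩ := Groth.Agent.Sga7.H733.PtsBasic.exists_pow_mem ⟨K'.fixingSubgroup, hopen⟩ z'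
  intro x
  refine InterAlg2.mul_zero (rep A l) K'.fixingSubgroup
    (fun s hs t ht => (levelTwo_iff l s t).2 (h' s hs t ht)) z z'
    ((levelTwo_iff l z z).2 (h'' z hz z hz)) ((levelTwo_iff l z' z').2 (h'' z' hz' z' hz')) N N' hN hN'
    (fun x => hT.div_nat hl hN0 x) (fun x => hT.div_nat hl hN0' x) y hy y' hy' x

end Main

end K566.InterSemi
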