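import Groth.Agent.S7798
import Groth.Agent.Sga7.H760.Nhd
import Groth.Prelude.Def_SGA7IX
import Mathlib.AlgebraicGeometry.Geometrically.Integral

/-!
# A homomorphism of Néron models which is quasi-finite on the special fibres is an isogeny
-/

set_option autoImplicit false
universe u
open CategoryTheory CategoryTheory.Limits TopologicalSpace MonoidalCategory CartesianMonoidalCategory AlgebraicGeometry MonObj

namespace K566.NeronIsog

theorem irreducibleSpace_of_geometricallyIntegral {K : Type u} [Field K] {X : Scheme.{u}}
    (f : X ⟶ Spec (CommRingCat.of K)) [GeometricallyIntegral f] : IsIntegral X := by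
  exact GeometricallyIntegral.isIntegral_of_subsingleton f

/-- A homomorphism of abelian varieties of the same dimension which is quasi-finite is an isogeny. -/
theorem isIsogenyOver_of_lqf (K : Type u) [Field K] (A B : Over (Spec (CommRingCat.of K))) [GrpObj A] [GrpObj B]
    [IsProper A.hom] [GeometricallyIntegral A.hom] [IsProper B.hom] [GeometricallyIntegral B.hom]
    (hdim : topologicalKrullDim ↥A.left = topologicalKrullDim ↥B.left)
    (u : A ⟶ B) [IsMonHom u] [LocallyQuasiFinite u.left] : SGA7.IsIsogenyOver u := by
  have hA : IsIntegral A.left := irreducibleSpace_of_geometricallyIntegral A.hom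
  have hB : IsIntegral B.left := irreducibleSpace_of_geometricallyIntegral B.hom
  have hprop : IsProper u.left := by
    have : IsProper (u.left ≫ B.hom) := by rw [Over.w]; infer_instance
    exact IsProper.of_comp u.left B.hom
  have hfin : IsFinite u.left := IsFinite.of_isProper_of_locallyQuasiFinite u.left
  let e : Spec (CommRingCat.of K) ⟶ A.left := (η[A] : 𝟙_ (Over (Spec (CommRingCat.of K))) ⟶ A).left
  let x : A.left := e (IsLocalRing.closedPoint K)
  have hdim0 : topologicalKrullDim ↥(u.left.fiber (u.left x)) = 0 := by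
    have hne : Nonempty (u.left.fiber (u.left x)) := ⟨u.left.asFiber x⟩
    have h1 : DiscreteTopology (u.left.fiber (u.left x)) := inferInstance
    refine le_antisymm (topologicalKrullDim_zero_of_discreteTopology _) ?_
    have h2 : Nonempty (TopologicalSpace.IrreducibleCloseds (u.left.fiber (u.left x))) :=
      ⟨⟨closure {u.left.asFiber x}, isIrreducible_singleton.closure, isClosed_closure⟩⟩
    exact Order.krullDim_nonneg
  have hsurj := (Groth.Agent.S7798.result K A.hom B.hom hdim.symm.le u.left (Over.w u) _ hdim0).1
  refine ⟨hsurj, ?_⟩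
  intro N i hi
  obtain ⟨e, -⟩ := Groth.Agent.Sga7.H760.KerBc.exists_iso hi (Groth.Agent.Sga3B.KerGrp.isPullback_ker u)
  have h1 : IsFinite (Groth.Agent.Sga3B.KerGrp.kerObj u).hom :=
    inferInstanceAs (IsFinite (pullback.snd u.left _))
  have h2 : N.hom = e.hom.left ≫ (Groth.Agent.Sga3B.KerGrp.kerObj u).hom := (Over.w e.hom).symm
  rw [h2]
  infer_instance

theorem main (R K : Type u) [CommRing R] [IsDomain R]
    [IsDiscreteValuationRing R] [Field K] [Algebra R K] [IsFractionRing R K]
    (N N' : Over (Spec (CommRingCat.of R))) [GrpObj N] [GrpObj N']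
    (hN : SGA7.IsNeron R K N) (hN' : SGA7.IsNeron R K N')
    [IsProper ((SGA7.genFib R K).obj N).hom] [GeometricallyIntegral ((SGA7.genFib R K).obj N).hom]
    [IsProper ((SGA7.genFib R K).obj N').hom] [GeometricallyIntegral ((SGA7.genFib R K).obj N').hom]
    (hdim : topologicalKrullDim ↥((SGA7.genFib R K).obj N).left = topologicalKrullDim ↥((SGA7.genFib R K).obj N').left)
    (u : N ⟶ N') [IsMonHom u]
    [LocallyQuasiFinite (SGA7.fibreHom (IsLocalRing.closedPoint R) u).left] :
    SGA7.IsIsogenyOver ((SGA7.genFib R K).map u) := by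
  have i1 : Smooth N.hom := hN.1
  have i2 : Smooth N'.hom := hN'.1
  have i3 : QuasiCompact N.hom := hN.2.2.1
  have i4 : IsSeparated N'.hom := hN'.2.1
  obtain ⟨U, hsU, hU⟩ := Groth.Agent.Sga7.H760.Nhd.exists_open_lqf u (IsLocalRing.closedPoint R)
  have hUtop : U = ⊤ := by
    ext x
    simp only [Opens.coe_top, Set.mem_univ, iff_true]
    have h1 : x ⤳ IsLocalRing.closedPoint R := IsLocalRing.specializes_closedPoint x
    exact h1.mem_open U.isOpen hsU
  have h2 : LocallyQuasiFinite ((SGA7.genFib R K).map u).left := hU _ (by rw [hUtop]; exact fun _ _ => trivial)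
  exact isIsogenyOver_of_lqf K _ _ hdim ((SGA7.genFib R K).map u)

end K566.NeronIsog
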