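import Groth.Agent.SGA7.K566.PtsUnip
import Groth.Agent.SGA7.K566.PrimeAux

/-!
# Inertia with `(σ - 1)² = 0` on the `n`-torsion, `n ≥ 5`
-/

set_option autoImplicit false
universe u
open CategoryTheory CategoryTheory.Limits AlgebraicGeometry MonObj

namespace K566.InertiaFive

open SGA7 K566.UnipDef K566.PtsUnip K566.PrimeAux Groth.Agent.Sga7.H733.PtsBasic
open Groth.Agent.Sga7.H733.LevelTwoGrp Groth.Agent.Sga7.H733.LevelTwoAlg

/-- an integer `n ≥ 5` is divisible by a prime power `≥ 5` or by `2` and `3`. -/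
lemma exists_prime_pow_or {n : ℕ} (hn : 5 ≤ n) :
    (∃ l m : ℕ, l.Prime ∧ 5 ≤ l ^ m ∧ l ^ m ∣ n) ∨ (2 ∣ n ∧ 3 ∣ n) := by
  by_cases h5 : ∃ l : ℕ, l.Prime ∧ 5 ≤ l ∧ l ∣ n
  · obtain ⟨l, h1, h2, h3⟩ := h5
    exact Or.inl ⟨l, 1, h1, by rwa [pow_one], by rwa [pow_one]⟩
  push Not at h5
  have hsmall : ∀ d : ℕ, d.Prime → d ∣ n → d = 2 ∨ d = 3 := by
    intro d hd hdn
    have h1 : d < 5 := by
      by_contra hlt
      exact h5 d hd (by omega) hdn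
    have h2 := hd.two_le
    interval_cases d
    · exact Or.inl rfl
    · exact Or.inr rfl
    · exact absurd hd (by norm_num)
  by_cases h2 : 2 ∣ n
  · by_cases h3 : 3 ∣ n
    · exact Or.inr ⟨h2, h3⟩
    · left
      have hk : n = 2 ^ n.primeFactorsList.length :=
        Nat.eq_prime_pow_of_unique_prime_dvd (by omega) fun {d} hd hdn =>
          (hsmall d hd hdn).resolve_right (by rintro rfl; exact h3 hdn)
      generalize n.primeFactorsList.length = k at hk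
      exact ⟨2, k, Nat.prime_two, by rw [← hk]; exact hn, by rw [← hk]⟩
  · left
    have hk : n = 3 ^ n.primeFactorsList.length :=
      Nat.eq_prime_pow_of_unique_prime_dvd (by omega) fun {d} hd hdn =>
        (hsmall d hd hdn).resolve_left (by rintro rfl; exact h2 hdn)
    generalize n.primeFactorsList.length = k at hk
    exact ⟨3, k, Nat.prime_three, by rw [← hk]; exact hn, by rw [← hk]⟩

variable {K Ω : Type u} [Field K] [Field Ω] [Algebra K Ω] [IsSepClosure K Ω]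
  (R : Type u) [CommRing R] [IsLocalRing R] [Algebra R K]

/-- inertia acts unipotently on some Tate module -/
theorem exists_unip (hinj : Function.Injective (algebraMap R K)) (W : ValuationSubring Ω)
    (A : Over (Spec (CommRingCat.of K))) [GrpObj A] [IsProper A.hom] [GeometricallyIntegral A.hom]
    {n : ℕ} (hn : 5 ≤ n) (hnp : (n : IsLocalRing.ResidueField R) ≠ 0)
    (h : ∀ σ : Ω ≃ₐ[K] Ω, SGA7.IsInertia W σ → ∀ x : SGA7.Pts Ω A, x ^ n = 1 → SGA7.dev σ (SGA7.dev σ x) = 1)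
    (hopen : ∀ ℓ : ℕ, ℓ.Prime → (ℓ : IsLocalRing.ResidueField R) ≠ 0 →
      ∃ π' : OpenSubgroup (Ω ≃ₐ[K] Ω), ∀ (ν : ℕ) (σ τ : Ω ≃ₐ[K] Ω), σ ∈ π' → τ ∈ π' →
        SGA7.IsInertia W σ → SGA7.IsInertia W τ →
          ∀ x : SGA7.Pts Ω A, x ^ (ℓ ^ ν) = 1 → SGA7.dev σ (SGA7.dev τ x) = 1)
    (hind : ∀ ℓ ℓ' : ℕ, ℓ.Prime → ℓ'.Prime → (ℓ : IsLocalRing.ResidueField R) ≠ 0 →
      (ℓ' : IsLocalRing.ResidueField R) ≠ 0 → ∀ σ : Ω ≃ₐ[K] Ω, SGA7.IsInertia W σ →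
        UnipAt A ℓ σ → UnipAt A ℓ' σ) :
    ∃ ℓ : ℕ, ℓ.Prime ∧ (ℓ : IsLocalRing.ResidueField R) ≠ 0 ∧
      ∀ σ : Ω ≃ₐ[K] Ω, SGA7.IsInertia W σ → UnipAt A ℓ σ := by
  have hdvd : ∀ {d : ℕ}, d ∣ n → ∀ σ : Ω ≃ₐ[K] Ω, SGA7.IsInertia W σ → ∀ x : SGA7.Pts Ω A,
      x ^ d = 1 → SGA7.dev σ (SGA7.dev σ x) = 1 := by
    intro d hd σ hσ x hx
    refine h σ hσ x ?_
    obtain ⟨c, rfl⟩ := hd
    rw [pow_mul, hx, one_pow]
  rcases exists_prime_pow_or hn with ⟨l, m, hl, h5, hd⟩ | ⟨h2, h3⟩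
  · have hm : m ≠ 0 := by
      rintro rfl
      norm_num at h5
    have hlp := ne_zero_of_dvd (dvd_trans (dvd_pow_self l hm) hd) hnp
    obtain ⟨π', hπ⟩ := hopen l hl hlp
    refine ⟨l, hl, hlp, fun σ hσ => ?_⟩
    exact unipAt_ge_five A hl h5 (ne_zero_of_residue R K hinj hlp) σ
      (quipAt_of_open A W l π' hπ σ hσ) (hdvd hd σ hσ)
  · have h2p := ne_zero_of_dvd h2 hnp
    have h3p := ne_zero_of_dvd h3 hnp
    obtain ⟨π₂, hπ₂⟩ := hopen 2 Nat.prime_two h2p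
    obtain ⟨π₃, hπ₃⟩ := hopen 3 Nat.prime_three h3p
    refine ⟨3, Nat.prime_three, h3p, fun σ hσ => ?_⟩
    have h4 : UnipAt A 2 (σ ^ 4) := unipAt_two A (ne_zero_of_residue R K hinj h2p) σ
      (quipAt_of_open A W 2 π₂ hπ₂ σ hσ) (hdvd h2 σ hσ)
    have h3' : UnipAt A 3 (σ ^ 3) := unipAt_three A (ne_zero_of_residue R K hinj h3p) σ
      (quipAt_of_open A W 3 π₃ hπ₃ σ hσ) (hdvd h3 σ hσ)
    exact unipAt_of_four_three A σ
      (hind 2 3 Nat.prime_two Nat.prime_three h2p h3p _ (isInertia_pow hσ 4) h4) h3'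

/-- Unipotent and potentially trivial implies trivial. -/
theorem trivial_of_unip (W : ValuationSubring Ω)
    (A : Over (Spec (CommRingCat.of K))) [GrpObj A] [IsProper A.hom] [GeometricallyIntegral A.hom]
    {l : ℕ} (hl : l.Prime) (hlK : (l : K) ≠ 0) (hu : ∀ σ : Ω ≃ₐ[K] Ω, SGA7.IsInertia W σ → UnipAt A l σ)
    (π' : OpenSubgroup (Ω ≃ₐ[K] Ω)) (hπ : ∀ σ : Ω ≃ₐ[K] Ω, σ ∈ π' → SGA7.IsInertia W σ →
      ∀ (ν : ℕ) (x : SGA7.Pts Ω A), x ^ (l ^ ν) = 1 → SGA7.galAct σ x = x) (ν : ℕ) :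
    InertiaTrivialOn W A (l ^ ν) := by
  haveI : IsSepClosed Ω := IsSepClosure.sep_closed K
  haveI : IsCommMonObj A := isCommMonObj_of_isProper_of_geometricallyIntegral A
  letI : CommGroup (Pts Ω A) := Hom.commGroup
  intro σ hσ x hx
  obtain ⟨N, hN, hσN⟩ := exists_pow_mem π' σ
  have h1 : IsNilpotent (res l (galHom A σ) - 1) := by
    have := hu σ hσ
    rw [← pow_one σ, unipAt_iff] at this
    simpa using this
  have h2 : res l (galHom A σ) ^ N = 1 := by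
    rw [res_galHom_pow]
    refine AddMonoidHom.ext fun y => Additive.toMul.injective (Subtype.ext ?_)
    obtain ⟨n1, hn1⟩ := (Additive.toMul y : tp (Pts Ω A) l).2
    exact hπ (σ ^ N) hσN (isInertia_pow hσ N) n1 _ hn1
  have h3 := QUnip.eq_one_of_unip hl (torsDiv fun x _ => Groth.Agent.Sga7.H733.PtsBasic.exists_pow_eq A hlK x)
    (res l (galHom A σ)) h1 (Nat.pos_of_ne_zero hN) h2
  have h4 := congrArg (fun f : AddMonoid.End (Additive (tp (Pts Ω A) l)) =>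
    ((Additive.toMul (f (Additive.ofMul ⟨x, ν, hx⟩)) : tp (Pts Ω A) l) : Pts Ω A)) h3
  exact h4

end K566.InertiaFive
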