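import Groth.Agent.SGA7.K566.QUnip
import Groth.Agent.SGA7.K566.UnipDef
import Groth.Agent.Sga7.H733.LevelTwoOfOpen

/-!
# Inertia elements with `(σ - 1)² = 0` on the `n`-torsion
-/

set_option autoImplicit false
universe u
open CategoryTheory CategoryTheory.Limits AlgebraicGeometry MonObj

namespace K566.PtsUnip

open SGA7 K566.UnipDef Groth.Agent.Sga7.H733.PtsBasic Groth.Agent.Sga7.H733.LevelTwoGrp
open Groth.Agent.Sga7.H733.LevelTwoAlg

section Grp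

variable {P : Type*} [CommGroup P]

lemma res_sub_one_pow_apply (l : ℕ) (s : P →* P) (k : ℕ) (x : Additive (tp P l)) :
    ((Additive.toMul (((res l s - 1) ^ k) x) : tp P l) : P) =
      (dv s)^[k] ((Additive.toMul x : tp P l) : P) := by
  induction k generalizing x with
  | zero => rfl
  | succ k ih =>
    rw [pow_succ, Function.iterate_succ_apply, ← res_sub_one_apply, ← ih]
    rfl

/-- nilpotency of `s - 1` in the endomorphism ring, in terms of points -/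
lemma isNilpotent_iff (l : ℕ) (s : P →* P) :
    IsNilpotent (res l s - 1) ↔ ∃ m : ℕ, ∀ (ν : ℕ) (x : P), x ^ (l ^ ν) = 1 → (dv s)^[m] x = 1 := by
  constructor
  · rintro ⟨m, hm⟩
    refine ⟨m, fun ν x hx => ?_⟩
    have h1 := res_sub_one_pow_apply l s m (Additive.ofMul (⟨x, ν, hx⟩ : tp P l))
    rw [hm] at h1
    exact h1.symm
  · rintro ⟨m, hm⟩
    refine ⟨m, ?_⟩
    ext x
    obtain ⟨ν, hν⟩ := (Additive.toMul x : tp P l).2
    exact (res_sub_one_pow_apply l s m x).trans (hm ν _ hν)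

lemma sq_apply_iff (l : ℕ) (s : P →* P) (x : Additive (tp P l))
    (h : dv s (dv s ((Additive.toMul x : tp P l) : P)) = 1) :
    ((res l s - 1) ^ 2 : AddMonoid.End (Additive (tp P l))) x = 0 := by
  apply Additive.toMul.injective
  apply Subtype.ext
  exact (res_sub_one_pow_apply l s 2 x).trans h

end Grp

variable {K : Type u} [Field K] {Ω : Type u} [Field Ω] [Algebra K Ω]

lemma res_galHom_pow (A : Over (Spec (CommRingCat.of K))) [GrpObj A] [IsCommMonObj A] (l : ℕ)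
    (σ : Ω ≃ₐ[K] Ω) (j : ℕ) :
    letI : CommGroup (Pts Ω A) := Hom.commGroup
    res l (galHom A σ) ^ j = res l (galHom A (σ ^ j)) := by
  letI : CommGroup (Pts Ω A) := Hom.commGroup
  refine AddMonoidHom.ext fun x => Additive.toMul.injective (Subtype.ext ?_)
  refine (res_pow_apply l (galHom A σ) j x).trans ?_
  exact (Groth.Agent.Sga7.H733.PtsBasic.galAct_pow σ j _).symm

lemma unipAt_iff (A : Over (Spec (CommRingCat.of K))) [GrpObj A] [IsCommMonObj A] (l : ℕ)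
    (σ : Ω ≃ₐ[K] Ω) (j : ℕ) :
    letI : CommGroup (Pts Ω A) := Hom.commGroup
    UnipAt A l (σ ^ j) ↔ IsNilpotent (res l (galHom A σ) ^ j - 1) := by
  letI : CommGroup (Pts Ω A) := Hom.commGroup
  rw [res_galHom_pow]
  exact (isNilpotent_iff l (galHom A (σ ^ j))).symm

section Main

variable [IsSepClosure K Ω] (A : Over (Spec (CommRingCat.of K))) [GrpObj A] [IsProper A.hom]
  [GeometricallyIntegral A.hom]

lemma quipAt_of_open (W : ValuationSubring Ω) (l : ℕ) (π' : OpenSubgroup (Ω ≃ₐ[K] Ω))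
    (hπ : ∀ (ν : ℕ) (σ τ : Ω ≃ₐ[K] Ω), σ ∈ π' → τ ∈ π' →
      SGA7.IsInertia W σ → SGA7.IsInertia W τ →
        ∀ x : SGA7.Pts Ω A, x ^ (l ^ ν) = 1 → SGA7.dev σ (SGA7.dev τ x) = 1)
    (σ : Ω ≃ₐ[K] Ω) (hσ : IsInertia W σ) : QUnipAt A l σ := by
  obtain ⟨N, hN, h⟩ := exists_pow_mem π' σ
  exact ⟨N, Nat.pos_of_ne_zero hN, 2, fun ν x hx =>
    hπ ν (σ ^ N) (σ ^ N) h h (isInertia_pow hσ N) (isInertia_pow hσ N) x hx⟩

include A in
lemma core {l n j : ℕ} (hl : l.Prime) (hlK : (l : K) ≠ 0) (σ : Ω ≃ₐ[K] Ω) (hq : QUnipAt A l σ)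
    (h : ∀ x : Pts Ω A, x ^ n = 1 → dev σ (dev σ x) = 1)
    (alg : ∀ {M : Type u} [AddCommGroup M] (_ : TorsDiv M l) (s : AddMonoid.End M)
      (_ : ∀ x : M, n • x = 0 → ((s - 1) ^ 2 : AddMonoid.End M) x = 0)
      {N : ℕ} (_ : 0 < N) (_ : IsNilpotent (s ^ N - 1)), IsNilpotent (s ^ j - 1)) :
    UnipAt A l (σ ^ j) := by
  haveI : IsSepClosed Ω := IsSepClosure.sep_closed K
  haveI : IsCommMonObj A := isCommMonObj_of_isProper_of_geometricallyIntegral A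
  letI : CommGroup (Pts Ω A) := Hom.commGroup
  obtain ⟨N, hN, hu⟩ := hq
  rw [unipAt_iff] at hu ⊢
  refine alg (torsDiv fun x _ => Groth.Agent.Sga7.H733.PtsBasic.exists_pow_eq A hlK x) (res l (galHom A σ)) (fun x hx => ?_) hN hu
  refine sq_apply_iff l (galHom A σ) x (h _ ?_)
  have := congrArg (fun y : Additive (tp (Pts Ω A) l) => ((Additive.toMul y : tp (Pts Ω A) l) : Pts Ω A)) hx
  simpa using this

theorem unipAt_two (hK : ((2 : ℕ) : K) ≠ 0) (σ : Ω ≃ₐ[K] Ω) (hq : QUnipAt A 2 σ)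
    (h : ∀ x : Pts Ω A, x ^ 2 = 1 → dev σ (dev σ x) = 1) : UnipAt A 2 (σ ^ 4) :=
  core A Nat.prime_two hK σ hq h fun h s hs _ hN0 hN => QUnip.isNilpotent_two h s hs hN0 hN

theorem unipAt_three (hK : ((3 : ℕ) : K) ≠ 0) (σ : Ω ≃ₐ[K] Ω) (hq : QUnipAt A 3 σ)
    (h : ∀ x : Pts Ω A, x ^ 3 = 1 → dev σ (dev σ x) = 1) : UnipAt A 3 (σ ^ 3) :=
  core A Nat.prime_three hK σ hq h fun h s hs _ hN0 hN => QUnip.isNilpotent_three h s hs hN0 hN

theorem unipAt_four (hK : ((2 : ℕ) : K) ≠ 0) (σ : Ω ≃ₐ[K] Ω) (hq : QUnipAt A 2 σ)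
    (h : ∀ x : Pts Ω A, x ^ 4 = 1 → dev σ (dev σ x) = 1) : UnipAt A 2 (σ ^ 2) :=
  core A Nat.prime_two hK σ hq h fun h s hs _ hN0 hN => QUnip.isNilpotent_four h s hs hN0 hN

theorem unipAt_ge_five {l m : ℕ} (hl : l.Prime) (h5 : 5 ≤ l ^ m) (hK : (l : K) ≠ 0)
    (σ : Ω ≃ₐ[K] Ω) (hq : QUnipAt A l σ)
    (h : ∀ x : Pts Ω A, x ^ (l ^ m) = 1 → dev σ (dev σ x) = 1) : UnipAt A l σ := by
  rw [← pow_one σ]
  exact core A hl hK σ hq h fun h s hs _ hN0 hN => QUnip.isNilpotent_ge_five hl h5 h s hs hN0 hN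

/-- `σ⁴` and `σ³` unipotent imply `σ` unipotent. -/
theorem unipAt_of_four_three {l : ℕ} (σ : Ω ≃ₐ[K] Ω) (h4 : UnipAt A l (σ ^ 4))
    (h3 : UnipAt A l (σ ^ 3)) : UnipAt A l σ := by
  haveI : IsCommMonObj A := isCommMonObj_of_isProper_of_geometricallyIntegral A
  letI : CommGroup (Pts Ω A) := Hom.commGroup
  rw [unipAt_iff] at h4 h3
  rw [← pow_one σ, unipAt_iff]
  exact QUnip.isNilpotent_of_four_three _ h4 h3

end Main

end K566.PtsUnip
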