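import Mathlib.LinearAlgebra.Eigenspace.Zero
import Mathlib.RingTheory.Polynomial.Cyclotomic.Expand
import Mathlib.Algebra.Module.ZMod
import Mathlib.FieldTheory.Finite.Basic
import Mathlib.FieldTheory.Finiteness

/-!
# Endomorphisms of prime order of divisible groups

* `eq_zero_of_phi`: if `1 + g + … + g ^ (q - 1) = 0` on a `q`-divisible group, and `(g - 1) ^ a` kills the `q`-torsion
  with `2 a ≤ q - 1`, the `q`-torsion is trivial;
* `pow_card_kill`: `(g - 1) ^ c` kills the `q`-torsion if `g ^ q = 1` and there are at most `q ^ c` points of `q`-torsion;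
* `sum_eq_zero`: if `g ^ q = 1` has infinitely many fixed points only if `g = 1`, then `1 + g + … + g ^ (q - 1) = 0`
  or `g = 1`.
-/

set_option autoImplicit false

namespace Groth.Agent.SGA7.K566.PhiQ

open Polynomial

theorem phi_eq {q : ℕ} (hq : q.Prime) :
    ∃ r : ℤ[X], (∑ i ∈ Finset.range q, (X : ℤ[X]) ^ i) = (X - 1) ^ (q - 1) + C (q : ℤ) * r ∧ r.eval 1 = 1 := by
  have : Fact q.Prime := ⟨hq⟩
  have h1 : C (q : ℤ) ∣ (∑ i ∈ Finset.range q, (X : ℤ[X]) ^ i) - (X - 1) ^ (q - 1) := by
    rw [C_dvd_iff_dvd_coeff]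
    intro i
    rw [← ZMod.intCast_zmod_eq_zero_iff_dvd]
    have h2 : ((∑ i ∈ Finset.range q, (X : ℤ[X]) ^ i) - (X - 1) ^ (q - 1)).map (Int.castRingHom (ZMod q)) = 0 := by
      rw [← cyclotomic_prime ℤ q, Polynomial.map_sub, map_cyclotomic, Polynomial.map_pow, Polynomial.map_sub,
        map_X, Polynomial.map_one, sub_eq_zero]
      have h3 := cyclotomic_mul_prime_eq_pow_of_not_dvd (ZMod q) (p := q) (n := 1)
        (fun h => hq.one_lt.ne' (Nat.dvd_one.1 h))
      rwa [one_mul, cyclotomic_one] at h3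
    have h3 := congrArg (fun f : (ZMod q)[X] => f.coeff i) h2
    simp only [coeff_zero] at h3
    rw [coeff_map] at h3
    exact h3
  obtain ⟨r, hr⟩ := h1
  refine ⟨r, by rw [← hr]; ring, ?_⟩
  have h2 := congrArg (eval 1) hr
  simp only [eval_sub, eval_finsetSum, eval_pow, eval_X, one_pow, Finset.sum_const, Finset.card_range, eval_one,
    sub_self, eval_mul, eval_C, nsmul_eq_mul, mul_one] at h2
  rw [zero_pow (by have := hq.two_le; omega), sub_zero] at h2
  have h3 : (q : ℤ) ≠ 0 := by exact_mod_cast hq.ne_zero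
  exact (mul_left_cancel₀ h3 (by rw [mul_one]; exact h2)).symm

variable {M : Type*} [AddCommGroup M]

theorem aeval_apply_of_fixed (g : AddMonoid.End M) (y : M) (hy : g y = y) (r : ℤ[X]) :
    (aeval g r : AddMonoid.End M) y = r.eval 1 • y := by
  induction r using Polynomial.induction_on' with
  | add p q hp hq =>
    rw [map_add, eval_add, add_smul, ← hp, ← hq]
    rfl
  | monomial n a =>
    rw [aeval_monomial, eval_monomial, one_pow, mul_one]
    have h1 : ∀ n : ℕ, ((g ^ n : AddMonoid.End M)) y = y := by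
      intro n
      induction n with
      | zero => rfl
      | succ n ih =>
        rw [pow_succ]
        show (g ^ n) (g y) = y
        rw [hy, ih]
    show (algebraMap ℤ (AddMonoid.End M) a) ((g ^ n) y) = _
    rw [h1]
    show ((a : AddMonoid.End M)) y = _
    rfl

/-- If `1 + g + … + g ^ (q - 1) = 0` on a `q`-divisible group, and `(g - 1) ^ a` kills the `q`-torsion with
`2 a ≤ q - 1`, the `q`-torsion is trivial. -/
theorem eq_zero_of_phi {q : ℕ} (hq : q.Prime) (g : AddMonoid.End M) (hdiv : ∀ x : M, ∃ y, q • y = x)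
    (hΦ : ∑ i ∈ Finset.range q, g ^ i = 0) (a : ℕ) (ha : 2 * a ≤ q - 1)
    (hker : ∀ x : M, q • x = 0 → ((g - 1) ^ a) x = 0) (x : M) (hx : q • x = 0) : x = 0 := by
  by_contra hne
  -- an element fixed by `g`
  have h1 : ∃ i : ℕ, ((g - 1) ^ i) x = 0 := ⟨a, hker x hx⟩
  classical
  have hi := Nat.find_spec h1
  have hmin := fun j (hj : j < Nat.find h1) => Nat.find_min h1 hj
  rcases hi0 : Nat.find h1 with _ | i
  · rw [hi0, pow_zero] at hi
    exact hne hi
  rw [hi0] at hi hmin
  have hy0 : ((g - 1) ^ i) x ≠ 0 := hmin i (Nat.lt_succ_self i)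
  set y := ((g - 1) ^ i) x with hy
  have hy1 : (g - 1) y = 0 := by
    rw [pow_succ'] at hi
    exact hi
  have hy2 : g y = y := sub_eq_zero.1 hy1
  have hy3 : q • y = 0 := by rw [hy, ← map_nsmul, hx, map_zero]
  obtain ⟨z, hz⟩ := hdiv y
  have h2 : ((g - 1) ^ a) (((g - 1) ^ a) z) = 0 := by
    apply hker
    rw [← map_nsmul, hz]
    exact hker y hy3
  have h3 : ((g - 1) ^ (q - 1)) z = 0 := by
    have h4 : q - 1 = (q - 1 - 2 * a) + (a + a) := by omega
    rw [h4, pow_add, pow_add]
    show ((g - 1) ^ (q - 1 - 2 * a)) (((g - 1) ^ a) (((g - 1) ^ a) z)) = 0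
    rw [h2, map_zero]
  obtain ⟨r, hr, hr1⟩ := phi_eq hq
  have h4 := congrArg (aeval g : ℤ[X] →ₐ[ℤ] AddMonoid.End M) hr
  rw [map_sum, map_add, map_mul, map_pow, map_sub, map_one, aeval_X] at h4
  simp only [map_pow, aeval_X] at h4
  rw [hΦ] at h4
  have h5 := DFunLike.congr_fun h4 z
  have h6 : ((g - 1) ^ (q - 1) + aeval g (C (q : ℤ)) * aeval g r : AddMonoid.End M) z =
      ((g - 1) ^ (q - 1)) z + (aeval g (C (q : ℤ)) : AddMonoid.End M) ((aeval g r : AddMonoid.End M) z) := rfl
  rw [h6, h3, zero_add] at h5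
  have h7 : (aeval g (C (q : ℤ)) : AddMonoid.End M) ((aeval g r : AddMonoid.End M) z) =
      (aeval g r : AddMonoid.End M) (q • z) := by
    rw [aeval_C, map_nsmul]
    simp only [eq_intCast, Int.cast_natCast]
    rfl
  rw [h7, hz, aeval_apply_of_fixed g y hy2, hr1, one_smul] at h5
  exact hy0 h5.symm

theorem kill_mod {T : Type*} [AddCommGroup T] {q : ℕ} [Fact q.Prime] [Module (ZMod q) T] [Finite T] (c : ℕ)
    (hc : Nat.card T ≤ q ^ c) (h : AddMonoid.End T) (hn : IsNilpotent h) : h ^ c = 0 := by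
  have hq : q.Prime := Fact.out
  let f : Module.End (ZMod q) T := AddMonoidHom.toZModLinearMap q h
  have hmf : Module.Finite (ZMod q) T := Module.Finite.of_finite
  have hf : ∀ n : ℕ, f ^ n = AddMonoidHom.toZModLinearMap q (h ^ n : AddMonoid.End T) := by
    intro n
    induction n with
    | zero => rfl
    | succ n ih =>
      rw [pow_succ, pow_succ, ih]
      rfl
  have hnil : IsNilpotent f := by
    obtain ⟨n, hn⟩ := hn
    refine ⟨n, ?_⟩
    rw [hf, hn]
    rfl
  have hfr : Module.finrank (ZMod q) T ≤ c := by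
    have h1 : Nat.card T = q ^ Module.finrank (ZMod q) T := by
      have := Module.natCard_eq_pow_finrank (K := ZMod q) (V := T)
      rwa [Nat.card_zmod] at this
    have h2 : q ^ Module.finrank (ZMod q) T ≤ q ^ c := by rw [← h1]; exact hc
    exact (Nat.pow_le_pow_iff_right hq.one_lt).1 h2
  have h1 := hnil.charpoly_eq_X_pow_finrank
  have h2 := LinearMap.aeval_self_charpoly f
  rw [h1, map_pow, aeval_X] at h2
  have h3 : f ^ c = 0 := by
    rw [← Nat.sub_add_cancel hfr, pow_add, h2, mul_zero]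
  rw [hf] at h3
  refine DFunLike.ext _ _ fun x => ?_
  exact LinearMap.congr_fun h3 x

/-- `(g - 1) ^ c` kills the `q`-torsion if `g ^ q = 1` and there are at most `q ^ c` points of `q`-torsion. -/
theorem pow_card_kill {q : ℕ} (hq : q.Prime) (g : AddMonoid.End M) (hg : g ^ q = 1) (c : ℕ)
    [Finite {x : M // q • x = 0}] (hc : Nat.card {x : M // q • x = 0} ≤ q ^ c) (x : M) (hx : q • x = 0) :
    ((g - 1) ^ c) x = 0 := by
  have hqf : Fact q.Prime := ⟨hq⟩
  let T : AddSubgroup M := (nsmulAddMonoidHom (α := M) q).ker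
  have hT : ∀ x : M, x ∈ T ↔ q • x = 0 := fun x => AddMonoidHom.mem_ker
  have hfin : Finite T := ‹Finite {x : M // q • x = 0}›
  let h : AddMonoid.End T := ((g - 1).comp T.subtype).codRestrict T (fun x => by
    rw [hT]
    show q • (g - 1) (x : M) = 0
    rw [← map_nsmul, (hT x).1 x.2, map_zero])
  have hf : ∀ (n : ℕ) (x : T), (((h ^ n) x : T) : M) = ((g - 1) ^ n) (x : M) := by
    intro n
    induction n with
    | zero => intro x; rfl
    | succ n ih =>
      intro x
      rw [pow_succ, pow_succ]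
      show (((h ^ n) (h x) : T) : M) = ((g - 1) ^ n) ((g - 1) (x : M))
      rw [ih]
      rfl
  have hnil : IsNilpotent h := by
    refine ⟨q, DFunLike.ext _ _ fun x => Subtype.ext ?_⟩
    rw [hf]
    -- `(g - 1) ^ q = g ^ q - 1 + q * _`
    have h1 : C (q : ℤ) ∣ ((X : ℤ[X]) - 1) ^ q - (X ^ q - 1) := by
      rw [C_dvd_iff_dvd_coeff]
      intro i
      rw [← ZMod.intCast_zmod_eq_zero_iff_dvd]
      have h2 : (((X : ℤ[X]) - 1) ^ q - (X ^ q - 1)).map (Int.castRingHom (ZMod q)) = 0 := by
        simp only [Polynomial.map_sub, Polynomial.map_pow, map_X, Polynomial.map_one]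
        rw [sub_pow_char, one_pow, sub_self]
      have h3 := congrArg (fun f : (ZMod q)[X] => f.coeff i) h2
      simp only [coeff_zero] at h3
      rw [coeff_map] at h3
      exact h3
    obtain ⟨r, hr⟩ := h1
    have h2 := congrArg (aeval g : ℤ[X] →ₐ[ℤ] AddMonoid.End M) hr
    simp only [map_sub, map_pow, map_mul, aeval_X, map_one, hg, sub_self, sub_zero] at h2
    rw [h2, aeval_C, eq_intCast, Int.cast_natCast]
    show (q : AddMonoid.End M) ((aeval g r : AddMonoid.End M) (x : M)) = 0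
    show q • ((aeval g r : AddMonoid.End M) (x : M)) = 0
    rw [← map_nsmul, (hT x).1 x.2, map_zero]
  have h4 := hf c ⟨x, (hT x).2 hx⟩
  rw [@kill_mod T _ q hqf (AddCommGroup.zmodModule (fun x => Subtype.ext ((hT x).1 x.2))) hfin c hc h hnil] at h4
  exact h4.symm

/-- Fixed points of an endomorphism of prime order. -/
theorem sum_eq_zero {q ℓ : ℕ} (g : AddMonoid.End M) (hg : g ^ q = 1)
    (hdiv : ∀ x : M, ∃ y, ℓ • y = x) (htor : ∀ x : M, ∃ n : ℕ, (ℓ ^ n) • x = 0)
    (h : {x : M | g x = x}.Infinite → g = 1) : g = 1 ∨ ∑ i ∈ Finset.range q, g ^ i = 0 := by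
  by_contra hcon
  push Not at hcon
  obtain ⟨h1, h2⟩ := hcon
  apply h1
  apply h
  have hfix : ∀ x : M, g ((∑ i ∈ Finset.range q, g ^ i : AddMonoid.End M) x) =
      (∑ i ∈ Finset.range q, g ^ i : AddMonoid.End M) x := by
    intro x
    have h3 : (g - 1) * ∑ i ∈ Finset.range q, g ^ i = 0 := by
      rw [mul_geom_sum, hg, sub_self]
    have h4 := DFunLike.congr_fun h3 x
    exact sub_eq_zero.1 h4
  set S : AddMonoid.End M := ∑ i ∈ Finset.range q, g ^ i with hS
  obtain ⟨x, hx⟩ : ∃ x, S x ≠ 0 := by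
    by_contra hcon
    push Not at hcon
    exact h2 (DFunLike.ext _ _ hcon)
  -- the image of `S` is infinite
  have hinf : (Set.range S).Infinite := by
    intro hfin
    have hfin' : Finite (Set.range S) := hfin
    let m : Set.range S → Set.range S := fun y => ⟨ℓ • (y : M), by
      obtain ⟨z, hz⟩ := y.2
      exact ⟨ℓ • z, by rw [map_nsmul, hz]⟩⟩
    have hm : Function.Surjective m := by
      rintro ⟨_, z, rfl⟩
      obtain ⟨w, rfl⟩ := hdiv z
      exact ⟨⟨S w, w, rfl⟩, Subtype.ext (map_nsmul S ℓ w).symm⟩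
    have hm' : Function.Injective m := Finite.injective_iff_surjective.2 hm
    obtain ⟨n, hn⟩ := htor (S x)
    have h3 : ∀ (n : ℕ) (y : Set.range S), (ℓ ^ n) • (y : M) = 0 → (y : M) = 0 := by
      intro n
      induction n with
      | zero => intro y hy; simpa using hy
      | succ n ih =>
        intro y hy
        rw [pow_succ, mul_smul] at hy
        have h4 := ih (m y) hy
        have h5 : m y = m ⟨0, 0, map_zero S⟩ := Subtype.ext (by
          rw [h4]
          show (0 : M) = ℓ • (0 : M)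
          rw [smul_zero])
        exact congrArg Subtype.val (hm' h5)
    exact hx (h3 n ⟨S x, x, rfl⟩ hn)
  refine hinf.mono ?_
  rintro _ ⟨z, rfl⟩
  exact hfix z

end Groth.Agent.SGA7.K566.PhiQ
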