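import Groth.Agent.SGA7.K566.NerOne
import Groth.Agent.SGA7.K566.PhiQ
import Groth.Agent.Sga7.H753.NerCond
import Groth.Agent.Sga7.H729.Radical
import Groth.Agent.S4050

/-!
# Elliptic curves with a rational point of order at least five

`unipotent_of_point`: inertia acts unipotently on the `ℓ`-power torsion of an abelian variety of dimension one with a
point of exact order `n ≥ 5` fixed by inertia, for `ℓ` dividing `n`, `n` prime to the residue characteristic.
-/

set_option autoImplicit false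
set_option linter.unusedSectionVars false

universe u

open CategoryTheory CategoryTheory.Limits AlgebraicGeometry MonObj

namespace Groth.Agent.SGA7.K566.EllFive

open Sga7.H753 Sga7.H753.Wild Sga7.H753.WildFix Sga7.H753.Unip Sga7.H753.BaseExt Sga7.H753.Core
open Sga7.H753.NerFix Sga7.H753.NerGeo Sga7.H753.NerField Sga7.H753.NerCond

section pts

variable {K Ω : Type u} [Field K] [Field Ω] [Algebra K Ω] {A : Over (Spec (CommRingCat.of K))} [GrpObj A]
  [IsCommMonObj A]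

theorem mem_D_of_fix [IsSepClosed Ω] [IsProper A.hom] [GeometricallyIntegral A.hom] {ℓ : ℕ} (hℓK : (ℓ : K) ≠ 0)
    (F : Subgroup (SGA7.Pts Ω A)) (f : AddMonoid.End (Additive (SGA7.Pts Ω A)))
    (hf : ∀ v ∈ tors (SGA7.Pts Ω A) ℓ, Additive.toMul (f v) ∈ F) (v : Additive (SGA7.Pts Ω A))
    (hv : v ∈ tors (SGA7.Pts Ω A) ℓ) : f v ∈ D F ℓ := by
  obtain ⟨ν, hν⟩ := hv
  choose r hr using exists_pts_root (Ω := Ω) A ℓ hℓK
  let y : ℕ → SGA7.Pts Ω A := fun j => Nat.rec (Additive.toMul v) (fun _ z => r z) j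
  have hy : ∀ j, y (j + 1) ^ ℓ = y j := fun j => hr _
  have hy0 : y 0 = Additive.toMul v := rfl
  have hyt : ∀ j, Additive.ofMul (y j) ∈ tors (SGA7.Pts Ω A) ℓ := by
    intro j
    refine mem_tors.2 ⟨j + ν, ?_⟩
    rw [pow_add, pow_mul, pow_eq_of_system hy, hy0]
    exact hν
  have hmap : ∀ (k : ℕ) (z : SGA7.Pts Ω A), (Additive.toMul (f (Additive.ofMul z))) ^ k =
      Additive.toMul (f (Additive.ofMul (z ^ k))) := by
    intro k z
    have h1 := map_nsmul f k (Additive.ofMul z)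
    exact h1.symm
  refine ⟨⟨ν, ?_⟩, fun j => Additive.toMul (f (Additive.ofMul (y j))), rfl, fun j => ⟨hf _ (hyt j), ?_⟩⟩
  · have h1 := map_nsmul f (ℓ ^ ν) v
    rw [show (ℓ ^ ν) • v = 0 from hν, map_zero] at h1
    exact h1.symm
  · rw [hmap, hy]

theorem D_le_tors (F : Subgroup (SGA7.Pts Ω A)) (ℓ : ℕ) : D F ℓ ≤ tors (SGA7.Pts Ω A) ℓ :=
  fun _ h => h.1

theorem D_le (F : Subgroup (SGA7.Pts Ω A)) (ℓ : ℕ) {v : Additive (SGA7.Pts Ω A)} (h : v ∈ D F ℓ) :
    Additive.toMul v ∈ F := by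
  obtain ⟨-, z, hz0, hz⟩ := h
  rw [← hz0]
  exact (hz 0).1

theorem tors_map (f : AddMonoid.End (Additive (SGA7.Pts Ω A))) {ℓ : ℕ} {v : Additive (SGA7.Pts Ω A)}
    (hv : v ∈ tors (SGA7.Pts Ω A) ℓ) : f v ∈ tors (SGA7.Pts Ω A) ℓ := by
  obtain ⟨ν, hν⟩ := hv
  exact ⟨ν, by rw [← map_nsmul, hν, map_zero]⟩

/-- An endomorphism preserving a subgroup. -/
def resD {M : Type*} [AddCommGroup M] (T : AddSubgroup M) (f : AddMonoid.End M) (hf : ∀ x ∈ T, f x ∈ T) :
    AddMonoid.End T :=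
  (f.comp T.subtype).codRestrict T (fun x => hf x x.2)

theorem coe_resD {M : Type*} [AddCommGroup M] (T : AddSubgroup M) (f : AddMonoid.End M) (hf : ∀ x ∈ T, f x ∈ T)
    (x : T) : ((resD T f hf x : T) : M) = f x := rfl

theorem coe_resD_pow {M : Type*} [AddCommGroup M] (T : AddSubgroup M) (f : AddMonoid.End M)
    (hf : ∀ x ∈ T, f x ∈ T) (n : ℕ) (x : T) : (((resD T f hf ^ n) x : T) : M) = (f ^ n) (x : M) := by
  induction n generalizing x with
  | zero => rfl
  | succ n ih =>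
    rw [pow_succ, pow_succ]
    show (((resD T f hf ^ n) (resD T f hf x) : T) : M) = (f ^ n) (f x)
    rw [ih]
    rfl

theorem coe_resD_sum {M : Type*} [AddCommGroup M] (T : AddSubgroup M) (f : AddMonoid.End M)
    (hf : ∀ x ∈ T, f x ∈ T) (n : ℕ) (x : T) :
    (((∑ i ∈ Finset.range n, resD T f hf ^ i : AddMonoid.End T) x : T) : M) =
      (∑ i ∈ Finset.range n, f ^ i : AddMonoid.End M) (x : M) := by
  induction n with
  | zero => rfl
  | succ n ih =>
    rw [Finset.sum_range_succ, Finset.sum_range_succ]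
    show (((∑ i ∈ Finset.range n, resD T f hf ^ i : AddMonoid.End T) x : T) : M) +
      (((resD T f hf ^ n) x : T) : M) = (∑ i ∈ Finset.range n, f ^ i : AddMonoid.End M) (x : M) + (f ^ n) (x : M)
    rw [ih, coe_resD_pow]

theorem sum_apply_end {M : Type*} [AddCommGroup M] (f : ℕ → AddMonoid.End M) (n : ℕ) (x : M) :
    (∑ i ∈ Finset.range n, f i : AddMonoid.End M) x = ∑ i ∈ Finset.range n, f i x := by
  induction n with
  | zero => rfl
  | succ n ih =>
    rw [Finset.sum_range_succ, Finset.sum_range_succ, ← ih]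
    rfl

theorem sum_apply_of_fixed {M : Type*} [AddCommGroup M] (f : AddMonoid.End M) (n : ℕ) (x : M) (hx : f x = x) :
    (∑ i ∈ Finset.range n, f ^ i : AddMonoid.End M) x = n • x := by
  have h1 : ∀ n : ℕ, ((f ^ n : AddMonoid.End M)) x = x := by
    intro n
    induction n with
    | zero => rfl
    | succ n ih =>
      rw [pow_succ]
      show (f ^ n) (f x) = x
      rw [hx, ih]
  induction n with
  | zero => rw [zero_smul]; rfl
  | succ n ih =>
    rw [Finset.sum_range_succ, add_smul, one_smul, ← ih]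
    show _ + (f ^ n) x = _
    rw [h1]
    rfl

end pts

section alg

open Groth.Agent.SGA7.K566.PhiQ

/-- The algebraic core of the argument. -/
theorem core {G : Type*} [AddCommGroup G] (n : ℕ) (hn : 5 ≤ n) (x₀ : G) (hx : addOrderOf x₀ = n)
    (V D : ℕ → AddSubgroup G) (hV : ∀ ℓ v, v ∈ V ℓ ↔ ∃ ν : ℕ, (ℓ ^ ν) • v = 0) (hDV : ∀ ℓ, D ℓ ≤ V ℓ)
    (hdiv : ∀ ℓ ∈ n.primeFactors, ∀ x ∈ D ℓ, ∃ y ∈ D ℓ, ℓ • y = x)
    (s : AddMonoid.End G) (hs : ∀ ℓ ∈ n.primeFactors, ∀ d ∈ D ℓ, s d ∈ D ℓ)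
    (q : ℕ) (hq : q.Prime) (hsq : ∀ ℓ ∈ n.primeFactors, ∀ d ∈ D ℓ, (s ^ q) d = d)
    (hinf : ∀ ℓ ∈ n.primeFactors, ∀ ℓ' ∈ n.primeFactors, {x | x ∈ D ℓ ∧ s x = x}.Infinite → ∀ d ∈ D ℓ', s d = d)
    (hne : ∃ ℓ ∈ n.primeFactors, ∃ d ∈ D ℓ, s d ≠ d)
    (hΦ : ∀ ℓ ∈ n.primeFactors, (∀ d ∈ D ℓ, (∑ i ∈ Finset.range q, s ^ i : AddMonoid.End G) d = 0) →
      ∀ v ∈ V ℓ, (∑ i ∈ Finset.range q, s ^ i : AddMonoid.End G) v ∈ D ℓ)
    (hsx : s x₀ = x₀)
    (hcard : ∀ ℓ ∈ n.primeFactors, Nat.card {x : G // ℓ • x = 0} = ℓ ^ 2)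
    (hD0 : ∀ ℓ ∈ n.primeFactors, D ℓ = ⊥ → V ℓ = ⊥) : False := by
  set Φ : AddMonoid.End G := ∑ i ∈ Finset.range q, s ^ i with hΦdef
  have hn0 : n ≠ 0 := by omega
  -- `Φ` kills `D ℓ`
  have h1 : ∀ ℓ ∈ n.primeFactors, ∀ d ∈ D ℓ, Φ d = 0 := by
    intro ℓ hℓ
    have hℓp := Nat.prime_of_mem_primeFactors hℓ
    have h2 := sum_eq_zero (q := q) (ℓ := ℓ) (resD (D ℓ) s (hs ℓ hℓ))
      (DFunLike.ext _ _ fun x => Subtype.ext (by rw [coe_resD_pow]; exact hsq ℓ hℓ x x.2))
      (fun x => by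
        obtain ⟨y, hy, hyx⟩ := hdiv ℓ hℓ x x.2
        exact ⟨⟨y, hy⟩, Subtype.ext hyx⟩)
      (fun x => by
        obtain ⟨ν, hν⟩ := (hV ℓ x).1 (hDV ℓ x.2)
        exact ⟨ν, Subtype.ext hν⟩)
      (fun h => by
        exfalso
        obtain ⟨ℓ', hℓ', d, hd, hdn⟩ := hne
        refine hdn (hinf ℓ hℓ ℓ' hℓ' ?_ d hd)
        refine (h.image (f := Subtype.val) (Subtype.val_injective.injOn)).mono ?_
        rintro _ ⟨z, hz, rfl⟩
        exact ⟨z.2, congrArg Subtype.val hz⟩)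
    rcases h2 with h2 | h2
    · exfalso
      obtain ⟨ℓ', hℓ', d, hd, hdn⟩ := hne
      by_cases h0 : D ℓ = ⊥
      · -- then `V ℓ = 0`, contradiction
        have h3 := hD0 ℓ hℓ h0
        have h4 := hcard ℓ hℓ
        have h5 : Nat.card {x : G // ℓ • x = 0} = 1 := by
          rw [Nat.card_eq_one_iff_unique]
          refine ⟨⟨fun a b => Subtype.ext ?_⟩, ⟨⟨0, smul_zero _⟩⟩⟩
          have h6 : ∀ a : G, ℓ • a = 0 → a = 0 := by
            intro a ha
            have : a ∈ V ℓ := (hV ℓ a).2 ⟨1, by rw [pow_one]; exact ha⟩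
            rw [h3] at this
            exact this
          rw [h6 a.1 a.2, h6 b.1 b.2]
        rw [h4] at h5
        have := Nat.one_lt_pow (n := 2) two_ne_zero hℓp.one_lt
        omega
      · refine hdn (hinf ℓ hℓ ℓ' hℓ' ?_ d hd)
        have h3 : ∀ x ∈ D ℓ, s x = x := fun x hx =>
          congrArg Subtype.val (DFunLike.congr_fun h2 (⟨x, hx⟩ : D ℓ))
        have h4 : {x | x ∈ D ℓ ∧ s x = x} = (D ℓ : Set G) := by
          ext x
          exact ⟨fun h => h.1, fun h => ⟨h, h3 x h⟩⟩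
        rw [h4]
        intro hfin
        have hfin' : Finite (D ℓ) := hfin
        apply h0
        rw [eq_bot_iff]
        intro x hx
        let m : D ℓ → D ℓ := fun y => ℓ • y
        have hm : Function.Surjective m := fun y => by
          obtain ⟨z, hz, hzy⟩ := hdiv ℓ hℓ y y.2
          exact ⟨⟨z, hz⟩, Subtype.ext hzy⟩
        have hm' : Function.Injective m := Finite.injective_iff_surjective.2 hm
        obtain ⟨ν, hν⟩ := (hV ℓ x).1 (hDV ℓ hx)
        have h5 : ∀ (n : ℕ) (y : D ℓ), (ℓ ^ n) • y = 0 → y = 0 := by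
          intro n
          induction n with
          | zero => intro y hy; simpa using hy
          | succ n ih =>
            intro y hy
            rw [pow_succ, mul_smul] at hy
            exact hm' ((ih (m y) hy).trans (smul_zero ℓ).symm)
        exact congrArg Subtype.val (h5 ν ⟨x, hx⟩ (Subtype.ext hν))
    · intro d hd
      have h3 := congrArg Subtype.val (DFunLike.congr_fun h2 ⟨d, hd⟩)
      rw [coe_resD_sum] at h3
      exact h3
  -- `Φ ^ 2` kills `V ℓ`
  have h2 : ∀ ℓ ∈ n.primeFactors, ∀ v ∈ V ℓ, Φ (Φ v) = 0 := fun ℓ hℓ v hv =>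
    h1 ℓ hℓ _ (hΦ ℓ hℓ (h1 ℓ hℓ) v hv)
  have hfix : ∀ k : ℕ, Φ (k • x₀) = q • (k • x₀) := fun k =>
    sum_apply_of_fixed s q (k • x₀) (by rw [map_nsmul, hsx])
  -- `n` is a power of `q`
  have h3 : ∀ {d : ℕ}, d.Prime → d ∣ n → d = q := by
    intro d hd hdn
    have hdm : d ∈ n.primeFactors := Nat.mem_primeFactors.2 ⟨hd, hdn, hn0⟩
    have h4 : d • ((n / d) • x₀) = 0 := by
      rw [← mul_smul, Nat.mul_div_cancel' hdn, ← hx, addOrderOf_nsmul_eq_zero]
    have h5 := h2 d hdm ((n / d) • x₀) ((hV d _).2 ⟨1, by rw [pow_one]; exact h4⟩)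
    rw [hfix, ← mul_smul, hfix, mul_smul, ← mul_smul, ← mul_smul] at h5
    have h6 := addOrderOf_dvd_of_nsmul_eq_zero h5
    rw [hx] at h6
    have h7 : d ∣ q * q := by
      have h8 : (n / d) * d ∣ (n / d) * (q * q) := by
        rw [Nat.div_mul_cancel hdn]
        convert h6 using 1
        ring
      exact Nat.dvd_of_mul_dvd_mul_left (Nat.div_pos (Nat.le_of_dvd (by omega) hdn) hd.pos) h8
    rcases (hd.dvd_mul).1 h7 with h8 | h8
    · exact (Nat.prime_dvd_prime_iff_eq hd hq).1 h8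
    · exact (Nat.prime_dvd_prime_iff_eq hd hq).1 h8
  have h4 : q ∈ n.primeFactors := by
    obtain ⟨d, hd, hdn⟩ := Nat.exists_prime_and_dvd (show n ≠ 1 by omega)
    have := h3 hd hdn
    rw [← this]
    exact Nat.mem_primeFactors.2 ⟨hd, hdn, hn0⟩
  have h5 : x₀ ∈ V q := by
    rw [hV]
    refine ⟨n.primeFactorsList.length, ?_⟩
    rw [← Nat.eq_prime_pow_of_unique_prime_dvd hn0 h3, ← hx, addOrderOf_nsmul_eq_zero]
  have h6 : (q * q) • x₀ = 0 := by
    have h7 := h2 q h4 x₀ h5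
    have h8 := hfix 1
    rw [one_smul] at h8
    rw [h8, hfix, ← mul_smul] at h7
    exact h7
  have h6' : n ∣ q * q := by
    rw [← hx]
    exact addOrderOf_dvd_of_nsmul_eq_zero h6
  -- the `q`-torsion
  let T : AddSubgroup G := (nsmulAddMonoidHom (α := G) q).ker
  have hT : ∀ x : G, x ∈ T ↔ q • x = 0 := fun x => AddMonoidHom.mem_ker
  have hTc : Nat.card T = q ^ 2 := hcard q h4
  have hTfin : Finite T := Nat.finite_of_card_ne_zero (by rw [hTc]; exact (pow_pos hq.pos 2).ne')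
  let T' : AddSubgroup G := T ⊓ D q
  have hT'T : T' ≤ T := inf_le_left
  have hT'fin : Finite T' := Finite.of_injective _ (AddSubgroup.inclusion_injective hT'T)
  have hT'c : Nat.card T' ∣ q ^ 2 := by
    rw [← hTc]
    exact AddSubgroup.card_dvd_of_le hT'T
  let eT : {x : D q // q • x = 0} ≃ T' :=
    { toFun := fun x => ⟨x.1, (hT _).2 (congrArg Subtype.val x.2), x.1.2⟩
      invFun := fun x => ⟨⟨x.1, x.2.2⟩, Subtype.ext ((hT _).1 x.2.1)⟩
      left_inv := fun _ => rfl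
      right_inv := fun _ => rfl }
  have hefin : Finite {x : D q // q • x = 0} := Finite.of_equiv _ eT.symm
  have hec : Nat.card {x : D q // q • x = 0} = Nat.card T' := Nat.card_congr eT
  -- `D q` has `q`-torsion
  have h7 : ¬ ∀ x : D q, q • x = 0 → x = 0 := by
    intro h
    have h8 : D q = ⊥ := by
      rw [eq_bot_iff]
      intro x hx
      obtain ⟨ν, hν⟩ := (hV q x).1 (hDV q hx)
      have h9 : ∀ (n : ℕ) (y : D q), (q ^ n) • y = 0 → y = 0 := by
        intro n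
        induction n with
        | zero => intro y hy; simpa using hy
        | succ n ih =>
          intro y hy
          rw [pow_succ, mul_smul] at hy
          exact h y (ih (q • y) hy)
      exact congrArg Subtype.val (h9 ν ⟨x, hx⟩ (Subtype.ext hν))
    have h9 := hD0 q h4 h8
    rw [h9] at h5
    have h10 : x₀ = 0 := h5
    rw [h10, addOrderOf_zero] at hx
    omega
  let g := resD (D q) s (hs q h4)
  have hgq : g ^ q = 1 := DFunLike.ext _ _ fun x => Subtype.ext (by rw [coe_resD_pow]; exact hsq q h4 x x.2)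
  have hgΦ : ∑ i ∈ Finset.range q, g ^ i = 0 :=
    DFunLike.ext _ _ fun x => Subtype.ext (by rw [coe_resD_sum]; exact h1 q h4 x x.2)
  have key : ∀ c : ℕ, Nat.card T' ≤ q ^ c → ¬ 2 * c ≤ q - 1 := by
    intro c hc hc2
    apply h7
    refine eq_zero_of_phi hq g (fun x => ?_) hgΦ c hc2 (fun x hx => ?_)
    · obtain ⟨y, hy, hyx⟩ := hdiv q h4 x x.2
      exact ⟨⟨y, hy⟩, Subtype.ext hyx⟩
    · exact pow_card_kill hq g hgq c (by rw [hec]; exact hc) x hx
  obtain ⟨i, hi, hTi⟩ := (Nat.dvd_prime_pow hq).1 hT'c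
  rcases Nat.lt_or_ge i 2 with hi2 | hi2
  · -- `c = 1`
    have h8 := key 1 (by rw [hTi]; exact Nat.pow_le_pow_right hq.pos (by omega))
    have h9 : q ≤ 2 := by omega
    have h10 : n ≤ q * q := Nat.le_of_dvd (Nat.mul_pos hq.pos hq.pos) h6'
    have : q * q ≤ 2 * 2 := Nat.mul_le_mul h9 h9
    omega
  · have hi' : i = 2 := by omega
    rw [hi'] at hTi
    have h8 := key 2 (by rw [hTi])
    have h9 : q ≤ 4 := by omega
    -- `D q = V q`
    have h10 : T' = T := AddSubgroup.eq_of_le_of_card_ge hT'T (by rw [hTi, hTc])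
    have h11 : ∀ (ν : ℕ) (v : G), (q ^ ν) • v = 0 → v ∈ D q := by
      intro ν
      induction ν with
      | zero =>
        intro v hv
        rw [pow_zero, one_smul] at hv
        rw [hv]
        exact zero_mem _
      | succ ν ih =>
        intro v hv
        rw [pow_succ, mul_smul] at hv
        obtain ⟨y, hy, hyv⟩ := hdiv q h4 _ (ih (q • v) hv)
        have h12 : v - y ∈ T' := by
          rw [h10, hT, smul_sub, hyv, sub_self]
        have h13 := (D q).add_mem h12.2 hy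
        rwa [sub_add_cancel] at h13
    obtain ⟨ν, hν⟩ := (hV q x₀).1 h5
    have h12 := h1 q h4 x₀ (h11 ν x₀ hν)
    have h13 := hfix 1
    rw [one_smul] at h13
    rw [h13] at h12
    have h14 := addOrderOf_dvd_of_nsmul_eq_zero h12
    rw [hx] at h14
    have := Nat.le_of_dvd hq.pos h14
    omega

end alg

section main

variable (R K Ω : Type u) [CommRing R] [IsDomain R] [IsDiscreteValuationRing R] [Field K]
    [Algebra R K] [IsFractionRing R K] [Field Ω] [Algebra K Ω] [IsSepClosure K Ω]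
    (W : ValuationSubring Ω) (hW : SGA7.LiesOver K R W)
    (A : Over (Spec (CommRingCat.of K))) [GrpObj A] [IsProper A.hom] [GeometricallyIntegral A.hom]

include hW in
theorem exists_level (s : Finset ℕ) (hs : ∀ ℓ ∈ s, ℓ.Prime ∧ (ℓ : IsLocalRing.ResidueField R) ≠ 0) :
    ∃ U : OpenSubgroup (Ω ≃ₐ[K] Ω), ∀ ℓ ∈ s, ∀ (ν : ℕ) (σ τ : Ω ≃ₐ[K] Ω), σ ∈ U → τ ∈ U →
      SGA7.IsInertia W σ → SGA7.IsInertia W τ →
        ∀ x : SGA7.Pts Ω A, x ^ (ℓ ^ ν) = 1 → SGA7.dev σ (SGA7.dev τ x) = 1 := by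
  classical
  induction s using Finset.induction_on with
  | empty => exact ⟨⊤, fun ℓ h => absurd h (Finset.notMem_empty _)⟩
  | insert ℓ s hℓ ih =>
    obtain ⟨U, hU⟩ := ih (fun p hp => hs p (Finset.mem_insert_of_mem hp))
    obtain ⟨U', hU'⟩ := Groth.Agent.S4050.result R K Ω W hW ℓ (hs ℓ (Finset.mem_insert_self _ _)).1
      (hs ℓ (Finset.mem_insert_self _ _)).2 A
    refine ⟨U ⊓ U', fun p hp ν σ τ hσ hτ => ?_⟩
    rcases Finset.mem_insert.1 hp with rfl | hp
    · exact hU' ν σ τ hσ.2 hτ.2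
    · exact hU p hp ν σ τ hσ.1 hτ.1

variable {A} in
theorem toMul_sub_one (s : Ω ≃ₐ[K] Ω) [IsCommMonObj A] (w : Additive (SGA7.Pts Ω A)) :
    Additive.toMul ((galEnd A s - 1) w) = SGA7.dev s (Additive.toMul w) := by
  show SGA7.galAct s (Additive.toMul w) / Additive.toMul w = SGA7.galAct s (Additive.toMul w) * (Additive.toMul w)⁻¹
  exact div_eq_mul_inv _ _

include hW in
/-- Inertia acts unipotently on the `ℓ`-power torsion of an abelian variety of dimension one with a point of exact order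
`n ≥ 5` fixed by inertia. -/
theorem unipotent_of_point (hdim : topologicalKrullDim A.left = 1)
    (x : SGA7.Pts Ω A) (hx : ∀ σ : Ω ≃ₐ[K] Ω, SGA7.IsInertia W σ → SGA7.galAct σ x = x)
    (n : ℕ) (hxn : orderOf x = n) (hn : 5 ≤ n) (hnp : (n : IsLocalRing.ResidueField R) ≠ 0)
    (ℓ : ℕ) (hℓ : ℓ ∈ n.primeFactors) : SGA7.InertiaUnipotentOn W A ℓ := by
  classical
  intro σ hσ
  have hAc : IsCommMonObj A := isCommMonObj_of_isProper_of_geometricallyIntegral A
  have hgal : IsGalois K Ω := IsSepClosure.isGalois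
  have hsc : IsSepClosed Ω := IsSepClosure.sep_closed K
  have hres : ∀ p ∈ n.primeFactors, p.Prime ∧ (p : IsLocalRing.ResidueField R) ≠ 0 := fun p hp =>
    ⟨Nat.prime_of_mem_primeFactors hp, fun h => hnp (by
      obtain ⟨c, hc⟩ := Nat.dvd_of_mem_primeFactors hp
      rw [hc, Nat.cast_mul, h, zero_mul])⟩
  obtain ⟨U, hU⟩ := exists_level R K Ω W hW A n.primeFactors hres
  obtain ⟨E, hEf, hEn, hE⟩ := (krullTopology_mem_nhds_one_iff_of_normal K Ω (U : Set (Ω ≃ₐ[K] Ω))).1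
    (U.isOpen.mem_nhds U.one_mem)
  have hEg : IsGalois K E := ⟨⟩
  have hN : E.fixingSubgroup.Normal := (InfiniteGalois.normal_iff_isGalois E).2 hEg
  -- elements fixing `K₁`
  have fix1 : ∀ τ : Ω ≃ₐ[K] Ω, τ ∈ E.fixingSubgroup → SGA7.IsInertia W τ →
      ∀ z : K₁ W E, τ (algebraMap (K₁ W E) Ω z) = algebraMap (K₁ W E) Ω z := by
    intro τ hτ hτW z
    exact (mem_K₁ W E).1 z.2 τ hτ hτW
  have fix2 : ∀ τ : Ω ≃ₐ[K] Ω, (∀ z : K₁ W E, τ (algebraMap (K₁ W E) Ω z) = algebraMap (K₁ W E) Ω z) →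
      τ ∈ E.fixingSubgroup := by
    intro τ hτ
    rw [IntermediateField.mem_fixingSubgroup_iff]
    intro z hz
    exact hτ (algebraMap E (K₁ W E) ⟨z, hz⟩)
  -- stability of the fixed points under inertia
  have hstab : ∀ σ : Ω ≃ₐ[K] Ω, SGA7.IsInertia W σ → ∀ z : SGA7.Pts Ω A, Fix (K₁ W E) W z →
      Fix (K₁ W E) W (SGA7.galAct σ z) := by
    intro σ hσ z hz τ hτ hτW
    have h1 : τ ∈ E.fixingSubgroup := fix2 τ hτ
    have h2 : σ⁻¹ * τ * σ ∈ E.fixingSubgroup := by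
      have := hN.conj_mem τ h1 σ⁻¹
      rwa [inv_inv] at this
    have h3 : SGA7.IsInertia W (σ⁻¹ * τ * σ) := inertia_mul (inertia_mul (inertia_inv hσ) hτW) hσ
    have h4 := hz _ (fix1 _ h2 h3) h3
    rw [← galAct_mul]
    have h5 : τ * σ = σ * (σ⁻¹ * τ * σ) := by group
    rw [h5, galAct_mul, h4]
  let F : Subgroup (SGA7.Pts Ω A) := Fs A (L := K₁ W E) W
  have hvp : ∀ p ∈ n.primeFactors, W.valuation (p : Ω) = 1 := fun p hp => Core.val_natCast W hW (hres p hp).2
  have hKp : ∀ p ∈ n.primeFactors, (p : K) ≠ 0 := by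
    intro p hp h0
    have h1 : (p : Ω) = 0 := by rw [← map_natCast (algebraMap K Ω), h0, map_zero]
    have h2 := hvp p hp
    rw [h1, map_zero] at h2
    exact zero_ne_one h2
  have hDs : ∀ σ : Ω ≃ₐ[K] Ω, SGA7.IsInertia W σ → ∀ (p : ℕ), ∀ d ∈ D F p, galEnd A σ d ∈ D F p :=
    fun σ hσ p d hd => by
      have hd' : InfDiv (Fix (K₁ W E) W) p (Additive.toMul d) := hd
      exact hd'.map (gal σ) (hstab σ hσ)
  -- level two
  have hL1 : ∀ s : Ω ≃ₐ[K] Ω, s ∈ E.fixingSubgroup → SGA7.IsInertia W s → ∀ p ∈ n.primeFactors,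
      ∀ v ∈ tors (SGA7.Pts Ω A) p, galEnd A s v - v ∈ D F p := by
    intro s hs hsW p hp v hv
    refine mem_D_of_fix (hKp p hp) F (galEnd A s - 1) (fun w hw τ hτ hτW => ?_) v hv
    obtain ⟨ν, hν⟩ := hw
    have h1 := hU p hp ν τ s (hE (fix2 τ hτ)) (hE hs) hτW hsW (Additive.toMul w) hν
    rw [toMul_sub_one]
    exact mul_inv_eq_one.1 h1
  -- commutation
  have hcomm : ∀ σ : Ω ≃ₐ[K] Ω, SGA7.IsInertia W σ → ∀ τ : Ω ≃ₐ[K] Ω, τ ∈ E.fixingSubgroup →
      SGA7.IsInertia W τ → ∀ p ∈ n.primeFactors, ∀ v ∈ tors (SGA7.Pts Ω A) p,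
        galEnd A τ (galEnd A σ v) = galEnd A σ (galEnd A τ v) := by
    intro σ hσ τ hτ hτW p hp v hv
    have h1 := commute_galTors (A := A) (hvp p hp) E.fixingSubgroup
      (fun μ' c hc hcW y hy => hU p hp μ' c c (hE hc) (hE hc) hcW hcW y hy) hτ hτW hσ
    exact congrArg Subtype.val (DFunLike.congr_fun h1 (⟨v, hv⟩ : tors (SGA7.Pts Ω A) p))
  -- inertia acts trivially on the divisible part of the fixed points
  have triv : ∀ p ∈ n.primeFactors, ∀ d ∈ D F p, galEnd A σ d = d := by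
    have hpowI : ∀ k : ℕ, SGA7.IsInertia W (σ ^ k) := fun k => by
      have := inertia_zpow hσ (k : ℤ)
      rwa [zpow_natCast] at this
    have hex : ∃ k : ℕ, 0 < k ∧ ∀ p ∈ n.primeFactors, ∀ d ∈ D F p, galEnd A (σ ^ k) d = d := by
      refine ⟨orderOf (AlgEquiv.restrictNormalHom (F := K) (K₁ := Ω) E σ), orderOf_pos _, fun p hp d hd => ?_⟩
      have h1 : σ ^ (orderOf (AlgEquiv.restrictNormalHom (F := K) (K₁ := Ω) E σ)) ∈ E.fixingSubgroup := by
        rw [← IntermediateField.restrictNormalHom_ker, MonoidHom.mem_ker, map_pow, pow_orderOf_eq_one]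
      exact D_le F p hd _ (fix1 _ h1 (hpowI _)) (hpowI _)
    obtain ⟨hm0, hm⟩ := Nat.find_spec hex
    have hmin := fun j (hj : j < Nat.find hex) => Nat.find_min hex hj
    set m := Nat.find hex with hmdef
    by_cases hm1 : m = 1
    · rw [hm1, pow_one] at hm
      exact hm
    exfalso
    obtain ⟨q, hq, hqm⟩ := Nat.exists_prime_and_dvd hm1
    obtain ⟨k, hk⟩ := hqm
    have hk0 : 0 < k := by
      rcases Nat.eq_zero_or_pos k with rfl | h
      · rw [mul_zero] at hk; omega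
      · exact h
    have hkm : k < m := by
      rw [hk]
      exact (Nat.lt_mul_iff_one_lt_left hk0).2 hq.one_lt
    have hne : ∃ p ∈ n.primeFactors, ∃ d ∈ D F p, galEnd A (σ ^ k) d ≠ d := by
      have h1 := hmin k hkm
      push Not at h1
      exact h1 hk0
    have hki : ∀ i : ℕ, galEnd A (σ ^ k) ^ i = galEnd A (σ ^ (k * i)) := fun i => by
      rw [← map_pow, ← pow_mul]
    refine core n hn (Additive.ofMul x) (by rw [addOrderOf_ofMul_eq_orderOf, hxn])
      (fun p => tors (SGA7.Pts Ω A) p) (fun p => D F p) (fun _ _ => Iff.rfl) (fun p => D_le_tors F p) ?_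
      (galEnd A (σ ^ k)) ?_ q hq ?_ ?_ hne ?_ ?_ ?_ ?_
    · intro p hp d hd
      have hpp := (hres p hp).1
      obtain ⟨y, hy⟩ := D_divisible hpp F hpp.ne_zero (⟨d, hd⟩ : D F p)
      exact ⟨y.1, y.2, congrArg Subtype.val hy⟩
    · intro p _ d hd
      exact hDs _ (hpowI k) p d hd
    · intro p hp d hd
      rw [hki, mul_comm, ← hk]
      exact hm p hp d hd
    · intro p hp p' hp' hinf d hd
      exact NerOne.step1 R K Ω W hW p p' (hres p hp).1 (hres p' hp').1 (hres p hp).2 (hres p' hp').2 A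
        (le_of_eq hdim) E (σ ^ k) (hpowI k) hinf (Additive.toMul d) hd
    · intro p hp hΦ v hv
      refine mem_D_of_fix (hKp p hp) F _ (fun w hw τ hτ hτW => ?_) v hv
      have hτE := fix2 τ hτ
      have h1 : galEnd A τ ((∑ i ∈ Finset.range q, galEnd A (σ ^ k) ^ i :
          AddMonoid.End (Additive (SGA7.Pts Ω A))) w) =
          (∑ i ∈ Finset.range q, galEnd A (σ ^ k) ^ i : AddMonoid.End (Additive (SGA7.Pts Ω A))) (galEnd A τ w) := by
        rw [sum_apply_end, sum_apply_end, map_sum]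
        refine Finset.sum_congr rfl fun i _ => ?_
        rw [hki]
        exact hcomm _ (hpowI _) τ hτE hτW p hp w hw
      have h2 : galEnd A τ w = w + (galEnd A τ w - w) := by abel
      rw [h2, map_add, hΦ _ (hL1 τ hτE hτW p hp w hw), _root_.add_zero] at h1
      exact h1
    · exact hx _ (hpowI k)
    · intro p hp
      have hAg : GrpObj (Over.mk A.hom) := inferInstanceAs (GrpObj A)
      have hAsm : Smooth A.hom := smooth_of_grpObj A.hom
      obtain ⟨m, hm⟩ := Sga7.H620.DimSmooth.exists_dim A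
      have h1 : topologicalKrullDim A.left = m := by
        rw [← hm K (𝟙 _)]
        exact (NerOne.dim_eq_of_iso (X := Red.bc (𝟙 _) A) (Over.pullbackId.app A)).symm
      have h2 : m = 1 := by
        rw [hdim] at h1
        exact_mod_cast h1.symm
      subst h2
      have h3 : (p : Ω) ≠ 0 := by
        rw [← map_natCast (algebraMap K Ω)]
        exact (map_ne_zero _).2 (hKp p hp)
      exact Sga7.H729.Radical.card_pts A 1 (hm Ω _) p h3
    · intro p hp h0
      rw [eq_bot_iff]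
      intro v hv
      have h1 : v ∈ D F p := by
        refine mem_D_of_fix (hKp p hp) F 1 (fun w hw τ hτ hτW => ?_) v hv
        have h2 := hL1 τ (fix2 τ hτ) hτW p hp w hw
        rw [h0, AddSubgroup.mem_bot, sub_eq_zero] at h2
        exact h2
      rw [h0] at h1
      exact h1
  -- conclusion
  refine ⟨2, fun ν y hy => ?_⟩
  have hv : Additive.ofMul y ∈ tors (SGA7.Pts Ω A) ℓ := ⟨ν, hy⟩
  have h1 : (galEnd A σ - 1) (Additive.ofMul y) ∈ D F ℓ := by
    refine mem_D_of_fix (hKp ℓ hℓ) F _ (fun w hw τ hτ hτW => ?_) _ hv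
    have hτE := fix2 τ hτ
    have h2 : galEnd A τ ((galEnd A σ - 1) w) = (galEnd A σ - 1) (galEnd A τ w) := by
      show galEnd A τ (galEnd A σ w - w) = galEnd A σ (galEnd A τ w) - galEnd A τ w
      rw [map_sub, hcomm σ hσ τ hτE hτW ℓ hℓ w hw]
    have h3 : galEnd A τ w = w + (galEnd A τ w - w) := by abel
    have h4 : (galEnd A σ - 1) (galEnd A τ w - w) = 0 := by
      show galEnd A σ (galEnd A τ w - w) - (galEnd A τ w - w) = 0
      rw [triv ℓ hℓ _ (hL1 τ hτE hτW ℓ hℓ w hw), sub_self]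
    rw [h3, map_add, h4, _root_.add_zero] at h2
    exact h2
  have h2 : galEnd A σ ((galEnd A σ - 1) (Additive.ofMul y)) = (galEnd A σ - 1) (Additive.ofMul y) :=
    triv ℓ hℓ _ h1
  show SGA7.dev σ (SGA7.dev σ y) = 1
  have h3 : SGA7.galAct σ (SGA7.dev σ y) = SGA7.dev σ y := by
    have h4 := toMul_sub_one K Ω (A := A) σ (Additive.ofMul y)
    rw [toMul_ofMul] at h4
    rw [← h4]
    exact h2
  exact mul_inv_eq_one.2 h3

end main

end Groth.Agent.SGA7.K566.EllFive
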