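import Groth.Agent.Sga7.H109.Struct
import Groth.Agent.Sga3.H783.GaGm
import Groth.Agent.Sga3.H821.AffProper
import Groth.Agent.Sga3.H816.TorusDim
import Groth.Agent.Sga3.H800.FieldMax
import Groth.Agent.Sga3B.Parab.TorRank156
import Groth.Agent.Sga3B.Parab.DSHom
import Groth.Agent.S3036
import Groth.Prelude.Def_EndRing

/-!
# The group of cocharacters of a commutative algebraic group without additive subgroup

Over an algebraically closed field `k` the cocharacters of a smooth connected commutative group `G`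
without closed `𝔾_a` form a free abelian group of finite rank `r ≤ dim G`, and `G` is proper if
`r = 0`.
-/

set_option autoImplicit false
universe u
open CategoryTheory MonoidalCategory CartesianMonoidalCategory MonObj GrpObj AlgebraicGeometry Limits

namespace Groth.Agent.SGA7.K566.Cochar

open Sga7.H109.Basic Sga7.H109.Struct Sga3.H794.ChevKer

variable {k : Type u} [Field k] [IsAlgClosed k]

instance connected_gm : ConnectedSpace (Red.Gm (Spec (CommRingCat.of k))).left := by
  have := Sga3.H783.GaGm.isIntegral_gm (K := k)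
  infer_instance

omit [IsAlgClosed k] in
/-- The cocharacters of a split torus. -/
theorem nonempty_torus (r : ℕ) : Nonempty (((Fin r → ℤ) →+ ℤ) ≃+
    EndAV.Hom (Red.Gm (Spec (CommRingCat.of k))) (Red.DS (Spec (CommRingCat.of k)) (Fin r → ℤ))) := by
  let f : ((Fin r → ℤ) →+ ℤ) →+
      EndAV.Hom (Red.Gm (Spec (CommRingCat.of k))) (Red.DS (Spec (CommRingCat.of k)) (Fin r → ℤ)) :=
    { toFun := fun w => EndAV.Hom.of (Red.DSmap (Spec (CommRingCat.of k)) w)
      map_zero' := EndAV.Hom.ext Sga3.H800.FieldMax.DSmap_zero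
      map_add' := fun v w => EndAV.Hom.ext (Sga3.H800.FieldMax.DSmap_add v w) }
  refine ⟨AddEquiv.ofBijective f ⟨fun v w h => ?_, fun l => ?_⟩⟩
  · exact Sga3B.Parab.TorRank156.DSmap_injective (congrArg EndAV.Hom.toHom h)
  · obtain ⟨w, hw⟩ := Sga3B.Parab.DSHom.exists_DSmap l.toHom
    exact ⟨w, EndAV.Hom.ext hw.symm⟩

/-- Composition with a homomorphism. -/
noncomputable def postcomp {G H : Over (Spec (CommRingCat.of k))} [GrpObj G] [IsCommMonObj G] [GrpObj H] [IsCommMonObj H]
    (i : G ⟶ H) [IsMonHom i] : EndAV.Hom (Red.Gm (Spec (CommRingCat.of k))) G →+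
      EndAV.Hom (Red.Gm (Spec (CommRingCat.of k))) H where
  toFun l := l ≫ EndAV.Hom.of i
  map_zero' := Limits.zero_comp
  map_add' a b := Preadditive.add_comp _ _ _ a b _

omit [IsAlgClosed k] in
theorem bijective_postcomp {G H : Over (Spec (CommRingCat.of k))} [GrpObj G] [IsCommMonObj G] [GrpObj H]
    [IsCommMonObj H] (i : G ⟶ H) [IsMonHom i] [Mono i]
    (h : ∀ (l : Red.Gm (Spec (CommRingCat.of k)) ⟶ H) [IsMonHom l],
      ∃ m : Red.Gm (Spec (CommRingCat.of k)) ⟶ G, m ≫ i = l) : Function.Bijective (postcomp i) := by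
  refine ⟨fun a b hab => ?_, fun l => ?_⟩
  · apply EndAV.Hom.ext
    rw [← cancel_mono i]
    exact congrArg EndAV.Hom.toHom hab
  · obtain ⟨m, hm⟩ := h l.toHom
    have hmi : IsMonHom (m ≫ i) := by rw [hm]; infer_instance
    have hmm : IsMonHom m := Sga3C.SubGrp.isMonHom_of_comp_mono m i
    exact ⟨EndAV.Hom.of m, EndAV.Hom.ext hm⟩

theorem exists_rank (G : Over (Spec (CommRingCat.of k))) [GrpObj G] [IsCommMonObj G] [Smooth G.hom]
    [QuasiCompact G.hom] [ConnectedSpace G.left] (h : NoGa G) :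
    ∃ r : ℕ, Nonempty (EndAV.Hom (Red.Gm (Spec (CommRingCat.of k))) G ≃+ (Fin r → ℤ)) ∧
      (r : WithBot ℕ∞) ≤ topologicalKrullDim G.left ∧ (r = 0 → IsProper G.hom) := by
  obtain ⟨r, i, Q, _, q, hi, hic, hq, hqs, hqf, hker, hQp, hQs, hQc⟩ := exists_semiabelian G h
  have himl : Mono i.left := inferInstance
  have him : Mono i := Over.mono_of_mono_left i
  obtain ⟨e⟩ := nonempty_torus (k := k) r
  have hgs := Sga3.H783.GaGm.smooth_gm (K := k)
  have hga := Sga3.H783.GaGm.isAffine_gm (K := k)
  have hb := bijective_postcomp i (fun l _ => by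
    have h1 : l ≫ q = 1 := Sga3.H821.AffProper.hom_eq_one (k := k) _ Q (l ≫ q)
    exact exists_lift_ker hker l h1)
  let e₂ := AddEquiv.ofBijective (postcomp i) hb
  let e₃ : ((Fin r → ℤ) →+ ℤ) ≃+ (Fin r → ℤ) := (addMonoidHomLequivInt ℤ).toAddEquiv.trans
    ((Pi.basisFun ℤ (Fin r)).constr ℤ).symm.toAddEquiv
  refine ⟨r, ⟨(e₂.symm.trans e.symm).trans e₃⟩, ?_, fun hr => ?_⟩
  · rw [← Sga3.H816.TorusDim.topologicalKrullDim_DS k r]
    exact i.left.isClosedEmbedding.isInducing.topologicalKrullDim_le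
  · subst hr
    have hqm : Mono q := by
      refine ⟨fun a b hab => ?_⟩
      have h1 : (a * b⁻¹) ≫ q = 1 := by
        rw [MonObj.mul_comp, GrpObj.inv_comp, hab, mul_inv_cancel]
      obtain ⟨t, ht⟩ := exists_lift_ker hker _ h1
      have ht1 : t = 1 := by
        apply (Sga3B.DSPts.dsEquiv _ (Fin 0 → ℤ)).symm.injective
        refine MonoidHom.ext fun m => ?_
        have hm : m = 1 := Subsingleton.elim (α := Fin 0 → ℤ) _ _
        rw [hm, map_one, map_one]
      rw [ht1, MonObj.one_comp] at ht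
      exact (mul_inv_eq_one.1 ht.symm)
    have hql : LocallyOfFiniteType Q.hom := inferInstance
    have hqqc : QuasiCompact q.left := by
      have : QuasiCompact (q.left ≫ Q.hom) := by rw [Over.w]; infer_instance
      exact QuasiCompact.of_comp q.left Q.hom
    have hcl : IsClosedImmersion q.left := S3036.result k G Q q
    rw [← Over.w q]
    infer_instance

end Groth.Agent.SGA7.K566.Cochar
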