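import Groth.Agent.SGA7.K566.BTBase
import Groth.Agent.S7788
import Groth.Agent.S16186
import Groth.Agent.PicF.K247.SmoothGI
import Groth.Agent.AbSch.K448.Isogeny
import Groth.Agent.Models.WeilChart
import Groth.Agent.Sga7.H755.FN.NeronDesc
import Groth.Prelude.Def_SGA7IX

/-!
# The torsion layers of an abelian scheme over a discrete valuation ring
-/

set_option autoImplicit false
set_option linter.style.haveILetI false

universe u

open CategoryTheory CategoryTheory.Limits MonoidalCategory CartesianMonoidalCategory AlgebraicGeometry MonObj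

namespace Groth.Agent.SGA7.K566.AbLayers

open Groth.Agent.Sga7.H760.KerBc Groth.Agent.Sga3B.KerGrp

/-- Proper smooth group schemes are Néron models. -/
theorem isNeron (R K : Type u) [CommRing R] [IsDomain R] [IsDiscreteValuationRing R] [Field K] [Algebra R K]
    [IsFractionRing R K] (N : Over (Spec (CommRingCat.of R))) [GrpObj N] [IsProper N.hom] [Smooth N.hom] :
    SGA7.IsNeron R K N := by
  have hG : GrpObj (Over.mk N.hom) := inferInstanceAs (GrpObj N)
  refine Groth.Agent.Sga7.H755.FN.NeronDesc.isNeron_of N (fun Y y _ f hf => ?_)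
  obtain ⟨u, ⟨hu1, hu2⟩, -⟩ := Groth.Agent.Models.WeilChart.existsUnique_extension N.hom y K f
    (hf.trans pullback.condition.symm)
  exact ⟨u, hu1, hu2⟩

section layers

variable {R K : Type u} [CommRing R] [IsDomain R] [IsDiscreteValuationRing R] [Field K] [Algebra R K]
  [IsFractionRing R K]

/-- the rank of a finite flat scheme over a domain is constant. -/
theorem isFinLocFreeOfDeg_of_gen {X : Scheme.{u}} (f : X ⟶ Spec (CommRingCat.of R)) [IsFinite f] [Flat f]
    [LocallyOfFinitePresentation f] (d : ℕ)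
    (h : Mor2.IsFinLocFreeOfDeg d (pullback.snd f (Spec.map (CommRingCat.ofHom (algebraMap R K))))) :
    Mor2.IsFinLocFreeOfDeg d f := by
  refine ⟨⟨inferInstance, inferInstance, inferInstance⟩, fun y => ?_⟩
  obtain ⟨z⟩ : Nonempty ↥(Spec (CommRingCat.of K)) := inferInstance
  have h1 := h.2 z
  rw [Scheme.Hom.finrank_pullback_snd] at h1
  rw [← h1]
  have hc : PreconnectedSpace ↥(Spec (CommRingCat.of R)) := inferInstance
  exact (Scheme.Hom.isLocallyConstant_finrank f).apply_eq_of_preconnectedSpace _ _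

theorem exists_layers (B : Over (Spec (CommRingCat.of R))) [GrpObj B] [IsCommMonObj B] [IsProper B.hom] [Smooth B.hom]
    (hconn : ∀ (k' : Type u) [Field k'] (t : Spec (CommRingCat.of k') ⟶ Spec (CommRingCat.of R)),
      ConnectedSpace ↑(pullback B.hom t)) (p : ℕ) (hp : p ≠ 0) (d : ℕ → ℕ)
    (hd : ∀ (ν : ℕ) (Q : Over (Spec (CommRingCat.of K))) (i : Q ⟶ (SGA7.genFib R K).obj B),
      AlgGrp.IsKernel i ((𝟙 (Red.bc (Spec.map (CommRingCat.ofHom (algebraMap R K))) B)) ^ (p ^ ν)) →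
        Mor2.IsFinLocFreeOfDeg (d ν) Q.hom) :
    ∃ (T : ℕ → Over (Spec (CommRingCat.of R))) (_ : ∀ ν, GrpObj (T ν)) (j : ∀ ν, T ν ⟶ B),
      (∀ ν, BTGrp.IsTorsionLevel B p ν (T ν) (j ν)) ∧ ∀ ν, Mor2.IsFinLocFreeOfDeg (d ν) (T ν).hom := by
  have hmon : ∀ ν, IsMonHom ((𝟙 B : B ⟶ B) ^ (p ^ ν)) := fun ν => K719.GrpHom.isMonHom_pow (𝟙 B) _
  choose inst hinst using fun ν => exists_grpObj ((𝟙 B : B ⟶ B) ^ (p ^ ν))
  refine ⟨fun ν => kerObj ((𝟙 B : B ⟶ B) ^ (p ^ ν)), inst, fun ν => kerι _, fun ν => ⟨hinst ν, isPullback_ker _⟩,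
    fun ν => ?_⟩
  have hgc : GeometricallyConnected B.hom := by
    rw [geometricallyConnected_iff]
    intro k' _ t P fst snd hP
    exact hP.isoPullback.symm.hom.homeomorph.surjective.connectedSpace hP.isoPullback.symm.hom.continuous
  have hgi : GeometricallyIntegral B.hom := K247.SmoothGI.geometricallyIntegral B.hom
  choose g hg using fun s => K448.Isogeny.exists_dim B s
  have h1 : IsFinite ((𝟙 B : B ⟶ B) ^ (p ^ ν)).left ∧ Flat ((𝟙 B : B ⟶ B) ^ (p ^ ν)).left := by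
    have h0 := Groth.Agent.S7788.result B g hg ((p ^ ν : ℕ) : ℤ) (by
      rw [Nat.cast_ne_zero]
      exact pow_ne_zero _ hp)
    rw [zpow_natCast] at h0
    exact ⟨h0.1, h0.2.1⟩
  have h2 := h1.1
  have h3 := h1.2
  have h4 : LocallyOfFinitePresentation ((𝟙 B : B ⟶ B) ^ (p ^ ν)).left := by
    have h5 : LocallyOfFinitePresentation (((𝟙 B : B ⟶ B) ^ (p ^ ν)).left ≫ B.hom) := by
      rw [Over.w]
      infer_instance
    have h6 : LocallyOfFiniteType ((𝟙 B : B ⟶ B) ^ (p ^ ν)).left := inferInstance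
    have h7 : IsLocallyNoetherian B.left := LocallyOfFiniteType.isLocallyNoetherian B.hom
    exact Groth.Agent.S16186.lfp_of_noetherian _
  have h5 : IsFinite (kerObj ((𝟙 B : B ⟶ B) ^ (p ^ ν))).hom :=
    inferInstanceAs (IsFinite (pullback.snd ((𝟙 B : B ⟶ B) ^ (p ^ ν)).left (η[B] : 𝟙_ (Over _) ⟶ B).left))
  have h6 : Flat (kerObj ((𝟙 B : B ⟶ B) ^ (p ^ ν))).hom :=
    inferInstanceAs (Flat (pullback.snd ((𝟙 B : B ⟶ B) ^ (p ^ ν)).left (η[B] : 𝟙_ (Over _) ⟶ B).left))
  have h7 : LocallyOfFinitePresentation (kerObj ((𝟙 B : B ⟶ B) ^ (p ^ ν))).hom :=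
    inferInstanceAs (LocallyOfFinitePresentation
      (pullback.snd ((𝟙 B : B ⟶ B) ^ (p ^ ν)).left (η[B] : 𝟙_ (Over _) ⟶ B).left))
  refine isFinLocFreeOfDeg_of_gen (K := K) _ (d ν) ?_
  refine hd ν _ ((Over.pullback (Spec.map (CommRingCat.ofHom (algebraMap R K)))).map (kerι ((𝟙 B : B ⟶ B) ^ (p ^ ν)))) ?_
  have h8 := isKernel_bc (Spec.map (CommRingCat.ofHom (algebraMap R K))) (isPullback_ker ((𝟙 B : B ⟶ B) ^ (p ^ ν)))
  rwa [BTBase.map_id_pow] at h8

end layers

end Groth.Agent.SGA7.K566.AbLayers
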