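import Groth.Agent.Sga7.H760.KerBc
import Groth.Agent.Picfga.HilbPull
import Groth.Agent.WittGrp.K719.GrpHom
import Groth.Prelude.Def_BT

/-!
# Base change of Barsotti–Tate groups, and the Barsotti–Tate group of the torsion layers of a group scheme
-/

set_option autoImplicit false
set_option linter.style.haveILetI false

universe u

open CategoryTheory CategoryTheory.Limits MonoidalCategory CartesianMonoidalCategory AlgebraicGeometry MonObj

namespace Groth.Agent.SGA7.K566.BTBase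

open Groth.Agent.Sga7.H760.KerBc

section bc

variable {S S' : Scheme.{u}} (f : S' ⟶ S)

theorem map_one' {X Y : Over S} [GrpObj Y] :
    (Over.pullback f).map (1 : X ⟶ Y) = (1 : Red.bc f X ⟶ Red.bc f Y) := Functor.map_one _

theorem map_mul' {X Y : Over S} [GrpObj Y] (a b : X ⟶ Y) :
    (Over.pullback f).map (a * b) =
      ((Over.pullback f).map a : Red.bc f X ⟶ Red.bc f Y) * (Over.pullback f).map b := Functor.map_mul _ _ _

theorem map_pow' {X Y : Over S} [GrpObj Y] (a : X ⟶ Y) (n : ℕ) :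
    (Over.pullback f).map (a ^ n) = ((Over.pullback f).map a : Red.bc f X ⟶ Red.bc f Y) ^ n := by
  induction n with
  | zero => rw [pow_zero, pow_zero, map_one']
  | succ n ih => rw [pow_succ, pow_succ, map_mul', ih]

theorem map_id_pow {X : Over S} [GrpObj X] (n : ℕ) :
    (Over.pullback f).map (𝟙 X ^ n) = (𝟙 (Red.bc f X)) ^ n := by
  rw [map_pow', CategoryTheory.Functor.map_id]

/-- Base change of a Barsotti–Tate group. -/
noncomputable def bc {ℓ h : ℕ} (G : BTGrp.ProBT ℓ S h) : BTGrp.ProBT ℓ S' h where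
  G ν := Red.bc f (G.G ν)
  grp ν := inferInstance
  comm ν := inferInstanceAs (IsCommMonObj ((Over.pullback f).obj (G.G ν)))
  incl ν := (Over.pullback f).map (G.incl ν)
  proj ν := (Over.pullback f).map (G.proj ν)
  hom_incl ν := inferInstanceAs (IsMonHom ((Over.pullback f).map (G.incl ν)))
  hom_proj ν := inferInstanceAs (IsMonHom ((Over.pullback f).map (G.proj ν)))
  finLocFree ν := Picfga.HilbPull.isFinLocFreeOfDeg_of_isPullback
    (IsPullback.of_hasPullback (G.G ν).hom f) (G.finLocFree ν)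
  incl_proj ν := by rw [← Functor.map_comp, G.incl_proj, map_id_pow]
  proj_incl ν := by rw [← Functor.map_comp, G.proj_incl, map_id_pow]
  isKernel ν := by
    have h1 := isKernel_bc f (G.isKernel ν)
    rwa [map_id_pow] at h1

end bc

section tors

variable {S : Scheme.{u}} (N : Over S) [GrpObj N] [IsCommMonObj N] (ℓ h : ℕ)
  (T : ℕ → Over S) [∀ ν, GrpObj (T ν)] (j : ∀ ν, T ν ⟶ N) (hj : ∀ ν, BTGrp.IsTorsionLevel N ℓ ν (T ν) (j ν))

include hj

theorem mono_j (ν : ℕ) : Mono (j ν) := by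
  refine ⟨fun a b hab => ?_⟩
  exact (hj ν).2.hom_ext hab (toUnit_unique _ _)

theorem pow_j (ν : ℕ) : (j ν) ^ (ℓ ^ ν) = 1 := by
  have h1 := ((isKernel_iff _ _).1 (hj ν).2).1
  rwa [MonObj.comp_pow, Category.comp_id] at h1

theorem exists_lift (ν : ℕ) {Z : Over S} (x : Z ⟶ N) (hx : x ^ (ℓ ^ ν) = 1) : ∃ y : Z ⟶ T ν, y ≫ j ν = x := by
  obtain ⟨y, hy, -⟩ := ((isKernel_iff _ _).1 (hj ν).2).2 Z x (by rw [MonObj.comp_pow, Category.comp_id, hx])
  exact ⟨y, hy⟩

theorem comm_T (ν : ℕ) : IsCommMonObj (T ν) := by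
  have := (hj ν).1
  have := mono_j N ℓ T j hj ν
  have hcomm : ∀ (Z : Over S) (a b : Z ⟶ T ν), a * b = b * a := by
    intro Z a b
    have h1 : (a * b) ≫ j ν = (b * a) ≫ j ν := by
      rw [MonObj.mul_comp, MonObj.mul_comp, mul_comm]
    exact (cancel_mono (j ν)).1 h1
  refine ⟨?_⟩
  rw [mul_eq_mul, MonObj.comp_mul, hcomm]
  congr 1
  · simp
  · simp

theorem exists_incl : ∃ incl : ∀ ν, T ν ⟶ T (ν + 1), ∀ ν, incl ν ≫ j (ν + 1) = j ν := by
  have h1 : ∀ ν, ∃ y : T ν ⟶ T (ν + 1), y ≫ j (ν + 1) = j ν := fun ν =>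
    exists_lift N ℓ T j hj (ν + 1) (j ν) (by rw [pow_succ, pow_mul, pow_j N ℓ T j hj, one_pow])
  choose incl hincl using h1
  exact ⟨incl, hincl⟩

theorem exists_proj : ∃ proj : ∀ ν, T (ν + 1) ⟶ T ν, ∀ ν, proj ν ≫ j ν = (j (ν + 1)) ^ ℓ := by
  have h1 : ∀ ν, ∃ y : T (ν + 1) ⟶ T ν, y ≫ j ν = (j (ν + 1)) ^ ℓ := fun ν =>
    exists_lift N ℓ T j hj ν ((j (ν + 1)) ^ ℓ) (by rw [← pow_mul, ← pow_succ', pow_j N ℓ T j hj])
  choose proj hproj using h1
  exact ⟨proj, hproj⟩

theorem isMonHom_of_comp {Z : Over S} [GrpObj Z] (ν : ℕ) (a : Z ⟶ T ν) (ha : IsMonHom (a ≫ j ν)) : IsMonHom a := by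
  have := mono_j N ℓ T j hj ν
  have := (hj ν).1
  constructor
  · rw [← cancel_mono (j ν), Category.assoc, IsMonHom.one_hom, IsMonHom.one_hom]
  · rw [← cancel_mono (j ν), Category.assoc, Category.assoc, IsMonHom.mul_hom, IsMonHom.mul_hom,
      MonoidalCategory.tensorHom_comp_tensorHom_assoc]

/-- The torsion layers of a commutative group scheme form a Barsotti–Tate group as soon as they are finite locally free
of the right orders. -/
noncomputable def torsBT (incl : ∀ ν, T ν ⟶ T (ν + 1)) (h1 : ∀ ν, incl ν ≫ j (ν + 1) = j ν)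
    (proj : ∀ ν, T (ν + 1) ⟶ T ν) (h2 : ∀ ν, proj ν ≫ j ν = (j (ν + 1)) ^ ℓ)
    (hfin : ∀ ν, Mor2.IsFinLocFreeOfDeg (ℓ ^ (ν * h)) (T ν).hom) : BTGrp.ProBT ℓ S h where
  G := T
  comm := comm_T N ℓ T j hj
  incl := incl
  proj := proj
  hom_incl ν := isMonHom_of_comp N ℓ T j hj (ν + 1) (incl ν) (by rw [h1]; exact (hj ν).1)
  hom_proj ν := isMonHom_of_comp N ℓ T j hj ν (proj ν) (by
    rw [h2]
    have := (hj (ν + 1)).1
    exact K719.GrpHom.isMonHom_pow (j (ν + 1)) ℓ)
  finLocFree := hfin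
  incl_proj ν := by
    have := mono_j N ℓ T j hj ν
    have := (hj ν).1
    rw [← cancel_mono (j ν), Category.assoc, h2, MonObj.comp_pow, h1, MonObj.pow_comp, Category.id_comp]
  proj_incl ν := by
    have := mono_j N ℓ T j hj (ν + 1)
    have := (hj (ν + 1)).1
    rw [← cancel_mono (j (ν + 1)), Category.assoc, h1, h2, MonObj.pow_comp, Category.id_comp]
  isKernel ν := by
    have := (hj (ν + 1)).1
    have := mono_j N ℓ T j hj ν
    have := mono_j N ℓ T j hj (ν + 1)
    rw [isKernel_iff]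
    constructor
    · rw [MonObj.comp_pow, Category.comp_id, ← cancel_mono (j (ν + 1)), MonObj.pow_comp, h1, pow_j N ℓ T j hj,
        MonObj.one_comp]
    · intro Z g hg
      rw [MonObj.comp_pow, Category.comp_id] at hg
      obtain ⟨y, hy⟩ := exists_lift N ℓ T j hj ν (g ≫ j (ν + 1)) (by
        rw [← MonObj.pow_comp, hg, MonObj.one_comp])
      refine ⟨y, ?_, fun y' hy' => ?_⟩
      · change y ≫ incl ν = g
        rw [← cancel_mono (j (ν + 1)), Category.assoc, h1, hy]
      · rw [← cancel_mono (j ν), hy, ← h1, ← Category.assoc, hy']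

end tors

end Groth.Agent.SGA7.K566.BTBase
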