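import Groth.Agent.AbVar.K521.CharP
import Groth.Prelude.Def_Red

/-!
# Morphisms agreeing on the `p^n`-torsion, in characteristic `p`

Two morphisms from an integral group variety in characteristic `p` which agree on the points killed by the powers of
`p` are equal: the kernels of `p^n` contain the infinitesimal neighbourhoods of the origin.
-/

set_option autoImplicit false
universe u
open CategoryTheory CategoryTheory.Limits MonoidalCategory CartesianMonoidalCategory AlgebraicGeometry MonObj

namespace Groth.Agent.SGA7.K566.CharPId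

theorem eq_of_kills {K : Type u} [Field K] (X Y : Over (Spec (CommRingCat.of K))) [GrpObj X]
    [LocallyOfFiniteType X.hom] [IsIntegral X.left] [IsSeparated Y.hom] (p : ℕ) (hp : (p : K) = 0)
    (f g : X ⟶ Y) (h : ∀ (m : ℕ) (T : Over (Spec (CommRingCat.of K))) (x : T ⟶ X), x ^ (p ^ m) = 1 → x ≫ f = x ≫ g) :
    f = g := by
  have hfg : f.left ≫ Y.hom = g.left ≫ Y.hom := by rw [Over.w, Over.w]
  -- the equalizer
  let c : pullback (pullback.diagonal Y.hom) (pullback.lift f.left g.left hfg) ⟶ X.left := pullback.snd _ _
  have hc : IsClosedImmersion c := inferInstance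
  have hiso : IsIso c := by
    refine K521.CharP.isIso_of_char X p hp _ c (fun m _ => ?_)
    let T : Over (Spec (CommRingCat.of K)) := Over.mk (pullback.snd η[X].left ((𝟙 X ^ (p ^ m)).left) ≫ X.hom)
    let x : T ⟶ X := Over.homMk (pullback.snd η[X].left ((𝟙 X ^ (p ^ m)).left)) rfl
    have hx : x ^ (p ^ m) = 1 := by
      have h1 : x ≫ (𝟙 X ^ (p ^ m)) = x ^ (p ^ m) := by rw [MonObj.comp_pow, Category.comp_id]
      rw [← h1, Hom.one_def]
      ext1
      have h2 := pullback.condition (f := η[X].left) (g := (𝟙 X ^ (p ^ m)).left)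
      change pullback.snd η[X].left ((𝟙 X ^ (p ^ m)).left) ≫ (𝟙 X ^ (p ^ m)).left = _
      rw [← h2, Over.comp_left]
      congr 1
      have h3 : (pullback.snd η[X].left ((𝟙 X ^ (p ^ m)).left) ≫ X.hom) =
          pullback.fst η[X].left ((𝟙 X ^ (p ^ m)).left) := by
        have h4 : (𝟙 X ^ (p ^ m)).left ≫ X.hom = X.hom := Over.w _
        have h5 : η[X].left ≫ X.hom = 𝟙 _ := Over.w η[X]
        rw [← h4, ← Category.assoc, ← h2, Category.assoc, h5]
        exact Category.comp_id _
      exact h3.symm
    have hxe := h m T x hx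
    refine ⟨pullback.lift (pullback.snd η[X].left ((𝟙 X ^ (p ^ m)).left) ≫ f.left)
      (pullback.snd η[X].left ((𝟙 X ^ (p ^ m)).left)) ?_, pullback.lift_snd _ _ _⟩
    have h6 : pullback.snd η[X].left ((𝟙 X ^ (p ^ m)).left) ≫ f.left =
        pullback.snd η[X].left ((𝟙 X ^ (p ^ m)).left) ≫ g.left := congrArg (fun z => z.left) hxe
    apply pullback.hom_ext
    · rw [Category.assoc, Category.assoc, Category.assoc, pullback.diagonal_fst, Category.comp_id]
      erw [pullback.lift_fst]
    · rw [Category.assoc, Category.assoc, Category.assoc, pullback.diagonal_snd, Category.comp_id, h6]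
      erw [pullback.lift_snd]
  ext1
  have h7 : c ≫ f.left = c ≫ g.left := by
    have h8 := pullback.condition (f := pullback.diagonal Y.hom) (g := pullback.lift f.left g.left hfg)
    have h9 := congrArg (fun z => z ≫ pullback.fst _ _) h8
    have h10 := congrArg (fun z => z ≫ pullback.snd _ _) h8
    simp only [Category.assoc, pullback.diagonal_fst, pullback.diagonal_snd, pullback.lift_fst, pullback.lift_snd,
      Category.comp_id] at h9 h10
    exact h9.symm.trans h10
  exact (cancel_epi c).1 h7

end Groth.Agent.SGA7.K566.CharPId
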