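import Mathlib.RingTheory.Polynomial.Cyclotomic.Basic
import Mathlib.RingTheory.Polynomial.Cyclotomic.Eval
import Mathlib.RingTheory.RootsOfUnity.PrimitiveRoots
import Mathlib.RingTheory.Coprime.Lemmas
import Mathlib.Data.Nat.Totient
import Mathlib.Tactic

/-!
# Roots of unity `ζ` with `(ζ - 1)²` divisible by an integer, in a domain

`B` a domain of characteristic zero, `ζ` a root of unity in `B` with `n ∣ (ζ - 1)²`, `ℓ ∣ n` a prime which is
not a unit of `B`.  Then `ζ = 1` or `ζ` has order `ℓ^s` and `m φ(ℓ^s) ≤ 2` when `ℓ^m ∣ n`.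
-/

set_option autoImplicit false

namespace K566.DomRoot

open Polynomial

variable {B : Type*} [CommRing B] [IsDomain B]

/-- `ζ - 1` divides `Φ_r(1)`. -/
lemma sub_one_dvd_eval {ζ : B} {r : ℕ} (hz : IsPrimitiveRoot ζ r) (hr : 0 < r) :
    (ζ - 1) ∣ eval 1 (cyclotomic r B) := by
  have h1 : (ζ - 1) ∣ eval ζ (cyclotomic r B) - eval 1 (cyclotomic r B) := sub_dvd_eval_sub _ _ _
  have h2 : eval ζ (cyclotomic r B) = 0 := hz.isRoot_cyclotomic hr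
  rw [h2, zero_sub, dvd_neg] at h1
  exact h1

lemma isUnit_of_not_prime_pow {ζ : B} {r : ℕ} (hz : IsPrimitiveRoot ζ r) (hr : 0 < r)
    (h : ∀ {p : ℕ}, p.Prime → ∀ k : ℕ, p ^ k ≠ r) : IsUnit (ζ - 1) := by
  have h1 := sub_one_dvd_eval hz hr
  rw [eval_one_cyclotomic_not_prime_pow h] at h1
  exact isUnit_of_dvd_one h1

/-- `(ζ - 1)^φ(ℓ^s)` divides `ℓ` for `ζ` of order `ℓ^s`. -/
lemma pow_totient_dvd {ζ : B} {l s : ℕ} (hl : l.Prime) (hs : 0 < s) (hz : IsPrimitiveRoot ζ (l ^ s)) :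
    (ζ - 1) ^ (l ^ s).totient ∣ (l : B) := by
  haveI : Fact l.Prime := ⟨hl⟩
  obtain ⟨k, rfl⟩ : ∃ k, s = k + 1 := ⟨s - 1, by omega⟩
  have h1 : eval 1 (cyclotomic (l ^ (k + 1)) B) = (l : B) := eval_one_cyclotomic_prime_pow k
  rw [cyclotomic_eq_prod_X_sub_primitiveRoots hz, eval_prod] at h1
  rw [← h1, ← hz.card_primitiveRoots, ← Finset.prod_const]
  refine Finset.prod_dvd_prod_of_dvd _ _ fun μ hμ => ?_
  have hμ' : IsPrimitiveRoot μ (l ^ (k + 1)) := isPrimitiveRoot_of_mem_primitiveRoots hμ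
  obtain ⟨i, -, rfl⟩ := hz.eq_pow_of_pow_eq_one hμ'.pow_eq_one
  rw [eval_sub, eval_X, eval_C]
  have h2 : (ζ - 1) ∣ ζ ^ i - 1 ^ i := sub_dvd_pow_sub_pow ζ 1 i
  rw [one_pow] at h2
  rw [← neg_sub (ζ ^ i) 1]
  exact (dvd_neg.2 h2)

/-- two coprime naturals with a common divisor: it is a unit -/
lemma isUnit_of_dvd_of_coprime {a b : ℕ} (hab : Nat.Coprime a b) {x : B} (ha : x ∣ (a : B))
    (hb : x ∣ (b : B)) : IsUnit x := by
  have h1 : IsCoprime (a : ℤ) (b : ℤ) := Nat.isCoprime_iff_coprime.2 hab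
  obtain ⟨c, d, hcd⟩ := h1
  have h2 : ((c : B) * a + (d : B) * b) = 1 := by exact_mod_cast congrArg (Int.cast : ℤ → B) hcd
  refine isUnit_of_dvd_one ?_
  rw [← h2]
  exact dvd_add (ha.mul_left _) (hb.mul_left _)

/-- The order of a root of unity `ζ` with `n ∣ (ζ - 1)²`. -/
theorem order_of_dvd_sq {l n : ℕ} (hl : l.Prime) (hln : l ∣ n) (hu : ¬ IsUnit (l : B))
    {ζ : B} {N : ℕ} (hN : 0 < N) (hζ : ζ ^ N = 1) (hd : (n : B) ∣ (ζ - 1) ^ 2) :
    ζ = 1 ∨ ∃ s, 0 < s ∧ IsPrimitiveRoot ζ (l ^ s) ∧ ∀ m, l ^ m ∣ n → m * (l ^ s).totient ≤ 2 := by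
  by_cases hz1 : ζ = 1
  · exact Or.inl hz1
  refine Or.inr ?_
  have hfin : IsOfFinOrder ζ := isOfFinOrder_iff_pow_eq_one.mpr ⟨N, hN, hζ⟩
  have hz : IsPrimitiveRoot ζ (orderOf ζ) := IsPrimitiveRoot.orderOf ζ
  have hr : 0 < orderOf ζ := hfin.orderOf_pos
  have hr1 : orderOf ζ ≠ 1 := fun h => hz1 (orderOf_eq_one_iff.mp h)
  have hldvd : (l : B) ∣ (ζ - 1) ^ 2 := by
    obtain ⟨c, rfl⟩ := hln
    exact dvd_trans ⟨(c : B), by push_cast; ring⟩ hd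
  have hnu : ¬ IsUnit (ζ - 1) := fun h => hu (isUnit_of_dvd_unit hldvd (h.pow 2))
  -- the order is a prime power
  by_cases hpp : ∃ (p : ℕ) (k : ℕ), p.Prime ∧ p ^ k = orderOf ζ
  swap
  · push Not at hpp
    exact absurd (isUnit_of_not_prime_pow hz hr fun {p} hp k => hpp p k hp) hnu
  obtain ⟨p, k, hp, hk⟩ := hpp
  have hk0 : 0 < k := by
    rcases Nat.eq_zero_or_pos k with rfl | h
    · rw [pow_zero] at hk; exact absurd hk.symm hr1
    · exact h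
  rw [← hk] at hz
  have hpl : p = l := by
    by_contra hne
    haveI : Fact p.Prime := ⟨hp⟩
    obtain ⟨k', rfl⟩ : ∃ k', k = k' + 1 := ⟨k - 1, by omega⟩
    have h1 := sub_one_dvd_eval hz (pow_pos hp.pos _)
    rw [eval_one_cyclotomic_prime_pow] at h1
    have h2 : (l : B) ∣ ((p ^ 2 : ℕ) : B) := by
      rw [Nat.cast_pow]
      exact dvd_trans hldvd (pow_dvd_pow_of_dvd h1 2)
    refine hu (isUnit_of_dvd_of_coprime (a := l) (b := p ^ 2) ?_ dvd_rfl h2)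
    exact Nat.Coprime.pow_right 2 ((Nat.coprime_primes hl hp).2 (Ne.symm hne))
  subst hpl
  refine ⟨k, hk0, hz, fun m hm => ?_⟩
  by_contra hlt
  push Not at hlt
  have h1 := pow_totient_dvd hp hk0 hz
  have h2 : (ζ - 1) ^ ((p ^ k).totient * m) ∣ (ζ - 1) ^ 2 := by
    rw [pow_mul]
    refine dvd_trans (pow_dvd_pow_of_dvd h1 m) (dvd_trans ?_ hd)
    rw [← Nat.cast_pow]
    exact Nat.cast_dvd_cast hm
  have h3 : (ζ - 1) ^ 3 ∣ (ζ - 1) ^ 2 :=
    dvd_trans (pow_dvd_pow _ (by rw [mul_comm]; exact hlt)) h2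
  have h0 : ζ - 1 ≠ 0 := sub_ne_zero.2 hz1
  have h4 : (ζ - 1) ^ 2 * (ζ - 1) ∣ (ζ - 1) ^ 2 * 1 := by
    rw [mul_one, ← pow_succ]; exact h3
  rw [mul_dvd_mul_iff_left (pow_ne_zero 2 h0)] at h4
  exact hnu (isUnit_of_dvd_one h4)

lemma totient_ge {l s : ℕ} (hl : l.Prime) (hs : 0 < s) : (l ^ s).totient = l ^ (s - 1) * (l - 1) :=
  Nat.totient_prime_pow hl hs

/-- `n = 2`: the order divides `4`. -/
theorem pow_four_of_two (hu : ¬ IsUnit ((2 : ℕ) : B))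
    {ζ : B} {N : ℕ} (hN : 0 < N) (hζ : ζ ^ N = 1) (hd : ((2 : ℕ) : B) ∣ (ζ - 1) ^ 2) : ζ ^ 4 = 1 := by
  rcases order_of_dvd_sq Nat.prime_two dvd_rfl hu hN hζ hd with h | ⟨s, hs, hz, hm⟩
  · rw [h, one_pow]
  · have h1 := hm 1 (by norm_num)
    rw [totient_ge Nat.prime_two hs] at h1
    have h2 : s ≤ 2 := by
      by_contra hlt
      have h3 : 2 ^ 2 ≤ 2 ^ (s - 1) := Nat.pow_le_pow_right (by norm_num) (by omega)
      omega
    have h4 : (2 ^ s) ∣ 4 := by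
      have : (4 : ℕ) = 2 ^ 2 := by norm_num
      rw [this]
      exact pow_dvd_pow 2 h2
    obtain ⟨c, hc⟩ := h4
    rw [hc, pow_mul, hz.pow_eq_one, one_pow]

/-- `n = 3`: the order divides `3`. -/
theorem pow_three_of_three (hu : ¬ IsUnit ((3 : ℕ) : B))
    {ζ : B} {N : ℕ} (hN : 0 < N) (hζ : ζ ^ N = 1) (hd : ((3 : ℕ) : B) ∣ (ζ - 1) ^ 2) : ζ ^ 3 = 1 := by
  rcases order_of_dvd_sq Nat.prime_three dvd_rfl hu hN hζ hd with h | ⟨s, hs, hz, hm⟩
  · rw [h, one_pow]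
  · have h1 := hm 1 (by norm_num)
    rw [totient_ge Nat.prime_three hs] at h1
    have h2 : s ≤ 1 := by
      by_contra hlt
      have h3 : 3 ^ 1 ≤ 3 ^ (s - 1) := Nat.pow_le_pow_right (by norm_num) (by omega)
      omega
    have h4 : s = 1 := by omega
    subst h4
    rw [pow_one] at hz
    exact hz.pow_eq_one

/-- `n = 4`: the order divides `2`. -/
theorem pow_two_of_four (hu : ¬ IsUnit ((2 : ℕ) : B))
    {ζ : B} {N : ℕ} (hN : 0 < N) (hζ : ζ ^ N = 1) (hd : ((4 : ℕ) : B) ∣ (ζ - 1) ^ 2) : ζ ^ 2 = 1 := by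
  rcases order_of_dvd_sq Nat.prime_two (by norm_num) hu hN hζ hd with h | ⟨s, hs, hz, hm⟩
  · rw [h, one_pow]
  · have h1 := hm 2 (by norm_num)
    rw [totient_ge Nat.prime_two hs] at h1
    have h2 : s ≤ 1 := by
      by_contra hlt
      have h3 : 2 ^ 1 ≤ 2 ^ (s - 1) := Nat.pow_le_pow_right (by norm_num) (by omega)
      omega
    have h4 : s = 1 := by omega
    subst h4
    rw [pow_one] at hz
    exact hz.pow_eq_one

/-- `ℓ^m ≥ 5`: `ζ = 1`. -/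
theorem eq_one_of_prime_pow {l m : ℕ} (hl : l.Prime) (h5 : 5 ≤ l ^ m) (hu : ¬ IsUnit (l : B))
    {ζ : B} {N : ℕ} (hN : 0 < N) (hζ : ζ ^ N = 1) (hd : ((l ^ m : ℕ) : B) ∣ (ζ - 1) ^ 2) : ζ = 1 := by
  have hm0 : 0 < m := by
    rcases Nat.eq_zero_or_pos m with rfl | h
    · norm_num at h5
    · exact h
  rcases order_of_dvd_sq hl (dvd_pow_self l hm0.ne') hu hN hζ hd with h | ⟨s, hs, hz, hm⟩
  · exact h
  · exfalso
    have h1 := hm m dvd_rfl
    rw [totient_ge hl hs] at h1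
    have hl2 := hl.two_le
    have h3 : 1 ≤ l ^ (s - 1) := Nat.one_le_pow _ _ (by omega)
    have h4 : l - 1 ≤ l ^ (s - 1) * (l - 1) := Nat.le_mul_of_pos_left _ h3
    have h6 : m * (l - 1) ≤ 2 := le_trans (Nat.mul_le_mul_left m h4) h1
    rcases Nat.lt_or_ge l 3 with h7 | h7
    · have : l = 2 := by omega
      subst this
      have h8 : m ≤ 2 := by omega
      have h9 : 2 ^ m ≤ 2 ^ 2 := Nat.pow_le_pow_right (by norm_num) h8
      omega
    · have h10 : m * 2 ≤ m * (l - 1) := Nat.mul_le_mul_left m (by omega)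
      have h11 : m = 1 := by omega
      subst h11
      rw [pow_one] at h5
      omega

end K566.DomRoot
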