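import Groth.Agent.Etcore.SmoothRed
import Mathlib.RingTheory.TensorProduct.Quotient
import Mathlib.RingTheory.DiscreteValuationRing.Basic
import Mathlib.RingTheory.Nakayama
import Mathlib.AlgebraicGeometry.Group.Abelian

/-!
Two morphisms from a smooth scheme over a discrete valuation ring to a separated scheme which agree
on a set of sections whose special points are dense in the special fibre agree in a neighbourhood of
the special fibre.
-/

set_option autoImplicit false
universe u
open CategoryTheory CategoryTheory.Limits AlgebraicGeometry Opposite IsLocalRing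

namespace Groth.Agent.SGA7.K566.FlatDense

/-- Lifting through an immersion. -/
theorem exists_lift_of_range {X Y T : Scheme.{u}} (f : X ⟶ Y) [IsImmersion f] [IsReduced T] (g : T ⟶ Y)
    (h : Set.range g ⊆ Set.range f) : ∃ l : T ⟶ X, l ≫ f = g := by
  have h1 : Surjective (pullback.snd f g) := by
    refine ⟨fun t => ?_⟩
    obtain ⟨x, hx⟩ := h ⟨t, rfl⟩
    obtain ⟨z, -, hz⟩ := Scheme.Pullback.exists_preimage_pullback (f := f) (g := g) x t hx
    exact ⟨z, hz⟩
  have h2 : IsClosedImmersion (pullback.snd f g) := by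
    refine IsClosedImmersion.of_isPreimmersion _ ?_
    rw [h1.surj.range_eq]
    exact isClosed_univ
  have h3 : IsIso (pullback.snd f g) := isIso_of_isClosedImmersion_of_surjective _
  refine ⟨inv (pullback.snd f g) ≫ pullback.fst f g, ?_⟩
  rw [Category.assoc, pullback.condition, IsIso.inv_hom_id_assoc]

section alg

variable (R A : Type u) [CommRing R] [IsDomain R] [IsDiscreteValuationRing R] [CommRing A] [Algebra R A]
  [Algebra.Smooth R A]

theorem isReduced_quot : _root_.IsReduced (A ⧸ (maximalIdeal R).map (algebraMap R A)) := by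
  have h1 : Algebra.Smooth (R ⧸ maximalIdeal R) (TensorProduct R (R ⧸ maximalIdeal R) A) := inferInstance
  let : Field (R ⧸ maximalIdeal R) := Ideal.Quotient.field _
  have h2 : _root_.IsReduced (TensorProduct R (R ⧸ maximalIdeal R) A) :=
    CalgB.SmoothReduced.isReduced_of_smooth (R ⧸ maximalIdeal R) _
  exact isReduced_of_injective (Algebra.TensorProduct.quotIdealMapEquivQuotTensor A (maximalIdeal R)).toRingHom
    (Algebra.TensorProduct.quotIdealMapEquivQuotTensor A (maximalIdeal R)).injective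

variable {R A}

theorem mem_map_of_forall {t : A} (ht : ∀ p : Ideal A, p.IsPrime → (maximalIdeal R).map (algebraMap R A) ≤ p → t ∈ p) :
    t ∈ (maximalIdeal R).map (algebraMap R A) := by
  have h1 := isReduced_quot R A
  rw [← Ideal.Quotient.eq_zero_iff_mem]
  apply h1.eq_zero
  rw [nilpotent_iff_mem_prime]
  intro q hq
  have h2 : (q.comap (Ideal.Quotient.mk ((maximalIdeal R).map (algebraMap R A)))).IsPrime := inferInstance
  refine ht _ h2 ?_
  intro a ha
  rw [Ideal.mem_comap, Ideal.Quotient.eq_zero_iff_mem.2 ha]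
  exact q.zero_mem

theorem exists_mul_eq_zero (I : Ideal A) (ϖ : R) (hϖ : Irreducible ϖ)
    (hI : ∀ t : A, (∃ m : ℕ, algebraMap R A ϖ ^ m * t ∈ I) →
      ∀ p : Ideal A, p.IsPrime → (maximalIdeal R).map (algebraMap R A) ≤ p → t ∈ p) :
    ∃ r : A, r - 1 ∈ (maximalIdeal R).map (algebraMap R A) ∧ ∀ t ∈ I, r * t = 0 := by
  have hmap : (maximalIdeal R).map (algebraMap R A) = Ideal.span {algebraMap R A ϖ} := by
    rw [hϖ.maximalIdeal_eq, Ideal.map_span, Set.image_singleton]
  have hft : Algebra.FiniteType R A := inferInstance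
  have hnoeth : IsNoetherianRing A := Algebra.FiniteType.isNoetherianRing R A
  let J : Ideal A :=
    { carrier := {t | ∃ m : ℕ, algebraMap R A ϖ ^ m * t ∈ I}
      add_mem' := by
        rintro a b ⟨m, hm⟩ ⟨n, hn⟩
        refine ⟨m + n, ?_⟩
        have e : algebraMap R A ϖ ^ (m + n) * (a + b) = algebraMap R A ϖ ^ n * (algebraMap R A ϖ ^ m * a) +
            algebraMap R A ϖ ^ m * (algebraMap R A ϖ ^ n * b) := by ring
        rw [e]
        exact I.add_mem (I.mul_mem_left _ hm) (I.mul_mem_left _ hn)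
      zero_mem' := ⟨0, by simp⟩
      smul_mem' := by
        rintro c a ⟨m, hm⟩
        refine ⟨m, ?_⟩
        have e : algebraMap R A ϖ ^ m * (c • a) = c * (algebraMap R A ϖ ^ m * a) := by
          rw [smul_eq_mul]; ring
        rw [e]
        exact I.mul_mem_left _ hm }
  have hIJ : I ≤ J := fun t ht => ⟨0, by simpa using ht⟩
  have hJ : J ≤ Ideal.span {algebraMap R A ϖ} • J := by
    intro t ht
    have h1 : t ∈ (maximalIdeal R).map (algebraMap R A) := mem_map_of_forall (hI t ht)
    rw [hmap, Ideal.mem_span_singleton] at h1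
    obtain ⟨t', rfl⟩ := h1
    obtain ⟨m, hm⟩ := ht
    have h2 : t' ∈ J := by
      refine ⟨m + 1, ?_⟩
      rwa [pow_succ, mul_assoc]
    exact Submodule.smul_mem_smul (Ideal.mem_span_singleton_self _) h2
  obtain ⟨r, hr1, hr⟩ := Submodule.exists_sub_one_mem_and_smul_eq_zero_of_fg_of_le_smul
    (Ideal.span {algebraMap R A ϖ}) J (IsNoetherian.noetherian J) hJ
  exact ⟨r, hmap ▸ hr1, fun t ht => hr t (hIJ ht)⟩

end alg


section geom

variable {R : Type u} [CommRing R] [IsDomain R] [IsDiscreteValuationRing R]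

/-- the main density lemma. -/
theorem exists_open_eq {X Y : Scheme.{u}} (p : X ⟶ Spec (CommRingCat.of R)) (q : Y ⟶ Spec (CommRingCat.of R))
    [Smooth p] [IsSeparated q] (f g : X ⟶ Y) (hf : f ≫ q = p) (hg : g ≫ q = p)
    (D : Set X) (hD : ∀ x ∈ D, ∃ a : Spec (CommRingCat.of R) ⟶ X, a ≫ p = 𝟙 _ ∧ a (closedPoint R) = x ∧ a ≫ f = a ≫ g)
    (hcl : ∀ x : X, p x = closedPoint R → x ∈ closure D) (x₀ : X) (hx₀ : p x₀ = closedPoint R) :
    ∃ U : X.Opens, x₀ ∈ U ∧ U.ι ≫ f = U.ι ≫ g := by
  have hred : IsReduced X := Etcore.SmoothRed.isReduced_of_smooth p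
  have hsep : IsSeparated (Over.mk q).hom := ‹IsSeparated q›
  let ι := equalizer.ι (Over.homMk f hf : Over.mk p ⟶ Over.mk q) (Over.homMk g hg)
  have hι : IsClosedImmersion ι.left := isClosedImmersion_equalizer_ι_left
    (X := Over.mk p) (Y := Over.mk q) (Over.homMk f hf) (Over.homMk g hg)
  have hιe : ι.left ≫ f = ι.left ≫ g :=
    congrArg (fun φ => φ.left) (equalizer.condition (Over.homMk f hf : Over.mk p ⟶ Over.mk q) (Over.homMk g hg))
  obtain ⟨U, hU, hxU, -⟩ := exists_isAffineOpen_mem_and_subset (x := x₀) (U := ⊤) trivial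
  obtain ⟨φ, hφ⟩ : ∃ φ : CommRingCat.of R ⟶ Γ(X, U), Spec.map φ = hU.fromSpec ≫ p :=
    ⟨Spec.preimage _, Spec.map_preimage _⟩
  have hφs : φ.hom.Smooth := by
    have h1 : Smooth (Spec.map φ) := by
      rw [hφ]; infer_instance
    exact (HasRingHomProperty.Spec_iff (P := @Smooth)).1 h1
  let alg : Algebra R Γ(X, U) := φ.hom.toAlgebra
  have hsm : Algebra.Smooth R Γ(X, U) := hφs
  obtain ⟨ϖ, hϖ⟩ := IsDiscreteValuationRing.exists_irreducible R
  have hpt : ∀ P : Spec Γ(X, U), p (hU.fromSpec P) = closedPoint R ↔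
      (maximalIdeal R).map (algebraMap R Γ(X, U)) ≤ P.asIdeal := by
    intro P
    have h1 : p (hU.fromSpec P) = Spec.map φ P := by
      rw [hφ, Scheme.Hom.comp_apply]
    rw [h1, Ideal.map_le_iff_le_comap]
    constructor
    · intro h
      have h2 := congrArg PrimeSpectrum.asIdeal h
      exact h2.ge
    · intro h
      apply PrimeSpectrum.ext
      exact ((IsLocalRing.maximalIdeal.isMaximal R).eq_of_le (Spec.map φ P).isPrime.ne_top h).symm
  have key : ∀ t : Γ(X, U), (∃ m : ℕ, algebraMap R Γ(X, U) ϖ ^ m * t ∈ RingHom.ker (ι.left.app U).hom) →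
      ∀ x : X, p x = closedPoint R → x ∉ X.basicOpen t := by
    rintro t ⟨m, hm⟩ x hx hxt
    obtain ⟨y, hyt, hyD⟩ := mem_closure_iff.1 (hcl x hx) _ (X.basicOpen t).2 hxt
    obtain ⟨a, ha, hay, hafg⟩ := hD y hyD
    have hyU : y ∈ U := X.basicOpen_le t hyt
    have hrange : Set.range a ⊆ Set.range hU.fromSpec := by
      rw [hU.range_fromSpec]
      rintro _ ⟨z, rfl⟩
      have h1 : a z ⤳ a (closedPoint R) := (IsLocalRing.specializes_closedPoint z).map a.continuous
      refine h1.mem_open U.2 ?_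
      change a (closedPoint R) ∈ U
      rw [hay]; exact hyU
    let ψ' : Spec (CommRingCat.of R) ⟶ Spec Γ(X, U) := IsOpenImmersion.lift hU.fromSpec a hrange
    have hψ' : ψ' ≫ hU.fromSpec = a := IsOpenImmersion.lift_fac _ _ _
    obtain ⟨ψ, hψ⟩ : ∃ ψ : Γ(X, U) ⟶ CommRingCat.of R, Spec.map ψ = ψ' :=
      ⟨Spec.preimage _, Spec.map_preimage _⟩
    have hφψ : φ ≫ ψ = 𝟙 _ := by
      apply Spec.map_injective
      rw [Spec.map_comp, hψ, hφ, ← Category.assoc, hψ', ha, Spec.map_id]
    let b₀ : Over.mk (𝟙 (Spec (CommRingCat.of R))) ⟶ Over.mk p := Over.homMk a ha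
    let b := equalizer.lift (f := (Over.homMk f hf : Over.mk p ⟶ Over.mk q)) (g := Over.homMk g hg) b₀ (by
      ext1; exact hafg)
    have hb : b.left ≫ ι.left = a :=
      congrArg (fun φ => φ.left) (equalizer.lift_ι b₀ _)
    have hkill : ∀ s : Γ(X, U), s ∈ RingHom.ker (ι.left.app U).hom → ψ.hom s = 0 := by
      intro s hs
      have h1 : a ⁻¹ᵁ X.basicOpen s = ⊥ := by
        rw [← hb, Scheme.Hom.comp_preimage, Scheme.preimage_basicOpen]
        have : (ι.left.app U) s = 0 := hs
        rw [this, Scheme.basicOpen_zero]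
        rfl
      have h2 : PrimeSpectrum.basicOpen (ψ.hom s) = ⊥ := by
        rw [← hψ', Scheme.Hom.comp_preimage, hU.fromSpec_preimage_basicOpen, ← hψ] at h1
        exact h1
      rw [PrimeSpectrum.basicOpen_eq_bot_iff] at h2
      exact h2.eq_zero
    have h3 : ψ.hom t = 0 := by
      have h4 := hkill _ hm
      rw [map_mul, map_pow] at h4
      have h5 : ψ.hom (algebraMap R Γ(X, U) ϖ) = ϖ :=
        congrArg (fun e : CommRingCat.of R ⟶ CommRingCat.of R => e.hom ϖ) hφψ
      rw [h5] at h4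
      exact (mul_eq_zero.1 h4).resolve_left (pow_ne_zero _ hϖ.ne_zero)
    have h4 : a ⁻¹ᵁ X.basicOpen t = ⊥ := by
      rw [← hψ', Scheme.Hom.comp_preimage, hU.fromSpec_preimage_basicOpen, ← hψ]
      have : PrimeSpectrum.basicOpen (ψ.hom t) = ⊥ := by rw [h3]; exact PrimeSpectrum.basicOpen_zero
      exact this
    have h5 : closedPoint R ∈ a ⁻¹ᵁ X.basicOpen t := by
      change a (closedPoint R) ∈ X.basicOpen t
      rw [hay]; exact hyt
    rw [h4] at h5
    exact h5
  obtain ⟨r, hr1, hr⟩ := exists_mul_eq_zero (R := R) (A := Γ(X, U)) (RingHom.ker (ι.left.app U).hom) ϖ hϖ (by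
    intro t ht P hP hPle
    by_contra htP
    let P' : Spec Γ(X, U) := ⟨P, hP⟩
    refine key t ht (hU.fromSpec P') ((hpt P').2 hPle) ?_
    have : P' ∈ hU.fromSpec ⁻¹ᵁ X.basicOpen t := by
      rw [hU.fromSpec_preimage_basicOpen]; exact htP
    exact this)
  refine ⟨X.basicOpen r, ?_, ?_⟩
  · let P := hU.primeIdealOf ⟨x₀, hxU⟩
    have hP : hU.fromSpec P = x₀ := hU.fromSpec_primeIdealOf _
    have h1 : (maximalIdeal R).map (algebraMap R Γ(X, U)) ≤ P.asIdeal := (hpt P).1 (by rw [hP]; exact hx₀)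
    have h2 : r ∉ P.asIdeal := by
      intro h
      apply P.isPrime.ne_top
      rw [Ideal.eq_top_iff_one]
      have := P.asIdeal.sub_mem h (h1 hr1)
      simpa using this
    have h3 : P ∈ hU.fromSpec ⁻¹ᵁ X.basicOpen r := by
      rw [hU.fromSpec_preimage_basicOpen]; exact h2
    change hU.fromSpec P ∈ X.basicOpen r at h3
    rw [hP] at h3
    exact h3
  · have hsub : Set.range (X.basicOpen r).ι ⊆ Set.range ι.left := by
      rw [Scheme.Opens.range_ι]
      intro x hx
      have hxU' : x ∈ U := X.basicOpen_le r hx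
      have h1 : x ∈ ι.left.ker.support := by
        rw [Scheme.IdealSheafData.mem_support_iff_of_mem (U := ⟨U, hU⟩) hxU', Scheme.mem_zeroLocus_iff]
        intro t ht hxt
        rw [Scheme.Hom.ker_apply] at ht
        have h2 : x ∈ X.basicOpen (r * t) := by
          rw [Scheme.basicOpen_mul]; exact ⟨hx, hxt⟩
        rw [hr t ht, Scheme.basicOpen_zero] at h2
        exact h2
      have h2 : x ∈ (ι.left.ker.support : Set (Over.mk p).left) := h1
      rw [Scheme.Hom.support_ker, (ι.left.isClosedEmbedding.isClosed_range).closure_eq] at h2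
      exact h2
    obtain ⟨l, hl⟩ := exists_lift_of_range ι.left (X.basicOpen r).ι hsub
    rw [← hl, Category.assoc, Category.assoc, hιe]

end geom

end Groth.Agent.SGA7.K566.FlatDense
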