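import Groth.Agent.SGA7.K566.UnipDef
import Groth.Agent.Sga7.H733.LevelTwoGrp

/-!
# The Galois action on the `ℓ`-power torsion points as a homomorphism to the endomorphism ring
-/

set_option autoImplicit false
universe u
open CategoryTheory MonObj GrpObj AlgebraicGeometry Limits

namespace K566.GalRep

open SGA7 K566.UnipDef Groth.Agent.Sga7.H733.LevelTwoGrp Groth.Agent.Sga7.H733.LevelTwoAlg

variable {K Ω : Type u} [Field K] [Field Ω] [Algebra K Ω]

lemma specAut_mul (σ τ : Ω ≃ₐ[K] Ω) : specAut (σ * τ) = specAut σ ≫ specAut τ := by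
  apply Over.OverMorphism.ext
  change Spec.map _ = Spec.map _ ≫ Spec.map _
  rw [← Spec.map_comp, ← CommRingCat.ofHom_comp]
  rfl

lemma specAut_one : specAut (1 : Ω ≃ₐ[K] Ω) = 𝟙 _ := by
  apply Over.OverMorphism.ext
  change Spec.map (CommRingCat.ofHom (RingHom.id Ω)) = 𝟙 _
  rw [CommRingCat.ofHom_id, Spec.map_id]

variable {A : Over (Spec (CommRingCat.of K))}

lemma galAct_comp_gal (σ τ : Ω ≃ₐ[K] Ω) (x : Pts Ω A) : galAct (σ * τ) x = galAct σ (galAct τ x) := by
  simp only [galAct, specAut_mul, Category.assoc]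

lemma galAct_id (x : Pts Ω A) : galAct (1 : Ω ≃ₐ[K] Ω) x = x := by
  simp only [galAct, specAut_one, Category.id_comp]

variable (A) [GrpObj A]

/-- the Galois action as a group endomorphism. -/
noncomputable def gh (σ : Ω ≃ₐ[K] Ω) : Pts Ω A →* Pts Ω A where
  toFun := galAct σ
  map_one' := MonObj.comp_one _
  map_mul' _ _ := MonObj.comp_mul _ _ _

variable [IsCommMonObj A]

attribute [local instance] Hom.commGroup

/-- The representation on the `ℓ`-power torsion. -/
noncomputable def rep (l : ℕ) : (Ω ≃ₐ[K] Ω) →* AddMonoid.End (Additive (tp (Pts Ω A) l)) where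
  toFun σ := res l (gh A σ)
  map_one' := by
    refine AddMonoidHom.ext fun x => Additive.toMul.injective (Subtype.ext ?_)
    exact galAct_id (K := K) (Ω := Ω) (A := A) _
  map_mul' σ τ := by
    refine AddMonoidHom.ext fun x => Additive.toMul.injective (Subtype.ext ?_)
    exact galAct_comp_gal σ τ _

variable {A}

lemma rep_apply (l : ℕ) (σ : Ω ≃ₐ[K] Ω) (x : Additive (tp (Pts Ω A) l)) :
    ((Additive.toMul (rep A l σ x) : tp (Pts Ω A) l) : Pts Ω A) =
      galAct σ ((Additive.toMul x : tp (Pts Ω A) l) : Pts Ω A) := rfl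

lemma rep_sub_apply (l : ℕ) (σ : Ω ≃ₐ[K] Ω) (x : Additive (tp (Pts Ω A) l)) :
    ((Additive.toMul (rep A l σ x - x) : tp (Pts Ω A) l) : Pts Ω A) =
      dev σ ((Additive.toMul x : tp (Pts Ω A) l) : Pts Ω A) := by
  rw [toMul_sub, dev, div_eq_mul_inv]
  rfl

/-- `(σ - 1)(τ - 1) = 0` in terms of points -/
lemma levelTwo_iff (l : ℕ) (σ τ : Ω ≃ₐ[K] Ω) :
    (∀ x, rep A l σ (rep A l τ x - x) = rep A l τ x - x) ↔
      ∀ (ν : ℕ) (x : Pts Ω A), x ^ (l ^ ν) = 1 → dev σ (dev τ x) = 1 := by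
  constructor
  · intro h ν x hx
    have h1 := h (Additive.ofMul ⟨x, ν, hx⟩)
    rw [← sub_eq_zero] at h1
    have h2 := congrArg (fun y : Additive (tp (Pts Ω A) l) =>
      ((Additive.toMul y : tp (Pts Ω A) l) : Pts Ω A)) h1
    rw [rep_sub_apply, rep_sub_apply] at h2
    exact h2
  · intro h x
    obtain ⟨ν, hν⟩ := (Additive.toMul x : tp (Pts Ω A) l).2
    rw [← sub_eq_zero]
    apply Additive.toMul.injective
    apply Subtype.ext
    rw [rep_sub_apply, rep_sub_apply]
    exact h ν _ hν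

end K566.GalRep
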