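import Groth.Agent.SGA7.K566.GoodTw

/-!
# Potentially good reduction and group schemes over the base

`geo`: if the Néron model `N` over `R` of `A_K` is proper with integral special fibre in characteristic `p`, and for every
`m` the points of `N` killed by `p^m` factor through group schemes coming from the ground ring, then the
inertia elements fix all torsion points of order prime to `p`.
-/

set_option autoImplicit false
set_option linter.unusedSectionVars false
set_option linter.style.haveILetI false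

universe u

open CategoryTheory CategoryTheory.Limits MonoidalCategory CartesianMonoidalCategory AlgebraicGeometry MonObj

namespace Groth.Agent.SGA7.K566.GoodFix

open Groth.Agent.Sga7.H753.NerTwist Groth.Agent.Sga7.H753.BaseExt Groth.Agent.Sga3B.BcPts
open Groth.Agent.Sga7.H753.NerHom Groth.Agent.Sga7.H753.NerPsi Groth.Agent.Sga7.H753.NerPts
open Groth.Agent.Sga7.H753.NerDict Groth.Agent.Sga7.H753.NerFix
open Groth.Agent.Sga67 Groth.Agent.Sga7.H755
open Groth.Agent.Sga7.H753.NerGeo Groth.Agent.SGA7.K566.GoodTw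

section psi

variable {k K R R₀ : Type u} [Field k] [Field K] [Algebra k K] [CommRing R] [Algebra R K] [CommRing R₀]
  [Algebra R₀ k] [Algebra R₀ R]
  {N : Over (Spec (CommRingCat.of R))} {A : Over (Spec (CommRingCat.of k))}
  (e : (SGA7.genFib R K).obj N ≅ Red.bc (fKL k K) A)
  (hR : ∀ r : R₀, algebraMap R K (algebraMap R₀ R r) = algebraMap k K (algebraMap R₀ k r))

/-- the induced automorphism of the special fibre is trivial. -/
theorem psi_eq_id (s : R ≃+* R) (t : K ≃ₐ[k] K) (hst : ∀ r, t (algebraMap R K r) = algebraMap R K (s r))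
    (hs : ∀ r : R₀, s (algebraMap R₀ R r) = algebraMap R₀ R r)
    {F : N.left ⟶ N.left} (hF : IsTw e s t F) [IsSeparated N.hom] [IsDomain R] [IsFractionRing R K]
    [GrpObj N] (p : ℕ) (κ : Type u) [Field κ] [Algebra R κ] (hp : (p : κ) = 0)
    (hq : qm R κ ≫ Sga7.H753.NerTwist.sp s = qm R κ)
    [LocallyOfFiniteType N.hom] [IsIntegral (Red.bc (qm R κ) N).left]
    (H₀ : ℕ → Over (Spec (CommRingCat.of R₀))) (hfl : ∀ n, Flat (H₀ n).hom)
    (ε : ∀ n, Red.bc (fb R₀ k) (H₀ n) ⟶ A) (θ : ∀ n, Red.bc (fb R₀ R) (H₀ n) ⟶ N)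
    (hθ : ∀ n, ((SGA7.genFib R K).map (θ n)).left ≫ ρ e = qq hR (H₀ n) ≫ (ε n).left)
    (hfac : ∀ n (T : Over (Spec (CommRingCat.of κ))) (x : (Over.map (qm R κ)).obj T ⟶ N), x ^ (p ^ n) = 1 →
      ∃ y, y ≫ θ n = x) :
    psi hF.hom (qm R κ) hq = 𝟙 _ := by
  have i1 : LocallyOfFiniteType (Red.bc (qm R κ) N).hom :=
    inferInstanceAs (LocallyOfFiniteType (pullback.snd N.hom (qm R κ)))
  have i2 : IsSeparated (Red.bc (qm R κ) N).hom :=
    inferInstanceAs (IsSeparated (pullback.snd N.hom (qm R κ)))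
  refine CharPId.eq_of_kills (Red.bc (qm R κ) N) (Red.bc (qm R κ) N) p hp _ _ (fun m T x hx => ?_)
  rw [Category.comp_id]
  apply (bcEquiv (qm R κ) T N).symm.injective
  rw [comp_psi]
  have h1 : ((bcEquiv (qm R κ) T N).symm x) ^ (p ^ m) = 1 := by
    have h2 := congrArg (bcMulEquiv (qm R κ) T N).symm hx
    rw [map_pow, map_one] at h2
    exact h2
  obtain ⟨y, hy⟩ := hfac m T _ h1
  ext1
  rw [tw'_left, ← hy, Over.comp_left, Category.assoc]
  have := hfl m
  have hc := GoodTw.comm (N := N) e hR s t hst hs hF (H₀ m) (ε m) (θ m) (hθ m)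
  have hy1 : y.left ≫ FH s hs (H₀ m) = y.left := by
    apply pullback.hom_ext
    · rw [Category.assoc, FH_fst]
    · have h3 : y.left ≫ pullback.snd (H₀ m).hom (fb R₀ R) = T.hom ≫ qm R κ := Over.w y
      have h4 : FH s hs (H₀ m) ≫ pullback.snd (H₀ m).hom (fb R₀ R) =
          pullback.snd (H₀ m).hom (fb R₀ R) ≫ Sga7.H753.NerTwist.sp s := FH_hom s hs (H₀ m)
      rw [Category.assoc, h4, ← Category.assoc, h3, Category.assoc, hq]
  rw [hc, ← Category.assoc, hy1]

end psi

section geo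

variable {k K R R₀ Ω : Type u} [Field k] [Field K] [Algebra k K] [CommRing R] [IsDomain R]
  [IsLocalRing R] [Algebra R K] [IsFractionRing R K] [CommRing R₀] [Algebra R₀ k] [Algebra R₀ R]
  [Field Ω] [Algebra k Ω] [Algebra K Ω] [IsScalarTower k K Ω] [Algebra R Ω] [IsScalarTower R K Ω]
  {W : ValuationSubring Ω} [Algebra R W] [IsScalarTower R W Ω]
  {N : Over (Spec (CommRingCat.of R))} {A : Over (Spec (CommRingCat.of k))}
  [GrpObj N] [GrpObj A] (e : (SGA7.genFib R K).obj N ≅ Red.bc (fKL k K) A) [IsMonHom e.hom]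
  (hR : ∀ r : R₀, algebraMap R K (algebraMap R₀ R r) = algebraMap k K (algebraMap R₀ k r))

include e hR

theorem geo [IsCommMonObj N] (hN : SGA7.IsNeron R K N) [IsProper N.hom]
    (σ : Ω ≃ₐ[k] Ω) (hσ : SGA7.IsInertia W σ) (s : R ≃+* R) (t : K ≃ₐ[k] K)
    (hst : ∀ r, t (algebraMap R K r) = algebraMap R K (s r))
    (hs : ∀ r : R₀, s (algebraMap R₀ R r) = algebraMap R₀ R r)
    (hσt : ∀ x : K, σ (algebraMap K Ω (t x)) = algebraMap K Ω x)
    (p : ℕ) (hp : (p : IsLocalRing.ResidueField W) = 0)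
    [IsIntegral (Red.bc (qm R (IsLocalRing.ResidueField W)) N).left]
    (H₀ : ℕ → Over (Spec (CommRingCat.of R₀))) (hfl : ∀ n, Flat (H₀ n).hom)
    (ε : ∀ n, Red.bc (fb R₀ k) (H₀ n) ⟶ A) (θ : ∀ n, Red.bc (fb R₀ R) (H₀ n) ⟶ N)
    (hθ : ∀ n, ((SGA7.genFib R K).map (θ n)).left ≫ ρ e = qq hR (H₀ n) ≫ (ε n).left)
    (hfac : ∀ n (T : Over (Spec (CommRingCat.of R))) (x : T ⟶ N), x ^ (p ^ n) = 1 → ∃ y, y ≫ θ n = x)
    (m : ℕ) (hm : IsUnit (m : R)) (x : SGA7.Pts (K := k) Ω A) (hx : x ^ m = 1) : SGA7.galAct σ x = x := by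
  obtain ⟨F, hF⟩ := exists_tw e hN s t hst
  -- `s` acts trivially on the residue field
  have hRW : ∀ r : R, ((algebraMap R W r : W) : Ω) = algebraMap K Ω (algebraMap R K r) := fun r => by
    rw [← IsScalarTower.algebraMap_apply R K Ω, IsScalarTower.algebraMap_apply R W Ω]
    rfl
  have hq : qm R (IsLocalRing.ResidueField W) ≫ Sga7.H753.NerTwist.sp s = qm R (IsLocalRing.ResidueField W) := by
    rw [Sga7.H753.NerTwist.sp, qm, ← Spec.map_comp, ← CommRingCat.ofHom_comp]
    congr 2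
    ext r
    show algebraMap R (IsLocalRing.ResidueField W) (s r) = algebraMap R (IsLocalRing.ResidueField W) r
    symm
    apply Ideal.Quotient.eq.2
    rw [ValuationSubring.valuation_lt_one_iff]
    have h1 := (hσ _ (algebraMap R W (s r)).2).2
    rw [hRW, ← hst, hσt, hst] at h1
    have h2 : ((algebraMap R W r - algebraMap R W (s r) : W) : Ω) =
        algebraMap K Ω (algebraMap R K r) - algebraMap K Ω (algebraMap R K (s r)) := by
      rw [← hRW, ← hRW]
      rfl
    rw [h2]
    exact h1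
  have hpsi := psi_eq_id e hR s t hst hs hF p (IsLocalRing.ResidueField W) hp hq H₀ hfl ε θ hθ
    (fun n T x hx => hfac n _ x hx)
  -- the lift of `x`
  obtain ⟨x0, rfl⟩ := (beta Ω e).surjective x
  have hval : ValuativeCriterion N.hom := by
    have h1 : IsProper N.hom := inferInstance
    rw [IsProper.eq_valuativeCriterion] at h1
    exact h1.1.1.1
  obtain ⟨w, hw⟩ : ∃ w : spo R W ⟶ N, res W w = x0 := by
    let S : ValuativeCommSq N.hom :=
      { R := W, K := Ω, i₁ := x0.left, i₂ := Spec.map (CommRingCat.ofHom (algebraMap R W))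
        commSq := ⟨by
          rw [Over.w x0]
          dsimp
          rw [← Spec.map_comp, ← CommRingCat.ofHom_comp, ← IsScalarTower.algebraMap_eq]⟩ }
    obtain ⟨⟨l⟩⟩ := (hval.existence S)
    refine ⟨Over.homMk l.l l.fac_right, ?_⟩
    ext1
    exact l.fac_left
  subst hw
  have hL : Lift W e (beta Ω e (res W w)) (red W w) := ⟨w, rfl, rfl⟩
  have hfix : (red W w).left = (red W w).left ≫ F := by
    have h1 := E_psi hF.hom hq ((E N).symm (red W w))
    rw [hpsi, Category.comp_id, MulEquiv.apply_symm_apply] at h1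
    exact h1
  have h2 := Lift.galAct hF hst σ hσt hσ (y' := red W w) hfix hL
  refine Lift.left_unique (m := m) hm ?_ hx h2 hL
  have h4 : (SGA7.galAct σ (beta Ω e (res W w))) ^ m = SGA7.galAct σ ((beta Ω e (res W w)) ^ m) :=
    (MonObj.comp_pow _ _ _).symm
  rw [h4, hx]
  exact MonObj.comp_one _

end geo

end Groth.Agent.SGA7.K566.GoodFix
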