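import Groth.Agent.SGA7.K566.GoodTheta

/-!
# The comparison of `G ×_{R₀} R` with the torsion of an abelian scheme over `R`

Under Tate's theorem (`TFq`) for the discrete valuation ring `R`: if the `p`-divisible group `G` over `R₀` has generic fibre
`A(p)` and `A_K` extends to the abelian scheme `B` over `R`, the layers of `G ×_{R₀} R` are the torsion layers of `B`.
-/

set_option autoImplicit false
set_option linter.unusedSectionVars false
set_option linter.style.haveILetI false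

universe u

open CategoryTheory CategoryTheory.Limits MonoidalCategory CartesianMonoidalCategory AlgebraicGeometry MonObj

namespace Groth.Agent.SGA7.K566.GoodTheta

open Groth.Agent.Sga7.H753.NerTwist Groth.Agent.Sga7.H753.BaseExt
open Groth.Agent.Sga7.H753.NerHom Groth.Agent.SGA7.K566.GoodTw
open Groth.Agent.Sga7.H760.KerBc Groth.Agent.Sga3B.Parab.GeomFib147 Groth.Agent.Sga3B

section layers

variable {R K : Type u} [CommRing R] [IsDomain R] [IsDiscreteValuationRing R] [Field K] [Algebra R K]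
  [IsFractionRing R K]

/-- The Barsotti–Tate group of an abelian scheme whose generic fibre has layers of the right order. -/
theorem exists_tors (B : Over (Spec (CommRingCat.of R))) [GrpObj B] [IsCommMonObj B] [IsProper B.hom] [Smooth B.hom]
    (hconn : ∀ (k' : Type u) [Field k'] (t : Spec (CommRingCat.of k') ⟶ Spec (CommRingCat.of R)),
      ConnectedSpace ↑(pullback B.hom t)) (p h : ℕ) (hp : p ≠ 0)
    (Q : ℕ → Over (Spec (CommRingCat.of K))) (hQ : ∀ ν, Mor2.IsFinLocFreeOfDeg (p ^ (ν * h)) (Q ν).hom)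
    (a : ∀ ν, Q ν ⟶ Red.bc (ιg R K) B)
    (ha : ∀ ν, AlgGrp.IsKernel (a ν) ((𝟙 (Red.bc (ιg R K) B)) ^ (p ^ ν))) :
    ∃ (H : BTGrp.ProBT p (Spec (CommRingCat.of R)) h) (j : ∀ ν, H.G ν ⟶ B),
      (∀ ν, BTGrp.IsTorsionLevel B p ν (H.G ν) (j ν)) ∧ (∀ ν, H.incl ν ≫ j (ν + 1) = j ν) ∧
      ∀ ν, H.proj ν ≫ j ν = (j (ν + 1)) ^ p := by
  obtain ⟨T, hTg, j, hj, hTdeg⟩ := AbLayers.exists_layers (K := K) B hconn p hp (fun ν => p ^ (ν * h)) (fun ν Q' q hq => by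
    obtain ⟨w, hw⟩ := exists_iso hq (ha ν)
    have h2 : IsIso w.hom.left := inferInstanceAs (IsIso ((Over.forget _).map w.hom))
    rw [← Over.w w.hom]
    exact Picfga.HilbPull.isFinLocFreeOfDeg_comp_iso (hQ ν))
  obtain ⟨incl, hincl⟩ := BTBase.exists_incl B p T j hj
  obtain ⟨proj, hproj⟩ := BTBase.exists_proj B p T j hj
  exact ⟨BTBase.torsBT B p h T j hj incl hincl proj hproj hTdeg, j, hj, hincl, hproj⟩

/-- Tate's theorem applied to a Barsotti–Tate group and the torsion layers of an abelian scheme. -/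
theorem exists_v' {p h : ℕ} [Fact p.Prime] (hTF : TFq (ιg R K) p h)
    (G : BTGrp.ProBT p (Spec (CommRingCat.of R)) h)
    (B : Over (Spec (CommRingCat.of R))) [GrpObj B] [IsCommMonObj B] [IsProper B.hom] [Smooth B.hom]
    (hconn : ∀ (k' : Type u) [Field k'] (t : Spec (CommRingCat.of k') ⟶ Spec (CommRingCat.of R)),
      ConnectedSpace ↑(pullback B.hom t))
    (a : ∀ ν, Red.bc (ιg R K) (G.G ν) ⟶ Red.bc (ιg R K) B) (ha_mon : ∀ ν, IsMonHom (a ν))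
    (ha_ker : ∀ ν, AlgGrp.IsKernel (a ν) ((𝟙 (Red.bc (ιg R K) B)) ^ (p ^ ν)))
    (ha_incl : ∀ ν, bcm (ιg R K) (G.incl ν) ≫ a (ν + 1) = a ν)
    (ha_proj : ∀ ν, bcm (ιg R K) (G.proj ν) ≫ a ν = (a (ν + 1)) ^ p) :
    ∃ θ : ∀ ν, G.G ν ⟶ B, (∀ ν, bcm (ιg R K) (θ ν) = a ν) ∧
      ∀ ν (Z : Over (Spec (CommRingCat.of R))) (x : Z ⟶ B), x ^ (p ^ ν) = 1 → ∃ y, y ≫ θ ν = x := by
  obtain ⟨H, j, hj, hincl, hproj⟩ := exists_tors (K := K) B hconn p h (Fact.out : p.Prime).ne_zero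
    (fun ν => Red.bc (ιg R K) (G.G ν)) (fun ν => Picfga.HilbPull.isFinLocFreeOfDeg_of_isPullback
      (IsPullback.of_hasPullback (G.G ν).hom (ιg R K)) (G.finLocFree ν)) a ha_ker
  obtain ⟨v, hv⟩ := exists_v (ιg R K) hTF G H B j hj hincl hproj a ha_mon ha_ker ha_incl ha_proj
  refine ⟨fun ν => (v ν).hom ≫ j ν, hv, fun ν Z x hx => ?_⟩
  obtain ⟨y, hy⟩ := BTBase.exists_lift B p H.G j hj ν x hx
  exact ⟨y ≫ (v ν).inv, by
    change (y ≫ (v ν).inv) ≫ (v ν).hom ≫ j ν = x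
    rw [Category.assoc, Iso.inv_hom_id_assoc, hy]⟩

end layers

section theta

theorem exists_theta {k K R R₀ : Type u} [Field k] [Field K] [Algebra k K] [CommRing R] [IsDomain R]
    [IsDiscreteValuationRing R] [Algebra R K] [IsFractionRing R K] [CommRing R₀]
    [Algebra R₀ k] [Algebra R₀ R]
    (hR : ∀ r : R₀, algebraMap R K (algebraMap R₀ R r) = algebraMap k K (algebraMap R₀ k r))
    (A : Over (Spec (CommRingCat.of k))) [GrpObj A] [IsCommMonObj A]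
    (p : ℕ) [Fact p.Prime] 
    (P : ℕ → Over (Spec (CommRingCat.of k))) [∀ ν, GrpObj (P ν)] (i : ∀ ν, P ν ⟶ A) (t : ∀ ν, P (ν + 1) ⟶ P ν)
    (hP : BTGrp.IsTatePro A p P i t)
    (h : ℕ) (hTF : TFq (ιg R K) p h) (G : BTGrp.ProBT p (Spec (CommRingCat.of R₀)) h)
    (e : ∀ ν, Red.bc (fb R₀ k) (G.G ν) ≅ P ν) (he : ∀ ν, IsMonHom (e ν).hom)
    (het : ∀ ν, bcm (fb R₀ k) (G.proj ν) ≫ (e ν).hom = (e (ν + 1)).hom ≫ t ν)
    (hei : ∀ ν, bcm (fb R₀ k) (G.incl ν) ≫ (e (ν + 1)).hom ≫ i (ν + 1) = (e ν).hom ≫ i ν)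
    (B : Over (Spec (CommRingCat.of R))) [GrpObj B] [IsCommMonObj B] [IsProper B.hom] [Smooth B.hom]
    (hconn : ∀ (k' : Type u) [Field k'] (t : Spec (CommRingCat.of k') ⟶ Spec (CommRingCat.of R)),
      ConnectedSpace ↑(pullback B.hom t))
    (ε : Red.bc (ιg R K) B ≅ Red.bc (fKL k K) A) [IsMonHom ε.hom] :
    ∃ θ : ∀ n, Red.bc (fb R₀ R) (G.G n) ⟶ B,
      (∀ n, (bcm (ιg R K) (θ n)).left ≫ ρ ε = qq hR (G.G n) ≫ ((e n).hom ≫ i n).left) ∧
      ∀ n (T : Over (Spec (CommRingCat.of R))) (x : T ⟶ B), x ^ (p ^ n) = 1 → ∃ y, y ≫ θ n = x := by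
  have hi : ∀ ν, IsMonHom (i ν) := fun ν => (hP.1 ν).1
  obtain ⟨w, hw⟩ : ∃ w : ∀ ν, Red.bc (fb R₀ k) (G.G ν) ⟶ A, ∀ ν, w ν = (e ν).hom ≫ i ν := ⟨_, fun _ => rfl⟩
  have hw_mon : ∀ ν, IsMonHom (w ν) := fun ν => by
    have := he ν
    have := hi ν
    rw [hw]
    infer_instance
  have hw_ker : ∀ ν, AlgGrp.IsKernel (w ν) ((𝟙 A : A ⟶ A) ^ (p ^ ν)) := fun ν => by
    have h2 := isKernel_transport (i ν) (p ^ ν) (hP.1 ν).2 (e ν).hom (𝟙 A)
    rwa [Category.comp_id, ← hw] at h2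
  have hw_incl : ∀ ν, bcm (fb R₀ k) (G.incl ν) ≫ w (ν + 1) = w ν := fun ν => by rw [hw, hw, hei]
  have hw_proj : ∀ ν, bcm (fb R₀ k) (G.proj ν) ≫ w ν = (w (ν + 1)) ^ p := fun ν => by
    rw [hw, hw, ← MonObj.comp_pow, ← (hP.2 ν).2, ← Category.assoc, ← Category.assoc, het]
  obtain ⟨G', c, hc_iso, hc_mon, hc_incl, hc_proj⟩ := exists_bc (fb R₀ R) G
  have hεi : IsMonHom ε.inv := inferInstance
  obtain ⟨θ, hθ, hsurj⟩ := exists_v' hTF G' B hconn (aB (base_comm hR) G G' c w ε.inv)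
    (aB_mon (base_comm hR) G G' c w ε.inv hc_mon hw_mon)
    (aB_ker (base_comm hR) G G' c w ε.inv hc_iso hw_ker)
    (aB_incl (base_comm hR) G G' c w ε.inv hc_incl hw_incl)
    (aB_proj (base_comm hR) G G' c w ε.inv hc_proj hw_proj)
  have hinv : ∀ ν, bcm (ιg R K) (inv (c ν) ≫ θ ν) = aa (base_comm hR) (G.G ν) (w ν) ≫ ε.inv := fun ν => by
    have := bcm_iso (ιg R K) (c ν)
    rw [← cancel_epi (bcm (ιg R K) (c ν)), ← bcm_comp, IsIso.hom_inv_id_assoc, hθ]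
    rfl
  refine ⟨fun ν => inv (c ν) ≫ θ ν, fun ν => ?_, fun ν Z x hx => ?_⟩
  · rw [hinv, ← hw, ← aa_left_fst, ρ, ← Category.assoc, ← Over.comp_left, Category.assoc, Iso.inv_hom_id, Category.comp_id]
  · obtain ⟨y, hy⟩ := hsurj ν Z x hx
    exact ⟨y ≫ c ν, by rw [Category.assoc, IsIso.hom_inv_id_assoc, hy]⟩

end theta

end Groth.Agent.SGA7.K566.GoodTheta
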