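import Groth.Agent.SGA7.K566.GoodFix
import Groth.Agent.SGA7.K566.GoodTheta2

/-!
# Potentially good reduction and Barsotti–Tate groups over the ground ring

`geo''`: `A/k`, `R₀ ⊂ k`, `G` a Barsotti–Tate group over `R₀` with generic fibre `A(p)`, `R ⊃ R₀` a discrete valuation ring
with fraction field `K ⊃ k` over which `A_K` extends to an abelian scheme; under Tate's theorem for `R` the automorphisms in the inertia group of `k`
which preserve `K` fix the torsion points of `A` of order prime to the residue characteristic.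
-/

set_option autoImplicit false
set_option linter.unusedSectionVars false
set_option linter.style.haveILetI false

universe u

open CategoryTheory CategoryTheory.Limits MonoidalCategory CartesianMonoidalCategory AlgebraicGeometry MonObj

namespace Groth.Agent.SGA7.K566.GoodGeo

open Groth.Agent.Sga7.H753.NerTwist Groth.Agent.Sga7.H753.BaseExt
open Groth.Agent.Sga7.H753.NerHom Groth.Agent.SGA7.K566.GoodTw
open Groth.Agent.SGA7.K566.GoodTheta Groth.Agent.Sga7.H753.NerFix
open Groth.Agent.Sga7.H753.NerGeo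

theorem comm_of_iso {S : Scheme.{u}} {X Y : Over S} [GrpObj X] [GrpObj Y] [IsCommMonObj Y] (e : X ≅ Y)
    [IsMonHom e.hom] : IsCommMonObj X := by
  have hcomm : ∀ (T : Over S) (a b : T ⟶ X), a * b = b * a := by
    intro T a b
    have h1 : (a * b) ≫ e.hom = (b * a) ≫ e.hom := by
      rw [MonObj.mul_comp, MonObj.mul_comp, mul_comm]
    exact (cancel_mono e.hom).1 h1
  refine ⟨?_⟩
  rw [mul_eq_mul, MonObj.comp_mul, hcomm]
  congr 1
  · simp
  · simp

theorem geo'' (R K k Ω R₀ : Type u) [CommRing R] [IsDomain R] [IsDiscreteValuationRing R]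
    [Field K] [Algebra R K] [IsFractionRing R K] [Field k] [Algebra k K] [CommRing R₀] [Algebra R₀ k] [Algebra R₀ R]
    [Field Ω] [Algebra k Ω] [Algebra K Ω] [IsScalarTower k K Ω]
    (hR : ∀ r : R₀, algebraMap R K (algebraMap R₀ R r) = algebraMap k K (algebraMap R₀ k r))
    (W : ValuationSubring Ω) (hW : SGA7.LiesOver K R W)
    (A : Over (Spec (CommRingCat.of k))) [GrpObj A] [IsCommMonObj A]
    (p : ℕ) [Fact p.Prime] (hp : (p : R) ∈ IsLocalRing.maximalIdeal R)
    (P : ℕ → Over (Spec (CommRingCat.of k))) [∀ ν, GrpObj (P ν)] (i : ∀ ν, P ν ⟶ A) (t' : ∀ ν, P (ν + 1) ⟶ P ν)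
    (hP : BTGrp.IsTatePro A p P i t')
    (h : ℕ) (hTF : TFq (ιg R K) p h) (G : BTGrp.ProBT p (Spec (CommRingCat.of R₀)) h)
    (e' : ∀ ν, Red.bc (fb R₀ k) (G.G ν) ≅ P ν) (he' : ∀ ν, IsMonHom (e' ν).hom)
    (het : ∀ ν, bcm (fb R₀ k) (G.proj ν) ≫ (e' ν).hom = (e' (ν + 1)).hom ≫ t' ν)
    (hei : ∀ ν, bcm (fb R₀ k) (G.incl ν) ≫ (e' (ν + 1)).hom ≫ i (ν + 1) = (e' ν).hom ≫ i ν)
    (N : Over (Spec (CommRingCat.of R))) [GrpObj N] [IsProper N.hom] [Smooth N.hom]
    (hconn : ∀ (k' : Type u) [Field k'] (t : Spec (CommRingCat.of k') ⟶ Spec (CommRingCat.of R)),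
      ConnectedSpace ↑(pullback N.hom t))
    (e : Red.bc (ιg R K) N ≅ Red.bc (fKL k K) A) (he : IsMonHom e.hom)
    (σ : Ω ≃ₐ[k] Ω) (hσ : SGA7.IsInertia W σ) (s : R ≃+* R) (t : K ≃ₐ[k] K)
    (hst : ∀ r, t (algebraMap R K r) = algebraMap R K (s r))
    (hs : ∀ r : R₀, s (algebraMap R₀ R r) = algebraMap R₀ R r)
    (hσt : ∀ x : K, σ (algebraMap K Ω (t x)) = algebraMap K Ω x)
    (m : ℕ) (hm : IsUnit (m : R)) (x : SGA7.Pts (K := k) Ω A) (hx : x ^ m = 1) : SGA7.galAct σ x = x := by
  let _ : Algebra R Ω := ((algebraMap K Ω).comp (algebraMap R K)).toAlgebra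
  have : IsScalarTower R K Ω := IsScalarTower.of_algebraMap_eq (fun _ => rfl)
  let _ : Algebra R W := (((algebraMap K Ω).comp (algebraMap R K)).codRestrict W.toSubring hW.1).toAlgebra
  have : IsScalarTower R W Ω := IsScalarTower.of_algebraMap_eq (fun _ => rfl)
  have hN : SGA7.IsNeron R K N := AbLayers.isNeron R K N
  have hc1 : IsCommMonObj (Red.bc (fKL k K) A) :=
    inferInstanceAs (IsCommMonObj ((Over.pullback (fKL k K)).obj A))
  have hc2 : IsCommMonObj ((SGA7.genFib R K).obj N) := comm_of_iso e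
  have hc3 : IsCommMonObj N := isCommMonObj N hN
  -- the residue characteristic
  have hp' : (p : IsLocalRing.ResidueField W) = 0 := by
    have h1 : algebraMap R Ω (p : R) = (p : Ω) := map_natCast _ _
    have h2 := hW.2 (p : R) ((IsLocalRing.mem_maximalIdeal _).1 hp)
    have h3 : ((p : W) : Ω) = algebraMap K Ω (algebraMap R K (p : R)) := by
      rw [map_natCast, map_natCast]
      exact map_natCast W.subtype p
    rw [← map_natCast (IsLocalRing.residue W), IsLocalRing.residue_eq_zero_iff]
    rw [ValuationSubring.valuation_lt_one_iff, h3]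
    exact h2
  -- the special fibre is integral
  have hgc : GeometricallyConnected N.hom := by
    rw [geometricallyConnected_iff]
    intro k' _ t P fst snd hP
    exact hP.isoPullback.symm.hom.homeomorph.surjective.connectedSpace hP.isoPullback.symm.hom.continuous
  have hgi : GeometricallyIntegral N.hom := K247.SmoothGI.geometricallyIntegral N.hom
  have hint : IsIntegral (Red.bc (qm R (IsLocalRing.ResidueField W)) N).left := by
    have h1 : GeometricallyIntegral (pullback.snd N.hom (qm R (IsLocalRing.ResidueField W))) := inferInstance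
    exact GeometricallyIntegral.isIntegral_of_subsingleton (pullback.snd N.hom (qm R (IsLocalRing.ResidueField W)))
  obtain ⟨θ, hθ, hfac⟩ := exists_theta hR A p P i t' hP h hTF G e' he' het hei N hconn e
  exact GoodFix.geo e hR hN σ hσ s t hst hs hσt p hp' (fun n => G.G n) (fun n => (G.finLocFree n).1.2.1)
    (fun n => (e' n).hom ≫ i n) θ hθ hfac m hm x hx

end Groth.Agent.SGA7.K566.GoodGeo
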