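import Groth.Agent.SGA7.K566.GoodTw
import Groth.Agent.SGA7.K566.AbLayers
import Groth.Agent.Sga3B.Parab.DynIso147

/-!
# The comparison of `G ×_{R₀} R` with the torsion of an abelian scheme over `R`: generic fibres

`aa ν : (G_ν ×_{R₀} R)_K → A_K` is the kernel of `p^ν`.
-/

set_option autoImplicit false
set_option linter.unusedSectionVars false
set_option linter.style.haveILetI false

universe u

open CategoryTheory CategoryTheory.Limits MonoidalCategory CartesianMonoidalCategory AlgebraicGeometry MonObj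

namespace Groth.Agent.SGA7.K566.GoodTheta

open Groth.Agent.Sga7.H753.NerTwist Groth.Agent.Sga7.H753.BaseExt
open Groth.Agent.Sga7.H753.NerHom Groth.Agent.SGA7.K566.GoodTw
open Groth.Agent.Sga7.H760.KerBc Groth.Agent.Sga3B.Parab.GeomFib147 Groth.Agent.Sga3B

section ker

variable {S : Scheme.{u}} {X X' Y Y' : Over S} [GrpObj Y] [GrpObj Y']

theorem isKernel_pow_iff (j : X ⟶ Y) (m : ℕ) : AlgGrp.IsKernel j ((𝟙 Y : Y ⟶ Y) ^ m) ↔
    j ^ m = 1 ∧ ∀ (T : Over S) (g : T ⟶ Y), g ^ m = 1 → ∃! y : T ⟶ X, y ≫ j = g := by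
  rw [isKernel_iff]
  have h1 : ∀ (T : Over S) (g : T ⟶ Y), g ≫ ((𝟙 Y : Y ⟶ Y) ^ m) = g ^ m := fun T g => by
    rw [MonObj.comp_pow, Category.comp_id]
  rw [h1]
  constructor
  · rintro ⟨h2, h3⟩
    exact ⟨h2, fun T g hg => h3 T g (by rw [h1, hg])⟩
  · rintro ⟨h2, h3⟩
    exact ⟨h2, fun T g hg => h3 T g (by rw [← h1, hg])⟩

theorem isKernel_transport (j : X ⟶ Y) (m : ℕ) (hj : AlgGrp.IsKernel j ((𝟙 Y : Y ⟶ Y) ^ m)) (c : X' ⟶ X) [IsIso c]
    (ε : Y ⟶ Y') [IsIso ε] [IsMonHom ε] : AlgGrp.IsKernel (c ≫ j ≫ ε) ((𝟙 Y' : Y' ⟶ Y') ^ m) := by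
  rw [isKernel_pow_iff] at hj ⊢
  obtain ⟨h1, h2⟩ := hj
  constructor
  · rw [← MonObj.comp_pow, ← MonObj.pow_comp, h1, MonObj.one_comp, MonObj.comp_one]
  · intro T g hg
    obtain ⟨y, hy, huniq⟩ := h2 T (g ≫ inv ε) (by
      have h3 : ((g ≫ inv ε) ^ m) ≫ ε = 1 ≫ ε := by
        rw [MonObj.pow_comp, Category.assoc, IsIso.inv_hom_id, Category.comp_id, hg, MonObj.one_comp]
      exact (cancel_mono ε).1 h3)
    have hy' : y ≫ j = g ≫ inv ε := hy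
    refine ⟨y ≫ inv c, ?_, fun y' hy'' => ?_⟩
    · change (y ≫ inv c) ≫ c ≫ j ≫ ε = g
      rw [Category.assoc, IsIso.inv_hom_id_assoc, ← Category.assoc, hy', Category.assoc, IsIso.inv_hom_id,
        Category.comp_id]
    · have h4 : y' ≫ c = y := huniq _ (by
        change (y' ≫ c) ≫ j = g ≫ inv ε
        rw [← hy'']
        simp)
      rw [← h4, Category.assoc, IsIso.hom_inv_id, Category.comp_id]

theorem mono_of_isKernel {j : X ⟶ Y} {u : Y ⟶ Y'} (hj : AlgGrp.IsKernel j u) : Mono j :=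
  ⟨fun _ _ hab => hj.hom_ext hab (toUnit_unique _ _)⟩

theorem isMonHom_of_comp_mono [GrpObj X] [GrpObj X'] (u : X' ⟶ X) (b : X ⟶ Y) [Mono b] [IsMonHom b]
    (h : IsMonHom (u ≫ b)) : IsMonHom u := by
  constructor
  · rw [← cancel_mono b, Category.assoc, IsMonHom.one_hom, IsMonHom.one_hom]
  · rw [← cancel_mono b, Category.assoc, Category.assoc, IsMonHom.mul_hom, IsMonHom.mul_hom,
      MonoidalCategory.tensorHom_comp_tensorHom_assoc]

end ker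

section bcm

variable {S T : Scheme.{u}} (f : T ⟶ S)

/-- base change of morphisms -/
noncomputable def bcm {X Y : Over S} (i : X ⟶ Y) : Red.bc f X ⟶ Red.bc f Y := (Over.pullback f).map i

theorem bcm_def {X Y : Over S} (i : X ⟶ Y) : bcm f i = (Over.pullback f).map i := rfl

theorem bcm_comp {X Y Z : Over S} (i : X ⟶ Y) (j : Y ⟶ Z) : bcm f (i ≫ j) = bcm f i ≫ bcm f j :=
  (Over.pullback f).map_comp i j

theorem bcm_id (X : Over S) : bcm f (𝟙 X) = 𝟙 (Red.bc f X) := (Over.pullback f).map_id X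

theorem bcm_mon {X Y : Over S} [GrpObj X] [GrpObj Y] (i : X ⟶ Y) [IsMonHom i] : IsMonHom (bcm f i) :=
  inferInstanceAs (IsMonHom ((Over.pullback f).map i))

theorem bcm_iso {X Y : Over S} (i : X ⟶ Y) [IsIso i] : IsIso (bcm f i) :=
  inferInstanceAs (IsIso ((Over.pullback f).map i))

theorem bcm_pow {X Y : Over S} [GrpObj Y] (i : X ⟶ Y) (n : ℕ) : bcm f (i ^ n) = (bcm f i) ^ n :=
  BTBase.map_pow' f i n

theorem bcm_ker {X Y : Over S} [GrpObj Y] (i : X ⟶ Y) (m : ℕ) (hi : AlgGrp.IsKernel i ((𝟙 Y : Y ⟶ Y) ^ m)) :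
    AlgGrp.IsKernel (bcm f i) ((𝟙 (Red.bc f Y)) ^ m) := by
  have h2 := isKernel_bc f hi
  rwa [BTBase.map_id_pow] at h2

theorem bcm_left_fst {X Y : Over S} (i : X ⟶ Y) :
    (bcm f i).left ≫ pullback.fst Y.hom f = pullback.fst X.hom f ≫ i.left := pullback.lift_fst _ _ _

end bcm

section sq

variable {S T S₁ S₂ : Scheme.{u}} {q : T ⟶ S₁} {g : S₁ ⟶ S} {q' : T ⟶ S₂} {g' : S₂ ⟶ S}
  (hsq : q ≫ g = q' ≫ g') (X : Over S) [GrpObj X]

/-- the comparison of the two base changes -/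
noncomputable def cc : Red.bc q (Red.bc g X) ⟶ Red.bc q' (Red.bc g' X) := (sqIso hsq X).hom.hom.hom

instance : IsMonHom (cc hsq X) := inferInstanceAs (IsMonHom (sqIso hsq X).hom.hom.hom)

instance : IsIso (cc hsq X) := inferInstanceAs (IsIso (sqIso hsq X).hom.hom.hom)

theorem cc_natural {X Y : Over S} [GrpObj X] [GrpObj Y] (i : X ⟶ Y) :
    cc hsq X ≫ bcm q' (bcm g' i) = bcm q (bcm g i) ≫ cc hsq Y := sqIso_natural hsq i

theorem cc_left : (cc hsq X).left ≫ pullback.fst (Red.bc g' X).hom q' ≫ pullback.fst X.hom g' =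
    pullback.fst (Red.bc g X).hom q ≫ pullback.fst X.hom g := Parab.DynIso147.sqIso_left hsq X

/-- the composite of the comparison with the base change of `w : g'^* X → A`. -/
noncomputable def aa {A : Over S₂} (w : Red.bc g' X ⟶ A) : Red.bc q (Red.bc g X) ⟶ Red.bc q' A :=
  cc hsq X ≫ bcm q' w

theorem aa_mon {A : Over S₂} [GrpObj A] (w : Red.bc g' X ⟶ A) [IsMonHom w] : IsMonHom (aa hsq X w) := by
  have := bcm_mon q' w
  unfold aa
  infer_instance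

theorem aa_ker {A : Over S₂} [GrpObj A] (w : Red.bc g' X ⟶ A) (m : ℕ) (hw : AlgGrp.IsKernel w ((𝟙 A : A ⟶ A) ^ m)) :
    AlgGrp.IsKernel (aa hsq X w) ((𝟙 (Red.bc q' A)) ^ m) := by
  have h2 := bcm_ker q' w m hw
  have h3 := isKernel_transport _ m h2 (cc hsq X) (𝟙 (Red.bc q' A))
  rw [Category.comp_id] at h3
  exact h3

theorem aa_comp {A : Over S₂} {X Y : Over S} [GrpObj X] [GrpObj Y] (i : X ⟶ Y) (w : Red.bc g' Y ⟶ A) :
    bcm q (bcm g i) ≫ aa hsq Y w = aa hsq X (bcm g' i ≫ w) := by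
  unfold aa
  rw [← Category.assoc, ← cc_natural, Category.assoc, bcm_comp]

theorem aa_pow {A : Over S₂} [GrpObj A] (w : Red.bc g' X ⟶ A) (m : ℕ) : aa hsq X (w ^ m) = (aa hsq X w) ^ m := by
  unfold aa
  rw [bcm_pow, MonObj.comp_pow]

theorem aa_left {A : Over S₂} (w : Red.bc g' X ⟶ A) :
    (aa hsq X w).left ≫ pullback.fst A.hom q' = (cc hsq X).left ≫ pullback.fst (Red.bc g' X).hom q' ≫ w.left := by
  unfold aa
  rw [Over.comp_left, Category.assoc, bcm_left_fst]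

end sq

section aB

variable {S T S₁ S₂ : Scheme.{u}} {q : T ⟶ S₁} {g : S₁ ⟶ S} {q' : T ⟶ S₂} {g' : S₂ ⟶ S}
  (hsq : q ≫ g = q' ≫ g')
  {p h : ℕ} (G : BTGrp.ProBT p S h) (G' : BTGrp.ProBT p S₁ h) (c : ∀ ν, G'.G ν ⟶ Red.bc g (G.G ν))
  {A : Over S₂} (w : ∀ ν, Red.bc g' (G.G ν) ⟶ A) {Bq : Over T} (ε : Red.bc q' A ⟶ Bq)

/-- The maps `(G'_ν)_K → A_K`. -/
noncomputable def aB (ν : ℕ) : Red.bc q (G'.G ν) ⟶ Bq :=
  bcm q (c ν) ≫ aa hsq (G.G ν) (w ν) ≫ ε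

theorem aB_mon [GrpObj A] [GrpObj Bq] (hc : ∀ ν, IsMonHom (c ν)) (hw : ∀ ν, IsMonHom (w ν)) [IsMonHom ε] (ν : ℕ) :
    IsMonHom (aB hsq G G' c w ε ν) := by
  have := hw ν
  have := hc ν
  have h1 := aa_mon hsq (G.G ν) (w ν)
  have h2 := bcm_mon q (c ν)
  unfold aB
  infer_instance

theorem aB_ker [GrpObj A] [GrpObj Bq] (hc : ∀ ν, IsIso (c ν)) [IsIso ε] [IsMonHom ε]
    (hw : ∀ ν, AlgGrp.IsKernel (w ν) ((𝟙 A : A ⟶ A) ^ (p ^ ν))) (ν : ℕ) :
    AlgGrp.IsKernel (aB hsq G G' c w ε ν) ((𝟙 Bq : Bq ⟶ Bq) ^ (p ^ ν)) := by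
  have := hc ν
  have := bcm_iso q (c ν)
  have h1 := aa_ker hsq (G.G ν) (w ν) (p ^ ν) (hw ν)
  exact isKernel_transport _ _ h1 (bcm q (c ν)) ε

theorem aB_incl (hcI : ∀ ν, G'.incl ν ≫ c (ν + 1) = c ν ≫ bcm g (G.incl ν))
    (hw : ∀ ν, bcm g' (G.incl ν) ≫ w (ν + 1) = w ν) (ν : ℕ) :
    bcm q (G'.incl ν) ≫ aB hsq G G' c w ε (ν + 1) = aB hsq G G' c w ε ν := by
  have h1 := aa_comp hsq (G.incl ν) (w (ν + 1))
  rw [hw] at h1
  rw [aB, aB, ← h1, Category.assoc, ← Category.assoc, ← Category.assoc (bcm q (c ν)), ← bcm_comp, ← bcm_comp, hcI]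

theorem aB_proj [GrpObj A] [GrpObj Bq] [IsMonHom ε]
    (hcP : ∀ ν, G'.proj ν ≫ c ν = c (ν + 1) ≫ bcm g (G.proj ν))
    (hw : ∀ ν, bcm g' (G.proj ν) ≫ w ν = (w (ν + 1)) ^ p) (ν : ℕ) :
    bcm q (G'.proj ν) ≫ aB hsq G G' c w ε ν = (aB hsq G G' c w ε (ν + 1)) ^ p := by
  have h1 := aa_comp hsq (G.proj ν) (w ν)
  rw [hw, aa_pow] at h1
  rw [aB, aB, ← MonObj.comp_pow, ← MonObj.pow_comp, ← h1, Category.assoc, ← Category.assoc,
    ← Category.assoc (bcm q (c (ν + 1))), ← bcm_comp, ← bcm_comp, hcP]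

/-- base change of a Barsotti–Tate group, in opaque form. -/
theorem exists_bc {S S' : Scheme.{u}} (f : S' ⟶ S) {p h : ℕ} (G : BTGrp.ProBT p S h) :
    ∃ (G' : BTGrp.ProBT p S' h) (c : ∀ ν, G'.G ν ⟶ Red.bc f (G.G ν)), (∀ ν, IsIso (c ν)) ∧
      (∀ ν, IsMonHom (c ν)) ∧
      (∀ ν, G'.incl ν ≫ c (ν + 1) = c ν ≫ bcm f (G.incl ν)) ∧
      ∀ ν, G'.proj ν ≫ c ν = c (ν + 1) ≫ bcm f (G.proj ν) := by
  refine ⟨BTBase.bc f G, fun ν => 𝟙 (Red.bc f (G.G ν)), fun ν => ?_, fun ν => ?_, fun ν => ?_, fun ν => ?_⟩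
  · exact IsIso.id (Red.bc f (G.G ν))
  · exact (inferInstance : IsMonHom (𝟙 (Red.bc f (G.G ν))))
  · exact (Category.comp_id (X := Red.bc f (G.G ν)) (bcm f (G.incl ν))).trans
      (Category.id_comp (X := Red.bc f (G.G ν)) (bcm f (G.incl ν))).symm
  · exact (Category.comp_id (X := Red.bc f (G.G (ν + 1))) (bcm f (G.proj ν))).trans
      (Category.id_comp (X := Red.bc f (G.G (ν + 1))) (bcm f (G.proj ν))).symm

end aB

section TF

variable {S T : Scheme.{u}} (q : T ⟶ S) {p h : ℕ}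

/-- The full faithfulness statement for `q : T → S`: isomorphisms of the base changes of two Barsotti–Tate groups come from
isomorphisms. -/
def TFq (p h : ℕ) : Prop := ∀ (G H : BTGrp.ProBT p S h)
  (u : ∀ ν, Red.bc q (G.G ν) ≅ Red.bc q (H.G ν)), (∀ ν, IsMonHom (u ν).hom) →
  (∀ ν, bcm q (G.incl ν) ≫ (u (ν + 1)).hom = (u ν).hom ≫ bcm q (H.incl ν)) →
  (∀ ν, bcm q (G.proj ν) ≫ (u ν).hom = (u (ν + 1)).hom ≫ bcm q (H.proj ν)) →
  ∃ v : ∀ ν, G.G ν ≅ H.G ν, (∀ ν, IsMonHom (v ν).hom) ∧ ∀ ν, bcm q (v ν).hom = (u ν).hom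

/-- full faithfulness applied to a Barsotti–Tate group and the torsion layers of a group scheme. -/
theorem exists_v (hTF : TFq q p h) (G H : BTGrp.ProBT p S h)
    (B : Over S) [GrpObj B] [IsCommMonObj B] (j : ∀ ν, H.G ν ⟶ B)
    (hj : ∀ ν, BTGrp.IsTorsionLevel B p ν (H.G ν) (j ν))
    (hincl : ∀ ν, H.incl ν ≫ j (ν + 1) = j ν) (hproj : ∀ ν, H.proj ν ≫ j ν = (j (ν + 1)) ^ p)
    (a : ∀ ν, Red.bc q (G.G ν) ⟶ Red.bc q B) (ha_mon : ∀ ν, IsMonHom (a ν))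
    (ha_ker : ∀ ν, AlgGrp.IsKernel (a ν) ((𝟙 (Red.bc q B)) ^ (p ^ ν)))
    (ha_incl : ∀ ν, bcm q (G.incl ν) ≫ a (ν + 1) = a ν)
    (ha_proj : ∀ ν, bcm q (G.proj ν) ≫ a ν = (a (ν + 1)) ^ p) :
    ∃ v : ∀ ν, G.G ν ≅ H.G ν, ∀ ν, bcm q ((v ν).hom ≫ j ν) = a ν := by
  let b : ∀ ν, Red.bc q (H.G ν) ⟶ Red.bc q B := fun ν => bcm q (j ν)
  have hb_ker : ∀ ν, AlgGrp.IsKernel (b ν) ((𝟙 (Red.bc q B)) ^ (p ^ ν)) := fun ν => bcm_ker q _ _ (hj ν).2
  have hb_mono : ∀ ν, Mono (b ν) := fun ν => mono_of_isKernel (hb_ker ν)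
  have hb_mon : ∀ ν, IsMonHom (b ν) := fun ν => by
    have := (hj ν).1
    exact bcm_mon q (j ν)
  choose u hu using fun ν => exists_iso (ha_ker ν) (hb_ker ν)
  have hu_mon : ∀ ν, IsMonHom (u ν).hom := fun ν => by
    have := hb_mono ν
    have := hb_mon ν
    exact isMonHom_of_comp_mono (u ν).hom (b ν) (by rw [hu]; exact ha_mon ν)
  obtain ⟨v, hv_mon, hv⟩ := hTF G H u hu_mon (fun ν => by
    have := hb_mono (ν + 1)
    rw [← cancel_mono (b (ν + 1)), Category.assoc, hu, ha_incl, Category.assoc, ← bcm_comp, hincl]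
    exact (hu ν).symm) (fun ν => by
    have := hb_mono ν
    rw [← cancel_mono (b ν), Category.assoc, hu, ha_proj, Category.assoc, ← bcm_comp, hproj, bcm_pow,
      MonObj.comp_pow]
    exact congrArg (· ^ p) (hu (ν + 1)).symm)
  exact ⟨v, fun ν => by rw [bcm_comp, hv]; exact hu ν⟩

end TF

section qq

variable {k K R R₀ : Type u} [Field k] [Field K] [Algebra k K] [CommRing R] [Algebra R K] [CommRing R₀]
  [Algebra R₀ k] [Algebra R₀ R]
  (hR : ∀ r : R₀, algebraMap R K (algebraMap R₀ R r) = algebraMap k K (algebraMap R₀ k r))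

theorem cc_left_fst (X : Over (Spec (CommRingCat.of R₀))) [GrpObj X] :
    (cc (base_comm hR) X).left ≫ pullback.fst (Red.bc (fb R₀ k) X).hom (fKL k K) = qq hR X := by
  apply pullback.hom_ext
  · rw [Category.assoc, cc_left, qq_fst]
  · have h1 : (cc (base_comm hR) X).left ≫ pullback.snd (Red.bc (fb R₀ k) X).hom (fKL k K) =
        pullback.snd (Red.bc (fb R₀ R) X).hom (ιg R K) := Over.w (cc (base_comm hR) X)
    have h2 : pullback.fst (Red.bc (fb R₀ k) X).hom (fKL k K) ≫ pullback.snd X.hom (fb R₀ k) =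
        pullback.snd (Red.bc (fb R₀ k) X).hom (fKL k K) ≫ fKL k K := pullback.condition
    rw [Category.assoc, h2, ← Category.assoc, h1, qq_snd]

theorem aa_left_fst (X : Over (Spec (CommRingCat.of R₀))) [GrpObj X] {A : Over (Spec (CommRingCat.of k))}
    (w : Red.bc (fb R₀ k) X ⟶ A) :
    (aa (base_comm hR) X w).left ≫ pullback.fst A.hom (fKL k K) = qq hR X ≫ w.left := by
  rw [aa_left, ← Category.assoc, cc_left_fst]

end qq

end Groth.Agent.SGA7.K566.GoodTheta
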