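import Groth.Agent.Sga7.H753.NerGeo
import Groth.Agent.SGA7.K566.CharPId
import Groth.Agent.GIT.K691.Dense
import Groth.Agent.S13104

/-!
# The semilinear automorphism of a Néron model and group schemes defined over the base

`N` is a Néron model over `R` (fraction field `K`) of `A_K`, `A` over `k ⊂ K`, and `F` the `s`-semilinear automorphism
of `N` given by an automorphism `t` of `K/k`. If `H = H₀ ×_{R₀} R` is a flat group scheme coming from `R₀ ⊂ R^s` and `θ : H → N`
is induced on the generic fibre by a morphism `H₀ ×_{R₀} k → A`, then `θ` commutes with the semilinear endomorphisms.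
Hence the automorphism induced by `F` on the special fibre fixes the image of `H`.
-/

set_option autoImplicit false
set_option linter.unusedSectionVars false
set_option linter.style.haveILetI false

universe u

open CategoryTheory CategoryTheory.Limits MonoidalCategory CartesianMonoidalCategory AlgebraicGeometry MonObj

namespace Groth.Agent.SGA7.K566.GoodTw

open Groth.Agent.Sga7.H753.NerTwist Groth.Agent.Sga7.H753.BaseExt Groth.Agent.Sga3B.BcPts
open Groth.Agent.Sga7.H753.NerHom Groth.Agent.Sga7.H753.NerPsi Groth.Agent.Sga7.H753.NerPts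
open Groth.Agent.Sga7.H753.NerDict Groth.Agent.Sga7.H753.NerFix
open Groth.Agent.Sga67 Groth.Agent.Sga7.H755
open Groth.Agent.Sga7.H753.NerGeo

/-- `Spec R → Spec R₀`. -/
noncomputable abbrev fb (R₀ R : Type u) [CommRing R₀] [CommRing R] [Algebra R₀ R] :
    Spec (CommRingCat.of R) ⟶ Spec (CommRingCat.of R₀) :=
  Spec.map (CommRingCat.ofHom (algebraMap R₀ R))

section tw

variable {k K R R₀ : Type u} [Field k] [Field K] [Algebra k K] [CommRing R] [Algebra R K] [CommRing R₀]
  [Algebra R₀ k] [Algebra R₀ R]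
  {N : Over (Spec (CommRingCat.of R))} {A : Over (Spec (CommRingCat.of k))}
  (e : (SGA7.genFib R K).obj N ≅ Red.bc (fKL k K) A)
  (hR : ∀ r : R₀, algebraMap R K (algebraMap R₀ R r) = algebraMap k K (algebraMap R₀ k r))

include hR in
lemma base_comm : ιg R K ≫ fb R₀ R = fKL k K ≫ fb R₀ k := by
  rw [fb, fb, fKL, ← Spec.map_comp, ← Spec.map_comp, ← CommRingCat.ofHom_comp, ← CommRingCat.ofHom_comp]
  congr 2
  ext r
  exact hR r

/-- the projection `(H₀ ×_{R₀} R)_K → (H₀)_k`. -/
noncomputable def qq (H₀ : Over (Spec (CommRingCat.of R₀))) :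
    ((SGA7.genFib R K).obj (Red.bc (fb R₀ R) H₀)).left ⟶ (Red.bc (fb R₀ k) H₀).left :=
  pullback.lift (pullback.fst (Red.bc (fb R₀ R) H₀).hom (ιg R K) ≫ pullback.fst H₀.hom (fb R₀ R))
    (pullback.snd (Red.bc (fb R₀ R) H₀).hom (ιg R K) ≫ fKL k K) (by
      have h1 : (Red.bc (fb R₀ R) H₀).hom = pullback.snd H₀.hom (fb R₀ R) := rfl
      rw [Category.assoc, pullback.condition, Category.assoc, ← base_comm hR, ← h1, ← Category.assoc,
        ← Category.assoc, pullback.condition])

lemma qq_fst (H₀ : Over (Spec (CommRingCat.of R₀))) :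
    qq hR H₀ ≫ pullback.fst H₀.hom (fb R₀ k) =
      pullback.fst (Red.bc (fb R₀ R) H₀).hom (ιg R K) ≫ pullback.fst H₀.hom (fb R₀ R) := pullback.lift_fst _ _ _

lemma qq_snd (H₀ : Over (Spec (CommRingCat.of R₀))) :
    qq hR H₀ ≫ pullback.snd H₀.hom (fb R₀ k) =
      pullback.snd (Red.bc (fb R₀ R) H₀).hom (ιg R K) ≫ fKL k K := pullback.lift_snd _ _ _

/-- the semilinear automorphism `1 × s` of `H₀ ×_{R₀} R`. -/
noncomputable def FH (s : R ≃+* R) (hs : ∀ r : R₀, s (algebraMap R₀ R r) = algebraMap R₀ R r)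
    (H₀ : Over (Spec (CommRingCat.of R₀))) :
    (Red.bc (fb R₀ R) H₀).left ⟶ (Red.bc (fb R₀ R) H₀).left :=
  pullback.lift (pullback.fst H₀.hom (fb R₀ R)) (pullback.snd H₀.hom (fb R₀ R) ≫ sp s) (by
    have h1 : sp s ≫ fb R₀ R = fb R₀ R := by
      rw [sp, fb, ← Spec.map_comp, ← CommRingCat.ofHom_comp]
      congr 2
      ext r
      exact hs r
    rw [Category.assoc, h1, pullback.condition])

lemma FH_fst (s : R ≃+* R) (hs : ∀ r : R₀, s (algebraMap R₀ R r) = algebraMap R₀ R r)
    (H₀ : Over (Spec (CommRingCat.of R₀))) :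
    FH s hs H₀ ≫ pullback.fst H₀.hom (fb R₀ R) = pullback.fst H₀.hom (fb R₀ R) := pullback.lift_fst _ _ _

lemma FH_hom (s : R ≃+* R) (hs : ∀ r : R₀, s (algebraMap R₀ R r) = algebraMap R₀ R r)
    (H₀ : Over (Spec (CommRingCat.of R₀))) :
    FH s hs H₀ ≫ (Red.bc (fb R₀ R) H₀).hom = (Red.bc (fb R₀ R) H₀).hom ≫ sp s := pullback.lift_snd _ _ _

/-- The semilinear endomorphisms commute with `θ`. -/
theorem comm (s : R ≃+* R) (t : K ≃ₐ[k] K) (hst : ∀ r, t (algebraMap R K r) = algebraMap R K (s r))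
    (hs : ∀ r : R₀, s (algebraMap R₀ R r) = algebraMap R₀ R r)
    {F : N.left ⟶ N.left} (hF : IsTw e s t F) [IsSeparated N.hom] [IsDomain R] [IsFractionRing R K]
    (H₀ : Over (Spec (CommRingCat.of R₀))) [Flat H₀.hom] (ε : Red.bc (fb R₀ k) H₀ ⟶ A)
    (θ : Red.bc (fb R₀ R) H₀ ⟶ N)
    (hθ : ((SGA7.genFib R K).map θ).left ≫ ρ e = qq hR H₀ ≫ ε.left) :
    θ.left ≫ F = FH s hs H₀ ≫ θ.left := by
  obtain ⟨a, ha1, ha2, ha3⟩ := hF.gen
  have hfl : Flat (Red.bc (fb R₀ R) H₀).hom := inferInstanceAs (Flat (pullback.snd H₀.hom (fb R₀ R)))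
  have hdom : IsSchemeTheoreticallyDominant (ιg R K) :=
    S13104.isSchemeTheoreticallyDominant_specMap _ (IsFractionRing.injective R K)
  have hdom' : IsSchemeTheoreticallyDominant (pullback.fst (Red.bc (fb R₀ R) H₀).hom (ιg R K)) := inferInstance
  refine K691.Dense.ext_of_dominant N.hom ?_ (pullback.fst (Red.bc (fb R₀ R) H₀).hom (ιg R K)) ?_
  · rw [Category.assoc, hF.hom, Category.assoc, Over.w θ, FH_hom, ← Category.assoc, Over.w θ]
  -- the generic fibre
  let θK := (SGA7.genFib R K).map θ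
  have hθK : θK.left ≫ pullback.fst N.hom (ιg R K) = pullback.fst (Red.bc (fb R₀ R) H₀).hom (ιg R K) ≫ θ.left :=
    pullback.lift_fst _ _ _
  have hιs : sp t.toRingEquiv ≫ ιg R K = ιg R K ≫ sp s := ι_sp hst
  let aH : ((SGA7.genFib R K).obj (Red.bc (fb R₀ R) H₀)).left ⟶ ((SGA7.genFib R K).obj (Red.bc (fb R₀ R) H₀)).left :=
    pullback.lift (pullback.fst (Red.bc (fb R₀ R) H₀).hom (ιg R K) ≫ FH s hs H₀)
      (pullback.snd (Red.bc (fb R₀ R) H₀).hom (ιg R K) ≫ sp t.toRingEquiv) (by
        rw [Category.assoc, Category.assoc, hιs, FH_hom, ← Category.assoc, ← Category.assoc, pullback.condition])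
  have haH1 : aH ≫ pullback.fst (Red.bc (fb R₀ R) H₀).hom (ιg R K) =
      pullback.fst (Red.bc (fb R₀ R) H₀).hom (ιg R K) ≫ FH s hs H₀ := pullback.lift_fst _ _ _
  have haH2 : aH ≫ pullback.snd (Red.bc (fb R₀ R) H₀).hom (ιg R K) =
      pullback.snd (Red.bc (fb R₀ R) H₀).hom (ιg R K) ≫ sp t.toRingEquiv := pullback.lift_snd _ _ _
  have haq : aH ≫ qq hR H₀ = qq hR H₀ := by
    apply pullback.hom_ext
    · rw [Category.assoc, qq_fst, ← Category.assoc, haH1, Category.assoc, FH_fst]
    · rw [Category.assoc, qq_snd, ← Category.assoc, haH2, Category.assoc, sp_fKL]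
  have key : θK.left ≫ a = aH ≫ θK.left := by
    -- both are determined by the projections to `A` and `Spec K`
    have hinj : ∀ {Z : Scheme.{u}} (x y : Z ⟶ ((SGA7.genFib R K).obj N).left), x ≫ ρ e = y ≫ ρ e →
        x ≫ ((SGA7.genFib R K).obj N).hom = y ≫ ((SGA7.genFib R K).obj N).hom → x = y := by
      intro Z x y h1 h2
      have hx : IsIso e.hom.left := inferInstanceAs (IsIso ((Over.forget _).map e.hom))
      rw [← cancel_mono e.hom.left]
      apply pullback.hom_ext
      · rw [Category.assoc, Category.assoc]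
        exact h1
      · have h3 : e.hom.left ≫ pullback.snd A.hom (fKL k K) = ((SGA7.genFib R K).obj N).hom := Over.w e.hom
        rw [Category.assoc, Category.assoc, h3]
        exact h2
    apply hinj
    · rw [Category.assoc, ha2, Category.assoc]
      exact hθ.trans (by rw [hθ, ← Category.assoc, haq])
    · rw [Category.assoc, ha1, Category.assoc, ← Category.assoc, Over.w θK]
      exact haH2.symm
  rw [← Category.assoc, ← hθK, Category.assoc, ← ha3, ← Category.assoc, key, Category.assoc, hθK, ← Category.assoc,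
    haH1, Category.assoc]

end tw

end Groth.Agent.SGA7.K566.GoodTw
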