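import Groth.Agent.Sga7.H753.Ind
import Groth.Agent.S10830

/-!
# Endomorphisms of one-dimensional groups fixing infinitely many torsion points

`ind1`: an endomorphism of a smooth commutative group of dimension at most one over an algebraically closed field which
fixes infinitely many points in the divisible part of the `ℓ`-power torsion fixes the divisible part of the `ℓ'`-power
torsion.
-/

set_option autoImplicit false
universe u
open CategoryTheory MonoidalCategory CartesianMonoidalCategory MonObj GrpObj AlgebraicGeometry Limits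

namespace Groth.Agent.SGA7.K566.IndOne

open Books.AlgPts Books.AlgPtsGrp Sga3.H794.ChevKer Sga3.H794.FinPts
open Sga7.H620.TorsCount Sga7.H620.Rosenlicht
open Sga7.H753.NerGeo (InfDiv)
open Sga7.H753.IndProof (exists_lift_divisible)

variable {K : Type u} [Field K] [IsAlgClosed K]

theorem ind1 (G : Over (Spec (CommRingCat.of K))) [GrpObj G] [IsCommMonObj G] [Smooth G.hom]
    [IsSeparated G.hom] [QuasiCompact G.hom] (hdim : topologicalKrullDim G.left ≤ 1) (ψ : G ⟶ G) [IsMonHom ψ]
    {l l' : ℕ} (hlp : l.Prime) (hlp' : l'.Prime)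
    (h : {y : KP G | InfDiv (fun _ => True) l y ∧ y ≫ ψ = y}.Infinite) (y : KP G)
    (hy : InfDiv (fun _ => True) l' y) : y ≫ ψ = y := by
  obtain ⟨U, _, u, hu1, hu2, hu3, hu4, hu5⟩ := Sga3B.RedIdComp.exists_redIdComp G
  have hum : Mono u := Over.mono_of_mono_left u
  have hUc : IsCommMonObj U := isCommMonObj_of_mono u
  have hUqc : QuasiCompact U.hom := by rw [← Over.w u]; infer_instance
  let φ : G ⟶ G := ψ * (𝟙 G)⁻¹
  have hφ : IsMonHom φ := by
    have h1 : IsMonHom ((𝟙 G)⁻¹ : G ⟶ G) := inferInstance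
    refine ⟨?_, ?_⟩
    · show _ ≫ (ψ * (𝟙 G)⁻¹) = _
      rw [MonObj.comp_mul, IsMonHom.one_hom, IsMonHom.one_hom, MonObj.one_eq_one, _root_.mul_one]
    · show _ ≫ (ψ * (𝟙 G)⁻¹) = _ ≫ _
      rw [MonObj.comp_mul, IsMonHom.mul_hom, IsMonHom.mul_hom, MonObj.mul_eq_mul, MonObj.comp_mul, MonObj.comp_mul,
        MonObj.comp_mul, tensorHom_fst, tensorHom_snd, tensorHom_fst, tensorHom_snd, tensorHom_fst, tensorHom_snd,
        MonObj.comp_mul, MonObj.comp_mul, _root_.mul_mul_mul_comm]
  have hφ' : ∀ x : KP G, x ≫ φ = 1 ↔ x ≫ ψ = x := by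
    intro x
    show x ≫ (ψ * (𝟙 G)⁻¹) = 1 ↔ _
    rw [MonObj.comp_mul, GrpObj.comp_inv, Category.comp_id, mul_inv_eq_one]
  obtain ⟨N, gN, n, hn, hk⟩ := Grpsch.KerMul.exists_kernel (u ≫ φ)
  have hη : IsClosedImmersion (η[G] : 𝟙_ (Over (Spec (CommRingCat.of K))) ⟶ G).left :=
    isClosedImmersion_of_comp_eq_id G.hom _ (Over.w _)
  have hcl : IsClosedImmersion n.left :=
    MorphismProperty.of_isPullback (P := @IsClosedImmersion) (hk.map (Over.forget _)).flip hη
  have hnm : Mono n := Over.mono_of_mono_left n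
  have hNft : LocallyOfFiniteType N.hom := by
    rw [← Over.w n]; infer_instance
  have hNqc : QuasiCompact N.hom := by
    rw [← Over.w n]; infer_instance
  have hker : ∀ x : KP U, x ≫ (u ≫ φ) = 1 ↔ (x ≫ u) ≫ ψ = x ≫ u := by
    intro x
    rw [← hφ', Category.assoc]
  have hgi := geometricallyIntegral_of_smooth_connected U
  have hUi : IsIntegral U.left := GeometricallyIntegral.isIntegral_of_subsingleton U.hom
  have hUdim : topologicalKrullDim U.left ≤ 1 :=
    (u.left.isClosedEmbedding.isInducing.topologicalKrullDim_le).trans hdim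
  -- the kernel is everything
  have hN : Set.range n.left = Set.univ := by
    by_contra hne
    have h1 := Groth.Agent.S10830.result U.left (fun h => by
      rw [h] at hUdim; exact absurd (top_le_iff.1 hUdim) (by decide)) (Set.range n.left)
      n.left.isClosedEmbedding.isClosed_range hne
    have h2 : topologicalKrullDim N.left ≤ 0 := by
      have h3 : topologicalKrullDim N.left = topologicalKrullDim (Set.range n.left) :=
        n.left.isClosedEmbedding.isEmbedding.toHomeomorph.isHomeomorph.topologicalKrullDim_eq _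
      rw [h3]
      have h4 := h1.trans_le hUdim
      have h5 : topologicalKrullDim (Set.range n.left) < ((0 : ℕ) : WithBot ℕ∞) + 1 := by
        rwa [Nat.cast_zero, _root_.zero_add]
      simpa using ENat.WithBot.lt_add_one_iff.1 h5
    have hfin := finite_pts N h2
    apply h
    refine Set.Finite.subset (Set.finite_range (fun x : KP N => (x ≫ n) ≫ u)) ?_
    rintro z ⟨hz1, hz2⟩
    obtain ⟨z', hz'⟩ := exists_lift_divisible u hu5 hlp hz1
    obtain ⟨w, hw⟩ := exists_lift_ker hk z' ((hker z').2 (by rw [hz']; exact hz2))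
    exact ⟨w, by dsimp only; rw [hw, hz']⟩
  have hs : Surjective n.left := ⟨Set.range_eq_univ.1 hN⟩
  have hi : IsIso n.left := isIso_of_isClosedImmersion_of_surjective _
  have hi' : IsIso n := (isIso_iff_of_reflects_iso n (Over.forget _)).1 hi
  obtain ⟨y', hy'⟩ := exists_lift_divisible u hu5 hlp' hy
  rw [← hy', ← hker]
  have h1 : n ≫ (u ≫ φ) = 1 := by
    rw [hk.w]
    rfl
  rw [← Category.id_comp (u ≫ φ), ← IsIso.inv_hom_id n, Category.assoc, h1, MonObj.comp_one, MonObj.comp_one]

end Groth.Agent.SGA7.K566.IndOne
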