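import Mathlib.Algebra.Group.Hom.End
import Mathlib.Algebra.Group.Subgroup.Basic
import Mathlib.Tactic

/-!
# Products of a normal subgroup of level two with a level two element

`G` acts on `M`; `(s - 1)(t - 1) = 0` for `s, t` in a normal subgroup `H`, `(z - 1)² = 0`, `z^N ∈ H` and `M` is
`N`-divisible.  Then `(y z - 1)² = 0` for `y ∈ H`.
-/

set_option autoImplicit false

namespace K566.InterAlg

variable {G M : Type*} [Group G] [AddCommGroup M]

/-- `z^k x = x + k (z - 1) x` when `(z - 1)² x = 0`. -/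
lemma pow_apply (ρ : G →* AddMonoid.End M) (z : G) (x : M) (hz : ρ z (ρ z x - x) = ρ z x - x) (k : ℕ) :
    ρ (z ^ k) x = x + k • (ρ z x - x) := by
  induction k with
  | zero => simp
  | succ k ih =>
    have h1 : ρ (z ^ (k + 1)) x = ρ z (ρ (z ^ k) x) := by
      rw [pow_succ', map_mul]; rfl
    rw [h1, ih, map_add, map_nsmul, hz, succ_nsmul]
    abel

theorem sq_zero (ρ : G →* AddMonoid.End M) (H : Subgroup G) [H.Normal]
    (hH : ∀ s ∈ H, ∀ t ∈ H, ∀ x, ρ s (ρ t x - x) = ρ t x - x)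
    (z : G) (hz : ∀ x, ρ z (ρ z x - x) = ρ z x - x) (N : ℕ) (hzN : z ^ N ∈ H)
    (hdiv : ∀ x : M, ∃ y : M, N • y = x) (y : G) (hy : y ∈ H) (x : M) :
    ρ (y * z) (ρ (y * z) x - x) = ρ (y * z) x - x := by
  have hmul : ∀ (a b : G) (m : M), ρ (a * b) m = ρ a (ρ b m) := fun a b m => by
    rw [map_mul]; rfl
  -- the fixed part of `H` is stable under `z`
  let Fix : M → Prop := fun m => ∀ h ∈ H, ρ h m = m
  have hFz : ∀ m, Fix m → Fix (ρ z m) := by
    intro m hm h hh
    have h1 : z⁻¹ * h * z ∈ H := by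
      have := (‹H.Normal› : H.Normal).conj_mem h hh z⁻¹
      simpa using this
    have h2 : ρ h (ρ z m) = ρ z (ρ (z⁻¹ * h * z) m) := by
      rw [← hmul, ← hmul]
      congr 2
      group
    rw [h2, hm _ h1]
  have hFadd : ∀ m m', Fix m → Fix m' → Fix (m + m') := by
    intro m m' hm hm' h hh
    rw [map_add, hm h hh, hm' h hh]
  have hFsm : ∀ (k : ℕ) (m : M), Fix m → Fix (k • m) := by
    intro k m hm h hh
    rw [map_nsmul, hm h hh]
  have hFH : ∀ t ∈ H, ∀ m, Fix (ρ t m - m) := fun t ht m s hs => hH s hs t ht m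
  -- (a)
  have ha : ∀ m, Fix m → N • (ρ z m - m) = 0 := by
    intro m hm
    have h1 := pow_apply ρ z m (hz m) N
    rw [hm _ hzN] at h1
    exact (left_eq_add.1 h1)
  -- (b)
  have hb : ∀ m, Fix (ρ z m - m) := by
    intro m
    obtain ⟨m', rfl⟩ := hdiv m
    have h1 := pow_apply ρ z m' (hz m') N
    have h2 : ρ z (N • m') - N • m' = ρ (z ^ N) m' - m' := by
      rw [h1, map_nsmul, ← smul_sub]
      abel
    rw [h2]
    exact hFH _ hzN _
  -- (c)
  have hc : ∀ m, Fix (ρ (y * z) m - m) := by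
    intro m
    have h1 : ρ (y * z) m - m = (ρ y (ρ z m) - ρ z m) + (ρ z m - m) := by
      rw [hmul]; abel
    rw [h1]
    exact hFadd _ _ (hFH y hy _) (hb m)
  have hd : ∀ m, N • (ρ (y * z) (ρ (y * z) m - m) - (ρ (y * z) m - m)) = 0 := by
    intro m
    have h1 : ρ (y * z) (ρ (y * z) m - m) = ρ z (ρ (y * z) m - m) := by
      rw [hmul y z (ρ (y * z) m - m)]
      exact hFz _ (hc m) y hy
    rw [h1]
    exact ha _ (hc m)
  obtain ⟨x', rfl⟩ := hdiv x
  rw [← sub_eq_zero]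
  have h1 := hd x'
  rw [← h1, map_nsmul, ← smul_sub, map_nsmul, ← smul_sub]

end K566.InterAlg
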