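import Groth.Agent.Sga7.H753.NerField
import Groth.Agent.SGA7.K566.IndOne
import Groth.Agent.Sga7.H620.DimSmooth
import Groth.Agent.Sga7.H750.NeronMain

/-!
# Inertia elements fixing infinitely many torsion points of an elliptic curve

`step1`: for an abelian variety `A` of dimension at most one: if the inertia element `σ` fixes infinitely many points in
the divisible part of the `ℓ`-power torsion fixed by the inertia elements over `K₁ = Knr E W`, then it fixes
the corresponding divisible part for any `ℓ'`.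
-/

set_option autoImplicit false
set_option linter.unusedSectionVars false

universe u

open CategoryTheory CategoryTheory.Limits MonoidalCategory CartesianMonoidalCategory AlgebraicGeometry MonObj

namespace Groth.Agent.SGA7.K566.NerOne

open Groth.Agent.Sga7.H753.NerTwist Groth.Agent.Sga7.H753.BaseExt Groth.Agent.Sga3B.BcPts
open Groth.Agent.Sga7.H753.NerHom Groth.Agent.Sga7.H753.NerPsi Groth.Agent.Sga7.H753.NerPts
open Groth.Agent.Sga7.H753.NerDict Groth.Agent.Sga7.H753.NerFix
open Groth.Agent.Sga67 Groth.Agent.Sga7.H755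
open Groth.Agent.Sga7.H753.NerGeo

section geo

variable {k K R Ω : Type u} [Field k] [Field K] [Algebra k K] [CommRing R] [IsDomain R]
  [IsDiscreteValuationRing R] [HenselianLocalRing R] [Algebra R K] [IsFractionRing R K]
  [Field Ω] [Algebra k Ω] [Algebra K Ω] [IsScalarTower k K Ω] [Algebra R Ω] [IsScalarTower R K Ω]
  [IsGalois K Ω]
  {W : ValuationSubring Ω} [Algebra R W] [IsScalarTower R W Ω]
  {N : Over (Spec (CommRingCat.of R))} {A : Over (Spec (CommRingCat.of k))}
  [GrpObj N] [GrpObj A] (e : (SGA7.genFib R K).obj N ≅ Red.bc (fKL k K) A) [IsMonHom e.hom]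

include e

theorem geo [HenselianLocalRing W] [IsCommMonObj A] [IsCommMonObj N]
    (hW : SGA7.LiesOver K R W) (hN : SGA7.IsNeron R K N)
    {ℓ ℓ' : ℕ} (hℓ : IsUnit (ℓ : R)) (hℓ' : IsUnit (ℓ' : R))
    (hInd : ∀ (ψ : Red.bc (qm R (IsLocalRing.ResidueField W)) N ⟶ Red.bc (qm R (IsLocalRing.ResidueField W)) N)
      [IsMonHom ψ], {y : 𝟙_ _ ⟶ Red.bc (qm R (IsLocalRing.ResidueField W)) N |
        InfDiv (fun _ => True) ℓ y ∧ y ≫ ψ = y}.Infinite →
      ∀ y : 𝟙_ _ ⟶ Red.bc (qm R (IsLocalRing.ResidueField W)) N, InfDiv (fun _ => True) ℓ' y → y ≫ ψ = y)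
    (σ : Ω ≃ₐ[k] Ω) (hσ : SGA7.IsInertia W σ) (s : R ≃+* R) (t : K ≃ₐ[k] K)
    (hst : ∀ r, t (algebraMap R K r) = algebraMap R K (s r))
    (hσt : ∀ x : K, σ (algebraMap K Ω (t x)) = algebraMap K Ω x)
    (h : {x : SGA7.Pts (K := k) Ω A | InfDiv (Fix K W) ℓ x ∧ SGA7.galAct σ x = x}.Infinite)
    (x : SGA7.Pts (K := k) Ω A) (hx : InfDiv (Fix K W) ℓ' x) : SGA7.galAct σ x = x := by
  have hsm : Smooth N.hom := hN.1
  have hsep : IsSeparated N.hom := hN.2.1
  have hqc : QuasiCompact N.hom := hN.2.2.1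
  obtain ⟨F, hF⟩ := exists_tw e hN s t hst
  have hunit : ∀ {p : ℕ} (j : ℕ), IsUnit (p : R) → IsUnit ((p ^ j : ℕ) : R) := by
    intro p j hp
    rw [Nat.cast_pow]
    exact hp.pow j
  -- `s` acts trivially on the residue field
  have hRW : ∀ r : R, ((algebraMap R W r : W) : Ω) = algebraMap K Ω (algebraMap R K r) := fun r => by
    rw [← IsScalarTower.algebraMap_apply R K Ω, IsScalarTower.algebraMap_apply R W Ω]
    rfl
  have hq : qm R (IsLocalRing.ResidueField W) ≫ Sga7.H753.NerTwist.sp s = qm R (IsLocalRing.ResidueField W) := by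
    rw [Sga7.H753.NerTwist.sp, qm, ← Spec.map_comp, ← CommRingCat.ofHom_comp]
    congr 2
    ext r
    show algebraMap R (IsLocalRing.ResidueField W) (s r) = algebraMap R (IsLocalRing.ResidueField W) r
    symm
    apply Ideal.Quotient.eq.2
    rw [ValuationSubring.valuation_lt_one_iff]
    have h1 := (hσ _ (algebraMap R W (s r)).2).2
    rw [hRW, ← hst, hσt, hst] at h1
    have h2 : ((algebraMap R W r - algebraMap R W (s r) : W) : Ω) =
        algebraMap K Ω (algebraMap R K r) - algebraMap K Ω (algebraMap R K (s r)) := by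
      rw [← hRW, ← hRW]
      rfl
    rw [h2]
    exact h1
  have hψ := isMonHom_psi e hN s t hst hF (qm R (IsLocalRing.ResidueField W)) hq
  -- the twist on points of the special fibre
  let tws : (spo R (IsLocalRing.ResidueField W) ⟶ N) → (spo R (IsLocalRing.ResidueField W) ⟶ N) :=
    fun y => Over.homMk (y.left ≫ F) (by
      rw [Category.assoc, hF.hom, ← Category.assoc, Over.w y]
      exact hq)
  have hE : ∀ y, E N (y ≫ psi hF.hom _ hq) = tws (E N y) := by
    intro y
    ext1
    exact E_psi hF.hom hq y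
  -- from `x` to `y`
  have toY : ∀ {p : ℕ} (_ : IsUnit (p : R)) (x : SGA7.Pts (K := k) Ω A), InfDiv (Fix K W) p x →
      ∃ y, Lift W e x y ∧ InfDiv (fun _ => True) p y := by
    intro p hp x hx
    obtain ⟨⟨n, hn⟩, z, hz0, hz⟩ := hx
    have hzt : ∀ j, z j ^ (p ^ (j + n)) = 1 := fun j => by
      rw [pow_add, pow_mul, pow_eq_of_system (fun j => (hz j).2), hz0, hn]
    choose y hzy hy using fun j => exists_lift (e := e) (x := z j) hW hN (hzt j) (hz j).1
    refine ⟨y 0, by rw [← hz0]; exact hzy 0, ⟨0 + n, hy 0⟩, y, rfl, fun j => ⟨trivial, ?_⟩⟩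
    have h2 := (hzy (j + 1)).pow p
    rw [(hz j).2] at h2
    exact h2.right_unique (hzy j)
  -- the hypothesis on the special fibre
  have hypo : {y : 𝟙_ _ ⟶ Red.bc (qm R (IsLocalRing.ResidueField W)) N |
        InfDiv (fun _ => True) ℓ y ∧ y ≫ psi hF.hom _ hq = y}.Infinite := by
    choose! f hf1 hf2 using fun (x : SGA7.Pts (K := k) Ω A) (hx : InfDiv (Fix K W) ℓ x) => toY hℓ x hx
    refine Set.infinite_of_injOn_mapsTo (f := fun x => (E N).symm (f x)) ?_ ?_ h
    · rintro x ⟨hx, -⟩ x' ⟨hx', -⟩ hxx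
      have h1 : f x = f x' := (E N).symm.injective hxx
      have h2 := hf1 x hx
      have h3 := hf1 x' hx'
      rw [← h1] at h3
      obtain ⟨n, hn⟩ := hx.1
      obtain ⟨n', hn'⟩ := hx'.1
      refine Lift.left_unique (m := ℓ ^ (n + n')) (hunit _ hℓ) ?_ ?_ h2 h3
      · rw [pow_add, pow_mul, hn, one_pow]
      · rw [_root_.add_comm, pow_add, pow_mul, hn', one_pow]
    · rintro x ⟨hx, hx2⟩
      refine ⟨(hf2 x hx).map (E N).symm.toMonoidHom (fun _ _ => trivial), ?_⟩
      apply (E N).injective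
      rw [hE, MulEquiv.apply_symm_apply]
      have h1 := Lift.galAct hF hst σ hσt hσ (y' := tws (f x)) rfl (hf1 x hx)
      rw [hx2] at h1
      exact h1.right_unique (hf1 x hx)
  have hconc := hInd (psi hF.hom _ hq) hypo
  obtain ⟨y, hxy, hy⟩ := toY hℓ' x hx
  have hy1 : InfDiv (fun _ => True) ℓ' ((E N).symm y) :=
    hy.map (E N).symm.toMonoidHom (fun _ _ => trivial)
  have h1 := hconc ((E N).symm y) hy1
  have h2 := congrArg (E N) h1
  rw [hE, MulEquiv.apply_symm_apply] at h2
  have h3 := Lift.galAct hF hst σ hσt hσ (y' := tws y) rfl hxy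
  rw [h2] at h3
  obtain ⟨n, hn⟩ := hx.1
  refine Lift.left_unique (m := ℓ' ^ n) (hunit n hℓ') ?_ hn h3 hxy
  have h4 : (SGA7.galAct σ x) ^ (ℓ' ^ n) = SGA7.galAct σ (x ^ (ℓ' ^ n)) :=
    (MonObj.comp_pow _ _ _).symm
  rw [h4, hn]
  exact MonObj.comp_one _

end geo

/-- The dimension of an isomorphic group. -/
theorem dim_eq_of_iso {k : Type u} [Field k] {X Y : Over (Spec (CommRingCat.of k))} (e : X ≅ Y) :
    topologicalKrullDim X.left = topologicalKrullDim Y.left :=
  IsHomeomorph.topologicalKrullDim_eq _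
    (Scheme.homeoOfIso ((Over.forget _).mapIso e)).isHomeomorph

/-- The dimension of the special fibre. -/
theorem dim_le (R K k : Type u) [CommRing R] [IsDomain R] [IsDiscreteValuationRing R]
    [Field K] [Algebra R K] [IsFractionRing R K] [Field k] [Algebra k K]
    (A : Over (Spec (CommRingCat.of k))) [GrpObj A] [Smooth A.hom] (hA : topologicalKrullDim A.left ≤ 1)
    (N : Over (Spec (CommRingCat.of R))) [GrpObj N] [Smooth N.hom]
    (e : (SGA7.genFib R K).obj N ≅ Red.bc (fKL k K) A) (F : Type u) [Field F]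
    (t : Spec (CommRingCat.of F) ⟶ Spec (CommRingCat.of R)) : topologicalKrullDim (Red.bc t N).left ≤ 1 := by
  obtain ⟨n, hn⟩ := Sga7.H620.DimSmooth.exists_dim N
  obtain ⟨m, hm⟩ := Sga7.H620.DimSmooth.exists_dim A
  have h1 : topologicalKrullDim A.left = m := by
    rw [← hm k (𝟙 _)]
    exact (dim_eq_of_iso (X := Red.bc (𝟙 _) A) (Over.pullbackId.app A)).symm
  have h2 : topologicalKrullDim ((SGA7.genFib R K).obj N).left = n := hn K _
  rw [dim_eq_of_iso e, hm K _] at h2
  rw [hn F t, ← h2, ← h1]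
  exact hA

/-- `geo` for a Néron model of `A_K` over a strictly henselian discrete valuation ring. -/
theorem geo' (R K k Ω : Type u) [CommRing R] [IsDomain R] [IsDiscreteValuationRing R]
    [HenselianLocalRing R] [Field K] [Algebra R K] [IsFractionRing R K] [Field k] [Algebra k K]
    [Field Ω] [Algebra k Ω] [Algebra K Ω] [IsScalarTower k K Ω] [IsSepClosure K Ω]
    (W : ValuationSubring Ω) (hW : SGA7.LiesOver K R W) [IsAlgClosed (IsLocalRing.ResidueField W)]
    (A : Over (Spec (CommRingCat.of k))) [GrpObj A] [IsCommMonObj A] [Smooth A.hom]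
    (hA : topologicalKrullDim A.left ≤ 1)
    (N : Over (Spec (CommRingCat.of R))) [GrpObj N] (hN : SGA7.IsNeron R K N)
    (e : (SGA7.genFib R K).obj N ≅ Red.bc (fKL k K) A) (he : IsMonHom e.hom)
    {ℓ ℓ' : ℕ} (hℓ : (ℓ : IsLocalRing.ResidueField R) ≠ 0) (hℓ' : (ℓ' : IsLocalRing.ResidueField R) ≠ 0)
    (hlp : ℓ.Prime) (hlp' : ℓ'.Prime)
    (σ : Ω ≃ₐ[k] Ω) (hσ : SGA7.IsInertia W σ) (s : R ≃+* R) (t : K ≃ₐ[k] K)
    (hst : ∀ r, t (algebraMap R K r) = algebraMap R K (s r))
    (hσt : ∀ x : K, σ (algebraMap K Ω (t x)) = algebraMap K Ω x)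
    (h : {x : SGA7.Pts (K := k) Ω A | InfDiv (Fix K W) ℓ x ∧ SGA7.galAct σ x = x}.Infinite)
    (x : SGA7.Pts (K := k) Ω A) (hx : InfDiv (Fix K W) ℓ' x) : SGA7.galAct σ x = x := by
  let _ : Algebra R Ω := ((algebraMap K Ω).comp (algebraMap R K)).toAlgebra
  have : IsScalarTower R K Ω := IsScalarTower.of_algebraMap_eq (fun _ => rfl)
  let _ : Algebra R W := (((algebraMap K Ω).comp (algebraMap R K)).codRestrict W.toSubring hW.1).toAlgebra
  have : IsScalarTower R W Ω := IsScalarTower.of_algebraMap_eq (fun _ => rfl)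
  have : IsGalois K Ω := IsSepClosure.isGalois
  have : IsSepClosed Ω := IsSepClosure.sep_closed K
  have hWh : HenselianLocalRing W := (Sga7.H481.InertiaField.strictlyHenselian_valuationSubring W).1
  have hunit : ∀ {m : ℕ}, (m : IsLocalRing.ResidueField R) ≠ 0 → IsUnit (m : R) := by
    intro m hm
    by_contra hcon
    apply hm
    have : IsLocalRing.residue R (m : R) = 0 := (IsLocalRing.residue_eq_zero_iff _).2 hcon
    rwa [map_natCast] at this
  -- commutativity of the generic fibre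
  have hc1 : IsCommMonObj (Red.bc (fKL k K) A) :=
    inferInstanceAs (IsCommMonObj ((Over.pullback (fKL k K)).obj A))
  have hcomm : ∀ (T : Over (Spec (CommRingCat.of K))) (a b : T ⟶ (SGA7.genFib R K).obj N), a * b = b * a := by
    intro T a b
    have h1 : (a * b) ≫ e.hom = (b * a) ≫ e.hom := by
      rw [MonObj.mul_comp, MonObj.mul_comp, mul_comm]
    exact (cancel_mono e.hom).1 h1
  have hc2 : IsCommMonObj ((SGA7.genFib R K).obj N) := by
    refine ⟨?_⟩
    rw [mul_eq_mul, MonObj.comp_mul, hcomm]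
    congr 1
    · simp
    · simp
  have hc3 : IsCommMonObj N := isCommMonObj N hN
  have hsm : Smooth N.hom := hN.1
  have hsep : IsSeparated N.hom := hN.2.1
  have hqc : QuasiCompact N.hom := hN.2.2.1
  have i1 : Smooth (Red.bc (qm R (IsLocalRing.ResidueField W)) N).hom :=
    inferInstanceAs (Smooth (pullback.snd N.hom (qm R (IsLocalRing.ResidueField W))))
  have i2 : IsSeparated (Red.bc (qm R (IsLocalRing.ResidueField W)) N).hom :=
    inferInstanceAs (IsSeparated (pullback.snd N.hom (qm R (IsLocalRing.ResidueField W))))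
  have i3 : QuasiCompact (Red.bc (qm R (IsLocalRing.ResidueField W)) N).hom :=
    inferInstanceAs (QuasiCompact (pullback.snd N.hom (qm R (IsLocalRing.ResidueField W))))
  have i4 : IsCommMonObj (Red.bc (qm R (IsLocalRing.ResidueField W)) N) :=
    inferInstanceAs (IsCommMonObj ((Over.pullback (qm R (IsLocalRing.ResidueField W))).obj N))
  exact geo e hW hN (hunit hℓ) (hunit hℓ') (fun ψ _ h => IndOne.ind1 _
    (dim_le R K k A hA N e _ _) ψ hlp hlp' h) σ hσ s t hst hσt h x hx

open Groth.Agent.Sga7.H753.Core Groth.Agent.Sga7.H753.Wild Groth.Agent.Sga7.H753.NerField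
open Groth.Agent.Sga7.H481 Groth.Agent.Sga7.H753

/-- The geometric input at a finite Galois level. -/
theorem step1 (R K Ω : Type u) [CommRing R] [IsDomain R] [IsDiscreteValuationRing R] [Field K]
    [Algebra R K] [IsFractionRing R K] [Field Ω] [Algebra K Ω] [IsSepClosure K Ω]
    (W : ValuationSubring Ω) (hW : SGA7.LiesOver K R W)
    (ℓ ℓ' : ℕ) (hℓ : ℓ.Prime) (hℓ' : ℓ'.Prime) (hℓp : (ℓ : IsLocalRing.ResidueField R) ≠ 0)
    (hℓ'p : (ℓ' : IsLocalRing.ResidueField R) ≠ 0)
    (A : Over (Spec (CommRingCat.of K))) [GrpObj A] [IsProper A.hom] [GeometricallyIntegral A.hom]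
    (hA : topologicalKrullDim A.left ≤ 1)
    (E : IntermediateField K Ω) [FiniteDimensional K E] [Normal K E]
    (σ : Ω ≃ₐ[K] Ω) (hσ : SGA7.IsInertia W σ)
    (h : {x : SGA7.Pts (K := K) Ω A | InfDiv (Fix (K₁ W E) W) ℓ x ∧ SGA7.galAct σ x = x}.Infinite)
    (x : SGA7.Pts (K := K) Ω A) (hx : InfDiv (Fix (K₁ W E) W) ℓ' x) : SGA7.galAct σ x = x := by
  have hAc : IsCommMonObj A := isCommMonObj_of_isProper_of_geometricallyIntegral A
  have hv := Core.val_natCast W hW hℓp
  have hv' := Core.val_natCast W hW hℓ'p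
  have hdvr := isDVR_tr (R := R) W E hW
  have hsep : IsSepClosure E Ω := ⟨IsSepClosure.sep_closed K, Algebra.isSeparable_tower_top_of_isSeparable K E Ω⟩
  have hLO := liesOver_tr W E
  have hdvr1 : IsDiscreteValuationRing (R₁ W E) := InertiaField.isDiscreteValuationRing_Rnr hLO
  have hstr : EtCoh.IsStrictlyHenselianLocalRing (R₁ W E) :=
    InertiaField.isStrictlyHenselianLocalRing_Rnr hLO
  have hh1 : HenselianLocalRing (R₁ W E) := hstr.1
  have hh2 : IsSepClosed (IsLocalRing.ResidueField (R₁ W E)) := hstr.2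
  have hLO1 : SGA7.LiesOver (K₁ W E) (R₁ W E) W := InertiaField.liesOver_Rnr E W
  have hsep1 : IsSepClosure (K₁ W E) Ω := InertiaField.isSepClosure_Knr E W
  have hsc : IsSepClosed Ω := IsSepClosure.sep_closed K
  have hres : ∀ {p : ℕ}, W.valuation (p : Ω) = 1 → (p : IsLocalRing.ResidueField (R₁ W E)) ≠ 0 := by
    intro p hp h0
    rw [← map_natCast (IsLocalRing.residue (R₁ W E)), IsLocalRing.residue_eq_zero_iff] at h0
    have h1 := hLO1.2 _ h0
    rw [map_natCast, map_natCast, hp] at h1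
    exact lt_irrefl _ h1
  -- the residue field of `W`
  have hκ : IsAlgClosed (IsLocalRing.ResidueField W) := isAlgClosed_residueField W (by
    obtain ⟨ϖ, hϖ⟩ := IsDiscreteValuationRing.exists_irreducible R
    intro h0
    have h1 := hW.2 ϖ hϖ.not_isUnit
    have h2 : (⟨algebraMap K Ω (algebraMap R K ϖ), hW.1 ϖ⟩ : W) ∈ IsLocalRing.maximalIdeal W :=
      (ValuationSubring.valuation_lt_one_iff _ _).2 h1
    rw [h0, Ideal.mem_bot] at h2
    have h3 : algebraMap K Ω (algebraMap R K ϖ) = 0 := congrArg Subtype.val h2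
    rw [map_eq_zero_iff _ (algebraMap K Ω).injective, map_eq_zero_iff _ (IsFractionRing.injective R K)] at h3
    exact hϖ.ne_zero h3)
  -- the abelian variety over `K₁`
  have hP : IsProper (Red.bc (fKL K (K₁ W E)) A).hom :=
    inferInstanceAs (IsProper (pullback.snd A.hom (fKL K (K₁ W E))))
  have hG : GeometricallyIntegral (Red.bc (fKL K (K₁ W E)) A).hom :=
    inferInstanceAs (GeometricallyIntegral (pullback.snd A.hom (fKL K (K₁ W E))))
  have htow : IsScalarTower K (K₁ W E) Ω := IsScalarTower.of_algebraMap_eq (fun _ => rfl)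
  have hAg : GrpObj (Over.mk A.hom) := inferInstanceAs (GrpObj A)
  have hAsm : Smooth A.hom := smooth_of_grpObj A.hom
  obtain ⟨N, _, e, he, hN⟩ := Sga7.H750.NeronMain.neAll (R₁ W E) (K₁ W E) (Red.bc (fKL K (K₁ W E)) A)
  exact geo' (R₁ W E) (K₁ W E) K Ω W hLO1 A hA N hN e he (hres hv) (hres hv') hℓ hℓ'
    σ hσ (sR E hσ) (tK E hσ) (fun _ => rfl)
    (fun x => σ.apply_symm_apply _) h x hx

end Groth.Agent.SGA7.K566.NerOne
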