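import Groth.Agent.SGA7.K566.DomRoot
import Groth.Agent.Sga7.H733.LevelTwoAlg
import Mathlib.Algebra.Ring.Subring.Basic
import Mathlib.RingTheory.Nilpotent.Lemmas
import Mathlib.RingTheory.Ideal.Quotient.Basic

/-!
# Quasi-unipotent endomorphisms of a divisible `ℓ`-power torsion group, `(s - 1)² = 0` on the `n`-torsion
-/

set_option autoImplicit false
universe v

namespace K566.QUnip

open Groth.Agent.Sga7.H733.LevelTwoAlg

section Bic

variable {E : Type v} [Ring E]

/-- the bicommutant of an element. -/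
def bic (s : E) : Subring E := Subring.centralizer (Set.centralizer {s})

lemma mem_bic {s a : E} : a ∈ bic s ↔ ∀ b, Commute b s → Commute b a := by
  constructor
  · intro h b hb
    refine (Subring.mem_centralizer_iff.1 h) b ?_
    rw [Set.mem_centralizer_iff]
    intro m hm
    rw [Set.mem_singleton_iff] at hm
    subst hm
    exact hb.symm.eq
  · intro h
    refine Subring.mem_centralizer_iff.2 fun b hb => ?_
    rw [Set.mem_centralizer_iff] at hb
    exact (h b (hb s rfl).symm).eq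

lemma self_mem_bic (s : E) : s ∈ bic s := mem_bic.2 fun _ hb => hb

lemma bic_comm {s a b : E} (ha : a ∈ bic s) (hb : b ∈ bic s) : a * b = b * a := by
  have h1 : Commute s a := (mem_bic.1 ha) s (Commute.refl s)
  exact ((mem_bic.1 hb) a h1.symm).eq

instance bicComm (s : E) : CommRing (bic s) :=
  { (inferInstance : Ring (bic s)) with
    mul_comm := fun a b => Subtype.ext (bic_comm a.2 b.2) }

/-- A power of `s` is unipotent as soon as this holds for roots of unity in domains in which `ℓ` is not a unit. -/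
theorem isNilpotent_pow_sub_one {l : ℕ}
    (hjac : ∀ a : E, ∃ w : E, w * (1 + (l : E) * a) = 1 ∧ (1 + (l : E) * a) * w = 1 ∧
      ∀ b, Commute b a → Commute b w)
    (s u : E) (n : ℕ) (hsu : (s - 1) ^ 2 = n * u) (hu : ∀ b, Commute b s → Commute b u)
    {N : ℕ} (hs : IsNilpotent (s ^ N - 1)) (j : ℕ)
    (hdom : ∀ (B : Type v) [CommRing B] [IsDomain B] (ζ : B), ¬ IsUnit (l : B) → ζ ^ N = 1 →
      (n : B) ∣ (ζ - 1) ^ 2 → ζ ^ j = 1) :
    IsNilpotent (s ^ j - 1) := by
  let s' : bic s := ⟨s, self_mem_bic s⟩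
  let u' : bic s := ⟨u, mem_bic.2 hu⟩
  suffices h : IsNilpotent (s' ^ j - 1) by
    have h2 := h.map (bic s).subtype
    simpa [s'] using h2
  have hs' : IsNilpotent (s' ^ N - 1) := by
    obtain ⟨k, hk⟩ := hs
    refine ⟨k, Subtype.ext ?_⟩
    simpa [s'] using hk
  rw [nilpotent_iff_mem_prime]
  intro P hP
  haveI := hP
  have hl : ¬ IsUnit (l : bic s ⧸ P) := by
    intro hunit
    obtain ⟨a', ha'⟩ := hunit.exists_right_inv
    obtain ⟨a, rfl⟩ := Ideal.Quotient.mk_surjective a'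
    have h1 : (1 : bic s) + (l : bic s) * (-a) ∈ P := by
      rw [← Ideal.Quotient.eq_zero_iff_mem, map_add, map_mul, map_natCast, map_one, map_neg,
        mul_neg, ha', add_neg_cancel]
    obtain ⟨w, hw1, hw2, hw3⟩ := hjac ((-a : bic s) : E)
    have hw : w ∈ bic s := mem_bic.2 fun b hb => hw3 b ((mem_bic.1 (-a : bic s).2) b hb)
    have h2 : (⟨w, hw⟩ : bic s) * (1 + (l : bic s) * (-a)) = 1 := by
      apply Subtype.ext
      simpa using hw1
    exact hP.ne_top ((Ideal.eq_top_iff_one P).2 (h2 ▸ P.mul_mem_left _ h1))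
  have hζ : (Ideal.Quotient.mk P s') ^ N = 1 := by
    have h1 := nilpotent_iff_mem_prime.1 hs' P hP
    rw [← Ideal.Quotient.eq_zero_iff_mem, map_sub, map_pow, map_one, sub_eq_zero] at h1
    exact h1
  have hd : ((n : bic s ⧸ P)) ∣ (Ideal.Quotient.mk P s' - 1) ^ 2 := by
    refine ⟨Ideal.Quotient.mk P u', ?_⟩
    have h1 : (s' - 1) ^ 2 = (n : bic s) * u' := by
      apply Subtype.ext
      simpa [s', u'] using hsu
    have h2 := congrArg (Ideal.Quotient.mk P) h1
    simpa using h2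
  have h1 := hdom (bic s ⧸ P) (Ideal.Quotient.mk P s') hl hζ hd
  rw [← Ideal.Quotient.eq_zero_iff_mem, map_sub, map_pow, map_one, h1, sub_self]

end Bic

section End

variable {M : Type v} [AddCommGroup M]

/-- an endomorphism killing the `q`-torsion of a divisible group is divisible by `q`. -/
lemma exists_eq_nat_mul {l q : ℕ} (hl : l.Prime) (hq0 : q ≠ 0) (h : TorsDiv M l) (f : AddMonoid.End M)
    (hs : ∀ x : M, q • x = 0 → f x = 0) :
    ∃ u : AddMonoid.End M, f = (q : AddMonoid.End M) * u ∧ ∀ b, Commute b f → Commute b u := by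
  have hdiv : ∀ x : M, ∃ y : M, q • y = x := fun x => h.div_nat hl hq0 x
  choose g hg using hdiv
  have key : ∀ x y : M, q • x = q • y → f x = f y := by
    intro x y hxy
    rw [← sub_eq_zero, ← map_sub]
    exact hs _ (by rw [smul_sub, hxy, sub_self])
  let u : AddMonoid.End M :=
    { toFun := fun x => f (g x)
      map_zero' := by
        have : f (g 0) = f 0 := key _ _ (by rw [hg, smul_zero])
        rw [this, map_zero]
      map_add' := by
        intro x y
        have : f (g (x + y)) = f (g x + g y) := key _ _ (by rw [hg, smul_add, hg, hg])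
        rw [this, map_add] }
  have hqx : ∀ x : M, (q : AddMonoid.End M) x = q • x := fun x => by
    rw [← mul_one (q : AddMonoid.End M), ← nsmul_eq_mul]; rfl
  have hc : (q : AddMonoid.End M) * u = u * (q : AddMonoid.End M) := (Nat.cast_commute q u).eq
  have h1 : u * (q : AddMonoid.End M) = f := by
    ext x
    change f (g ((q : AddMonoid.End M) x)) = f x
    rw [hqx]
    exact key _ _ (hg _)
  refine ⟨u, by rw [hc, h1], fun b hb => ?_⟩
  -- `b u q = u b q`
  have h2 : b * u * (q : AddMonoid.End M) = u * b * (q : AddMonoid.End M) := by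
    rw [mul_assoc, h1, mul_assoc, ← (Nat.cast_commute q b).eq, ← mul_assoc, h1]
    exact hb.eq
  change b * u = u * b
  ext x
  obtain ⟨y, hy⟩ := h.div_nat hl hq0 x
  have h3 := congrArg (fun φ : AddMonoid.End M => φ y) h2
  have h4 : ∀ φ : AddMonoid.End M, (φ * (q : AddMonoid.End M)) y = φ x := by
    intro φ
    change φ ((q : AddMonoid.End M) y) = φ x
    rw [hqx, hy]
  simp only [h4] at h3
  exact h3

/-- general form -/
theorem isNilpotent_of_sq {l n : ℕ} (hl : l.Prime) (hn : n ≠ 0) (h : TorsDiv M l) (s : AddMonoid.End M)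
    (hs : ∀ x : M, n • x = 0 → ((s - 1) ^ 2 : AddMonoid.End M) x = 0)
    {N : ℕ} (hN : IsNilpotent (s ^ N - 1)) (j : ℕ)
    (hdom : ∀ (B : Type v) [CommRing B] [IsDomain B] (ζ : B), ¬ IsUnit (l : B) → ζ ^ N = 1 →
      (n : B) ∣ (ζ - 1) ^ 2 → ζ ^ j = 1) :
    IsNilpotent (s ^ j - 1) := by
  obtain ⟨u, hu, hcu⟩ := exists_eq_nat_mul hl hn h ((s - 1) ^ 2) hs
  refine isNilpotent_pow_sub_one (exists_inv_one_add h) s u n hu (fun b hb => hcu b ?_) hN j hdom
  exact (hb.sub_right (Commute.one_right b)).pow_right 2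

theorem isNilpotent_two (h : TorsDiv M 2) (s : AddMonoid.End M)
    (hs : ∀ x : M, 2 • x = 0 → ((s - 1) ^ 2 : AddMonoid.End M) x = 0)
    {N : ℕ} (hN0 : 0 < N) (hN : IsNilpotent (s ^ N - 1)) : IsNilpotent (s ^ 4 - 1) :=
  isNilpotent_of_sq Nat.prime_two two_ne_zero h s hs hN 4 fun _ _ _ _ h1 h2 h3 =>
    DomRoot.pow_four_of_two h1 hN0 h2 h3

theorem isNilpotent_three (h : TorsDiv M 3) (s : AddMonoid.End M)
    (hs : ∀ x : M, 3 • x = 0 → ((s - 1) ^ 2 : AddMonoid.End M) x = 0)
    {N : ℕ} (hN0 : 0 < N) (hN : IsNilpotent (s ^ N - 1)) : IsNilpotent (s ^ 3 - 1) :=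
  isNilpotent_of_sq Nat.prime_three three_ne_zero h s hs hN 3 fun _ _ _ _ h1 h2 h3 =>
    DomRoot.pow_three_of_three h1 hN0 h2 h3

theorem isNilpotent_four (h : TorsDiv M 2) (s : AddMonoid.End M)
    (hs : ∀ x : M, 4 • x = 0 → ((s - 1) ^ 2 : AddMonoid.End M) x = 0)
    {N : ℕ} (hN0 : 0 < N) (hN : IsNilpotent (s ^ N - 1)) : IsNilpotent (s ^ 2 - 1) :=
  isNilpotent_of_sq Nat.prime_two four_ne_zero h s hs hN 2 fun _ _ _ _ h1 h2 h3 =>
    DomRoot.pow_two_of_four h1 hN0 h2 h3

theorem isNilpotent_ge_five {l m : ℕ} (hl : l.Prime) (h5 : 5 ≤ l ^ m) (h : TorsDiv M l)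
    (s : AddMonoid.End M)
    (hs : ∀ x : M, (l ^ m) • x = 0 → ((s - 1) ^ 2 : AddMonoid.End M) x = 0)
    {N : ℕ} (hN0 : 0 < N) (hN : IsNilpotent (s ^ N - 1)) : IsNilpotent (s ^ 1 - 1) :=
  isNilpotent_of_sq hl (pow_ne_zero m hl.ne_zero) h s hs hN 1 fun _ _ _ _ h1 h2 h3 => by
    rw [pow_one]; exact DomRoot.eq_one_of_prime_pow hl h5 h1 hN0 h2 h3

/-- `s⁴` and `s³` unipotent imply `s` unipotent. -/
lemma isNilpotent_of_four_three {E : Type v} [Ring E] (s : E) (h4 : IsNilpotent (s ^ 4 - 1))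
    (h3 : IsNilpotent (s ^ 3 - 1)) : IsNilpotent (s ^ 1 - 1) := by
  have e : s ^ 1 - 1 = (s ^ 4 - 1) - s * (s ^ 3 - 1) := by noncomm_ring
  have hc : Commute s (s ^ 3 - 1) := (Commute.refl s).pow_right 3 |>.sub_right (Commute.one_right s)
  have hc4 : Commute s (s ^ 4 - 1) := (Commute.refl s).pow_right 4 |>.sub_right (Commute.one_right s)
  have h1 : IsNilpotent (s * (s ^ 3 - 1)) := hc.isNilpotent_mul_left h3
  rw [e]
  refine Commute.isNilpotent_sub ?_ h4 h1
  refine Commute.mul_right hc4.symm ?_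
  have : Commute (s ^ 4) (s ^ 3) := (Commute.refl s).pow_pow 4 3
  exact (this.sub_right (Commute.one_right _)).sub_left (Commute.one_left _)

/-- a unipotent endomorphism of finite order of a divisible torsion group is the identity. -/
lemma eq_one_of_unip {l : ℕ} (hl : l.Prime) (h : TorsDiv M l) (s : AddMonoid.End M)
    (hs : IsNilpotent (s - 1)) {N : ℕ} (hN : 0 < N) (hsN : s ^ N = 1) : s = 1 := by
  obtain ⟨k, hk⟩ := hs
  obtain ⟨w, hw, -, h2⟩ := exists_pow_sub_one_of_unip s hk hN.ne'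
  rw [hsN, sub_self] at h2
  have h1 : QInv (1 : AddMonoid.End M) := ⟨1, 1, one_ne_zero, by simp, by simp⟩
  have h3 := eq_zero_of_qinv hl h hw h1 (e := s - 1) (by rw [← h2, zero_mul])
  exact sub_eq_zero.1 h3

end End

end K566.QUnip
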