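import Groth.Agent.SGA7.K566.VersalLift
import Mathlib.RingTheory.HopkinsLevitzki
import Mathlib.RingTheory.Nakayama
import Mathlib.RingTheory.Polynomial.Basic
import Mathlib.Algebra.MvPolynomial.Eval

/-!
# Presenting an Artinian object by a polynomial ring in the minimal number of variables
-/

set_option autoImplicit false

universe u v

open CategoryTheory ArtFun ArtFun.Art K565.ArtTools IsLocalRing

namespace K566.Semismall

variable {Λ k : Type u} [CommRing Λ] [IsLocalRing Λ] [IsNoetherianRing Λ] [Field k] [Algebra Λ k]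

/-- The ideal `m_R² + m_Λ R`. -/
noncomputable def NN (Λ : Type u) [CommRing Λ] [IsLocalRing Λ] (A : Type u) [CommRing A] [Algebra Λ A] (m : Ideal A) : Ideal A :=
  m ^ 2 ⊔ (maximalIdeal Λ).map (algebraMap Λ A)

theorem mem_maximalIdeal_iff_algebraMap (hk : Function.Surjective (algebraMap Λ k)) (l : Λ) :
    l ∈ maximalIdeal Λ ↔ algebraMap Λ k l = 0 := by
  have hmax : (RingHom.ker (algebraMap Λ k)).IsMaximal := RingHom.ker_isMaximal_of_surjective _ hk
  rw [← IsLocalRing.eq_maximalIdeal hmax, RingHom.mem_ker]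

theorem NN_le (hk : Function.Surjective (algebraMap Λ k)) (R : Art Λ k) {y : R}
    (hy : y ∈ NN Λ R (maximalIdeal R)) : R.res y = 0 := by
  have h : NN Λ R (maximalIdeal R) ≤ maximalIdeal R := by
    refine sup_le (Ideal.pow_le_self two_ne_zero) ?_
    rw [Ideal.map_le_iff_le_comap]
    intro l hl
    rw [Ideal.mem_comap, Art.mem_maximalIdeal_iff, AlgHom.commutes]
    exact (mem_maximalIdeal_iff_algebraMap hk l).1 hl
  exact (Art.mem_maximalIdeal_iff R y).1 (h hy)

/-- A minimal set of generators of the maximal ideal modulo `m_R² + m_Λ R`. -/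
theorem exists_gens (hk : Function.Surjective (algebraMap Λ k)) (R : Art Λ k) :
    ∃ s : Finset R, (∀ x ∈ s, R.res x = 0) ∧
      (∀ y : R, R.res y = 0 →
        y ∈ Submodule.span Λ (s : Set R) ⊔ (NN Λ R (maximalIdeal R)).restrictScalars Λ) ∧
      ∀ c : R → Λ, ∑ x ∈ s, c x • x ∈ NN Λ R (maximalIdeal R) → ∀ x ∈ s, c x ∈ maximalIdeal Λ := by
  classical
  have hN : IsNoetherian Λ R := (isArtinian hk R).2
  let P : Finset R → Prop := fun s => (∀ x ∈ s, R.res x = 0) ∧
      (∀ y : R, R.res y = 0 →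
        y ∈ Submodule.span Λ (s : Set R) ⊔ (NN Λ R (maximalIdeal R)).restrictScalars Λ)
  have hex : ∃ n : ℕ, ∃ s : Finset R, s.card = n ∧ P s := by
    obtain ⟨s, hs⟩ := hN.noetherian ((maximalIdeal R).restrictScalars Λ)
    refine ⟨_, s, rfl, ?_, ?_⟩
    · intro x hx
      have : x ∈ (maximalIdeal R).restrictScalars Λ := by
        rw [← hs]
        exact Submodule.subset_span hx
      exact (Art.mem_maximalIdeal_iff R x).1 this
    · intro y hy
      apply Submodule.mem_sup_left
      rw [hs]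
      exact (Art.mem_maximalIdeal_iff R y).2 hy
  obtain ⟨s, hs, h1, h2⟩ := Nat.find_spec hex
  refine ⟨s, h1, h2, ?_⟩
  intro c hc x hx
  by_contra hu
  have hu' : IsUnit (c x) := by
    by_contra h
    exact hu ((mem_maximalIdeal _).2 h)
  obtain ⟨w, hw⟩ := hu'.exists_left_inv
  have hxmem : x ∈ Submodule.span Λ ((s.erase x : Finset R) : Set R) ⊔
      (NN Λ R (maximalIdeal R)).restrictScalars Λ := by
    have h3 : x = -(w • ∑ y ∈ s.erase x, c y • y) + w • ∑ y ∈ s, c y • y := by
      rw [← Finset.add_sum_erase s _ hx, smul_add, smul_smul, hw, one_smul]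
      abel
    have h3' : -(w • ∑ y ∈ s.erase x, c y • y) + w • ∑ y ∈ s, c y • y ∈
        Submodule.span Λ ((s.erase x : Finset R) : Set R) ⊔ (NN Λ R (maximalIdeal R)).restrictScalars Λ := by
      refine Submodule.add_mem_sup ?_ ?_
      · refine Submodule.neg_mem _ (Submodule.smul_mem _ _ (Submodule.sum_mem _ fun y hy => ?_))
        exact Submodule.smul_mem _ _ (Submodule.subset_span hy)
      · exact Submodule.smul_mem _ _ hc
    rw [← h3] at h3'
    exact h3'
  have hP : P (s.erase x) := by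
    refine ⟨fun y hy => h1 y (Finset.mem_of_mem_erase hy), fun y hy => ?_⟩
    have h4 : Submodule.span Λ (s : Set R) ⊔ (NN Λ R (maximalIdeal R)).restrictScalars Λ ≤
        Submodule.span Λ ((s.erase x : Finset R) : Set R) ⊔ (NN Λ R (maximalIdeal R)).restrictScalars Λ := by
      refine sup_le (Submodule.span_le.2 fun z hz => ?_) le_sup_right
      by_cases hzx : z = x
      · rw [hzx]; exact hxmem
      · exact Submodule.mem_sup_left (Submodule.subset_span (Finset.mem_erase.2 ⟨hzx, hz⟩))
    exact h4 (h2 y hy)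
  have hlt : (s.erase x).card < Nat.find hex := by
    rw [← hs]
    exact Finset.card_erase_lt_of_mem hx
  exact Nat.find_min hex hlt ⟨_, rfl, hP⟩

/-- A subalgebra containing generators of `m_R` modulo `m_R² + m_Λ R` is everything. -/
theorem eq_top_of_gens (hk : Function.Surjective (algebraMap Λ k)) (R : Art Λ k) (S : Subalgebra Λ R)
    (s : Set R) (hs : s ⊆ S) (h1 : ∀ x ∈ s, R.res x = 0)
    (h2 : ∀ y : R, R.res y = 0 →
        y ∈ Submodule.span Λ s ⊔ (NN Λ R (maximalIdeal R)).restrictScalars Λ) (y : R) : y ∈ S := by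
  set m := maximalIdeal R with hm
  set L := (maximalIdeal Λ).map (algebraMap Λ R) with hL
  have hspan : Submodule.span Λ s ≤ Subalgebra.toSubmodule S := Submodule.span_le.2 hs
  have hspan' : Submodule.span Λ s ≤ m.restrictScalars Λ := Submodule.span_le.2 fun x hx =>
    (Art.mem_maximalIdeal_iff R x).2 (h1 x hx)
  have key : ∀ i : ℕ, ∀ y ∈ m ^ i, ∃ t ∈ S, t ∈ m ^ i ∧ y - t ∈ m ^ (i + 1) ⊔ L := by
    intro i
    induction i with
    | zero =>
      intro y _
      obtain ⟨l, hl⟩ := exists_sub_mem hk R y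
      refine ⟨algebraMap Λ R l, S.algebraMap_mem l, by simp, ?_⟩
      rw [zero_add, pow_one]
      exact Ideal.mem_sup_left hl
    | succ i ih =>
      intro y hy
      rw [pow_succ] at hy
      induction hy using Submodule.mul_induction_on' with
      | mem_mul_mem u hu v hv =>
        obtain ⟨t, htS, htm, htd⟩ := ih u hu
        obtain ⟨t', ht', r', hr', htr⟩ := Submodule.mem_sup.1 (h2 v ((Art.mem_maximalIdeal_iff R v).1 hv))
        have ht'm : t' ∈ m := hspan' ht'
        have hr'' : r' ∈ m ^ 2 ⊔ L := hr'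
        refine ⟨t * t', S.mul_mem htS (hspan ht'), ?_, ?_⟩
        · rw [pow_succ]; exact Ideal.mul_mem_mul htm ht'm
        · have h5 : u * v - t * t' = t * r' + (u - t) * v := by rw [← htr]; ring
          rw [h5]
          refine Ideal.add_mem _ ?_ ?_
          · obtain ⟨a, ha, b, hb, hab⟩ := Submodule.mem_sup.1 hr''
            rw [← hab, mul_add]
            refine Ideal.add_mem _ (Ideal.mem_sup_left ?_) (Ideal.mem_sup_right (Ideal.mul_mem_left _ _ hb))
            have : t * a ∈ m ^ i * m ^ 2 := Ideal.mul_mem_mul htm ha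
            rwa [← pow_add] at this
          · obtain ⟨a, ha, b, hb, hab⟩ := Submodule.mem_sup.1 htd
            rw [← hab, add_mul]
            refine Ideal.add_mem _ (Ideal.mem_sup_left ?_) (Ideal.mem_sup_right (Ideal.mul_mem_right _ _ hb))
            rw [pow_succ]
            exact Ideal.mul_mem_mul ha hv
      | add x hx y hy ihx ihy =>
        obtain ⟨t, htS, htm, htd⟩ := ihx
        obtain ⟨t', htS', htm', htd'⟩ := ihy
        refine ⟨t + t', S.add_mem htS htS', Ideal.add_mem _ htm htm', ?_⟩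
        rw [add_sub_add_comm]
        exact Ideal.add_mem _ htd htd'
  have key2 : ∀ i : ℕ, ∀ y : R, ∃ t ∈ S, y - t ∈ m ^ i ⊔ L := by
    intro i
    induction i with
    | zero =>
      intro y
      exact ⟨0, S.zero_mem, by simp⟩
    | succ i ih =>
      intro y
      obtain ⟨t, htS, htd⟩ := ih y
      obtain ⟨a, ha, b, hb, hab⟩ := Submodule.mem_sup.1 htd
      obtain ⟨t', htS', -, htd'⟩ := key i a ha
      refine ⟨t + t', S.add_mem htS htS', ?_⟩
      have h5 : y - (t + t') = (a - t') + b := by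
        rw [← sub_sub, ← hab]; ring
      rw [h5]
      exact Ideal.add_mem _ htd' (Ideal.mem_sup_right hb)
  obtain ⟨n, hn⟩ := isNilpotent_maximalIdeal R
  have hN : IsNoetherian Λ R := (isArtinian hk R).2
  have h6 : (⊤ : Submodule Λ R) ≤ Subalgebra.toSubmodule S ⊔ maximalIdeal Λ • (⊤ : Submodule Λ R) := by
    intro y _
    obtain ⟨t, htS, htd⟩ := key2 n y
    rw [← hm] at hn
    rw [hn, Ideal.zero_eq_bot, bot_sup_eq] at htd
    have h7 : y = t + (y - t) := by ring
    rw [h7]
    refine Submodule.add_mem_sup htS ?_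
    rw [Ideal.smul_top_eq_map]
    exact htd
  have h7 := Submodule.le_of_le_smul_of_le_jacobson_bot (hN.noetherian ⊤)
    (maximalIdeal_le_jacobson (⊥ : Ideal Λ)) h6
  exact h7 (Submodule.mem_top : y ∈ ⊤)

/-- Polynomials are affine modulo the square of an ideal containing the variables. -/
theorem exists_affine {σ : Type u} [Fintype σ] (M : Ideal (MvPolynomial σ Λ))
    (hM : ∀ i, MvPolynomial.X i ∈ M) (p : MvPolynomial σ Λ) :
    ∃ (c₀ : Λ) (c : σ → Λ), p - (MvPolynomial.C c₀ + ∑ i, MvPolynomial.C (c i) * MvPolynomial.X i) ∈ M ^ 2 := by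
  classical
  induction p using MvPolynomial.induction_on with
  | C a => exact ⟨a, 0, by simp⟩
  | add p q hp hq =>
    obtain ⟨c₀, c, h⟩ := hp
    obtain ⟨d₀, d, h'⟩ := hq
    refine ⟨c₀ + d₀, c + d, ?_⟩
    have := Ideal.add_mem _ h h'
    refine Eq.mp (congrArg (· ∈ M ^ 2) ?_) this
    simp only [Pi.add_apply, map_add, add_mul, Finset.sum_add_distrib]
    ring
  | mul_X p j hp =>
    obtain ⟨c₀, c, h⟩ := hp
    refine ⟨0, Pi.single j c₀, ?_⟩
    have h1 : ∑ i, MvPolynomial.C ((Pi.single j c₀ : σ → Λ) i) * MvPolynomial.X i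
        = MvPolynomial.C c₀ * (MvPolynomial.X j : MvPolynomial σ Λ) := by
      rw [Finset.sum_eq_single j]
      · rw [Pi.single_eq_same]
      · intro i _ hij
        rw [Pi.single_eq_of_ne hij, map_zero, zero_mul]
      · intro h
        exact absurd (Finset.mem_univ j) h
    rw [h1, map_zero, zero_add]
    have h2 : p * MvPolynomial.X j - MvPolynomial.C c₀ * MvPolynomial.X j
        = (p - (MvPolynomial.C c₀ + ∑ i, MvPolynomial.C (c i) * MvPolynomial.X i)) * MvPolynomial.X j
          + (∑ i, MvPolynomial.C (c i) * MvPolynomial.X i) * MvPolynomial.X j := by ring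
    rw [h2]
    refine Ideal.add_mem _ (Ideal.mul_mem_right _ _ h) ?_
    rw [pow_two]
    exact Ideal.mul_mem_mul (Ideal.sum_mem _ fun i _ => Ideal.mul_mem_left _ _ (hM i)) (hM j)

/-- Every object is the quotient of a polynomial ring such that the kernel is contained in `M² + m_Λ P`. -/
theorem exists_presentation (hk : Function.Surjective (algebraMap Λ k)) (R : Art Λ k) :
    ∃ (σ : Type u) (_ : Fintype σ) (π : MvPolynomial σ Λ →ₐ[Λ] R), Function.Surjective π ∧
      RingHom.ker π ≤ NN Λ (MvPolynomial σ Λ) (RingHom.ker (R.res.comp π)) := by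
  classical
  obtain ⟨s, h1, h2, h3⟩ := exists_gens hk R
  let π : MvPolynomial {x // x ∈ s} Λ →ₐ[Λ] R := MvPolynomial.aeval (fun x => x.1)
  have hX : ∀ i : {x // x ∈ s}, π (MvPolynomial.X i) = i.1 := fun i => MvPolynomial.aeval_X _ i
  have hπ : Function.Surjective π := by
    intro y
    have : y ∈ π.range := eq_top_of_gens hk R π.range (s : Set R)
      (fun x hx => ⟨MvPolynomial.X ⟨x, hx⟩, hX _⟩) h1 h2 y
    exact this
  refine ⟨{x // x ∈ s}, inferInstance, π, hπ, ?_⟩
  intro p hp
  set M := RingHom.ker (R.res.comp π) with hMdef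
  have hM : ∀ i, MvPolynomial.X i ∈ M := fun i => by
    rw [hMdef, RingHom.mem_ker]
    change R.res (π (MvPolynomial.X i)) = 0
    rw [hX]
    exact h1 _ i.2
  obtain ⟨c₀, c, hc⟩ := exists_affine M hM p
  -- extend `c` to `R`
  let c' : R → Λ := fun x => if h : x ∈ s then c ⟨x, h⟩ else 0
  have hc' : ∀ i : {x // x ∈ s}, c' i.1 = c i := fun i => dif_pos i.2
  have hsum : ∑ x ∈ s, c' x • x = ∑ i : {x // x ∈ s}, c i • (i.1 : R) := by
    rw [← Finset.sum_coe_sort s (fun x => c' x • x)]
    exact Finset.sum_congr rfl fun i _ => by rw [hc' i]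
  have himg : ∀ z ∈ M ^ 2, π z ∈ maximalIdeal R ^ 2 := by
    intro z hz
    have h5 : (M ^ 2).map π ≤ maximalIdeal R ^ 2 := by
      rw [Ideal.map_pow]
      refine Ideal.pow_right_mono (Ideal.map_le_iff_le_comap.2 fun w hw => ?_) 2
      rw [Ideal.mem_comap, Art.mem_maximalIdeal_iff]
      exact hw
    exact h5 (Ideal.mem_map_of_mem _ hz)
  have hπc : π (MvPolynomial.C c₀ + ∑ i, MvPolynomial.C (c i) * MvPolynomial.X i)
      = algebraMap Λ R c₀ + ∑ i : {x // x ∈ s}, c i • (i.1 : R) := by
    rw [map_add, map_sum]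
    congr 1
    · exact π.commutes c₀
    · refine Finset.sum_congr rfl fun i _ => ?_
      rw [map_mul, hX, Algebra.smul_def]
      congr 1
      exact π.commutes (c i)
  have hp' : π p = 0 := hp
  have h6 : algebraMap Λ R c₀ + ∑ x ∈ s, c' x • x ∈ maximalIdeal R ^ 2 := by
    have := himg _ hc
    rw [map_sub, hp', zero_sub, neg_mem_iff, hπc] at this
    rwa [hsum]
  have h7 : R.res (∑ x ∈ s, c' x • x) = 0 := by
    rw [map_sum]
    refine Finset.sum_eq_zero fun x hx => ?_
    rw [map_smul, h1 x hx, smul_zero]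
  have h8 : c₀ ∈ maximalIdeal Λ := by
    rw [mem_maximalIdeal_iff_algebraMap hk]
    have h9 : R.res (algebraMap Λ R c₀ + ∑ x ∈ s, c' x • x) = 0 :=
      NN_le hk R (Ideal.mem_sup_left h6)
    rwa [map_add, h7, add_zero, AlgHom.commutes] at h9
  have h9 : ∑ x ∈ s, c' x • x ∈ NN Λ R (maximalIdeal R) := by
    have e : ∑ x ∈ s, c' x • x = (algebraMap Λ R c₀ + ∑ x ∈ s, c' x • x) - algebraMap Λ R c₀ := by ring
    rw [e]
    exact Ideal.sub_mem _ (Ideal.mem_sup_left h6) (Ideal.mem_sup_right (Ideal.mem_map_of_mem _ h8))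
  have h10 := h3 c' h9
  have e : p = (p - (MvPolynomial.C c₀ + ∑ i, MvPolynomial.C (c i) * MvPolynomial.X i))
    + (MvPolynomial.C c₀ + ∑ i, MvPolynomial.C (c i) * MvPolynomial.X i) := by ring
  rw [e]
  refine Ideal.add_mem _ (Ideal.mem_sup_left hc) (Ideal.mem_sup_right ?_)
  refine Ideal.add_mem _ (Ideal.mem_map_of_mem (algebraMap Λ (MvPolynomial {x // x ∈ s} Λ)) h8)
    (Ideal.sum_mem _ fun i _ => Ideal.mul_mem_right _ _ ?_)
  have h11 := h10 i.1 i.2
  rw [hc'] at h11
  exact Ideal.mem_map_of_mem (algebraMap Λ (MvPolynomial {x // x ∈ s} Λ)) h11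

end K566.Semismall
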