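import Groth.Agent.S3210
import Groth.Agent.S4054
import Groth.Prelude.Def_BT
import Groth.Agent.Sga7.H274.ValExt

/-!
# The `ℓ`-divisible group of an abelian variety extends over a discrete valuation ring: `ℓ` invertible

If the `ℓ`-divisible group of an abelian variety `A` over `K` extends over `R` and `ℓ` is invertible in `R`, the
inertia groups act trivially on the `ℓ`-power torsion, hence `A` has good reduction.
-/

set_option autoImplicit false
universe u
open CategoryTheory CategoryTheory.Limits AlgebraicGeometry MonObj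

namespace K566.TateEll

section pts

variable {R K Ω : Type u} [CommRing R] [IsLocalRing R]
  [Field K] [Algebra R K] [Field Ω] [Algebra K Ω]

/-- the points of a finite commutative group scheme over `R` of order invertible in `R` are fixed by inertia. -/
theorem fixed (W : ValuationSubring Ω) (hW : SGA7.LiesOver K R W)
    (n : ℕ) (hn : IsUnit (n : R)) (B : Over (Spec (CommRingCat.of R))) [GrpObj B] [IsCommMonObj B]
    [IsProper B.hom] (σ : Ω ≃ₐ[K] Ω) (hσ : SGA7.IsInertia W σ)
    (y : SGA7.pt Ω ⟶ Red.bc (Spec.map (CommRingCat.ofHom (algebraMap R K))) B) (hy : y ^ n = 1) :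
    SGA7.specAut σ ≫ y = y := by
  refine Groth.Agent.S3210.main W hW n hn B ?_ σ hσ y hy
  intro a b
  have : IsCommMonObj (Red.bc (Spec.map (CommRingCat.ofHom (algebraMap R K))) B) := inferInstance
  exact mul_comm (G := SGA7.pt Ω ⟶ Red.bc (Spec.map (CommRingCat.ofHom (algebraMap R K))) B) a b

end pts

/-- the half `ℓ ≠ p` of the criterion. -/
theorem good (R K : Type u) [CommRing R] [IsDomain R] [IsDiscreteValuationRing R]
    [Field K] [Algebra R K] [IsFractionRing R K]
    (A : Over (Spec (CommRingCat.of K))) [GrpObj A] [IsCommMonObj A] [IsProper A.hom] [GeometricallyIntegral A.hom]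
    (l : ℕ) [Fact l.Prime] (hl : (l : IsLocalRing.ResidueField R) ≠ 0)
    (P : ℕ → Over (Spec (CommRingCat.of K))) [∀ ν, GrpObj (P ν)] (i : ∀ ν, P ν ⟶ A) (t : ∀ ν, P (ν + 1) ⟶ P ν)
    (hP : BTGrp.IsTatePro A l P i t)
    (h : ℕ) (G : BTGrp.ProBT l (Spec (CommRingCat.of R)) h)
    (e : ∀ ν, Red.bc (Spec.map (CommRingCat.ofHom (algebraMap R K))) (G.G ν) ≅ P ν)
    (he : ∀ ν, IsMonHom (e ν).hom) :
    SGA7.HasGoodReduction R K A := by
  obtain ⟨W, hW⟩ := Groth.Agent.Sga7.H274.ValExt.exists_liesOver K R (SeparableClosure K)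
  refine Groth.Agent.S4054.result R K (SeparableClosure K) W hW l (Fact.out) hl A ?_
  intro ν σ hσ x hx
  obtain ⟨hi, hk⟩ := hP.1 ν
  have := hi
  have := he ν
  -- lift to the kernel
  let y : SGA7.pt (SeparableClosure K) ⟶ P ν := hk.lift x (CartesianMonoidalCategory.toUnit _) (by
    rw [MonObj.comp_pow, Category.comp_id]
    exact hx.trans (by rw [Hom.one_def]))
  have hy : y ≫ i ν = x := hk.lift_fst _ _ _
  have hyn : y ^ (l ^ ν) = 1 := by
    apply hk.hom_ext
    · rw [MonObj.pow_comp, hy, MonObj.one_comp]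
      exact hx
    · exact CartesianMonoidalCategory.toUnit_unique _ _
  have hun : IsUnit ((l ^ ν : ℕ) : R) := by
    rw [Nat.cast_pow]
    apply IsUnit.pow
    by_contra hc
    apply hl
    have := (IsLocalRing.mem_maximalIdeal (l : R)).2 hc
    have h2 := (IsLocalRing.residue_eq_zero_iff (l : R)).2 this
    rw [map_natCast] at h2
    exact h2
  have : IsProper (G.G ν).hom := by
    have h1 := G.finLocFree ν
    have : IsFinite (G.G ν).hom := h1.1.1
    infer_instance
  let z := y ≫ (e ν).inv
  have hz : z ^ (l ^ ν) = 1 := by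
    have h1 : (z ^ (l ^ ν)) ≫ (e ν).hom = 1 ≫ (e ν).hom := by
      rw [MonObj.pow_comp, MonObj.one_comp]
      dsimp only [z]
      rw [Category.assoc, Iso.inv_hom_id, Category.comp_id]
      exact hyn
    exact (cancel_mono (e ν).hom).1 h1
  have hz2 := fixed W hW (l ^ ν) hun (G.G ν) σ hσ z hz
  have h3 : z ≫ (e ν).hom ≫ i ν = x := by
    dsimp only [z]
    rw [Category.assoc, Iso.inv_hom_id_assoc, hy]
  change SGA7.specAut σ ≫ x = x
  rw [← h3, ← Category.assoc, hz2]

end K566.TateEll
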